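import Cfsg.Agent.Lib.Perm.FixFour.PermFacts

/-!
Transitive actions of simple groups in which nonidentity elements fix at most four points:
the sets of fixed points of elements of prime order as blocks.
-/

set_option autoImplicit false
set_option linter.unusedSectionVars false
set_option linter.style.haveILetI false

open MulAction
open scoped Pointwise

namespace Cfsg.Agent.Perm.FixFour

universe u v

/-- The standing hypotheses. -/
structure Setting (G : Type u) (Ω : Type v) [Group G] [MulAction G Ω] : Prop where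
  simple : IsSimpleGroup G
  nonab : ¬ IsMulCommutative G
  faithful : FaithfulSMul G Ω
  trans : IsPretransitive G Ω
  le4 : ∀ g : G, g ≠ 1 → (fixedBy Ω g).ncard ≤ 4
  big : 4 < Nat.card Ω

variable {G : Type u} {Ω : Type v} [Group G] [Finite G] [MulAction G Ω] [Finite Ω]

/-- `F` is a nonempty set of at most four points, and it is the whole fixed-point set of each element of
order `p` fixing it pointwise. -/
structure Block (G : Type u) {Ω : Type v} [Group G] [MulAction G Ω] (p : ℕ) (F : Set Ω) : Prop where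
  ne : F.Nonempty
  le : F.ncard ≤ 4
  sharp : ∀ g : G, orderOf g = p → g ∈ fixingSubgroup G F → fixedBy Ω g = F

theorem mem_fix {F : Set Ω} {g : G} : g ∈ fixingSubgroup G F ↔ F ⊆ fixedBy Ω g :=
  ⟨fun h x hx => (mem_fixingSubgroup_iff G).1 h x hx, fun h => (mem_fixingSubgroup_iff G).2 h⟩

theorem fix_le_stab {F : Set Ω} : fixingSubgroup G F ≤ stabilizer G F := fun g hg => by
  refine mem_stabilizer_iff.2 (Set.ext fun x => ⟨?_, fun hx => ⟨x, hx, (mem_fix.1 hg) hx⟩⟩)
  rintro ⟨y, hy, rfl⟩
  change g • y ∈ F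
  rwa [(mem_fix.1 hg) hy]

theorem smul_mem_block {F : Set Ω} {g : G} (hg : g ∈ stabilizer G F) {x : Ω} (hx : x ∈ F) : g • x ∈ F := by
  exact (mem_stabilizer_iff.1 hg) ▸ Set.smul_mem_smul_set (a := g) hx

/-- Conjugation moves the fixed points. -/
theorem fixedBy_conj (g x : G) : fixedBy Ω (g * x * g⁻¹) = g • fixedBy Ω x :=
  (smul_fixedBy Ω x g).symm

theorem fixedBy_conj' (g x : G) : fixedBy Ω (g⁻¹ * x * g) = g⁻¹ • fixedBy Ω x := by
  rw [← fixedBy_conj g⁻¹ x, inv_inv]

theorem commute_stab {g x : G} (h : g * x = x * g) : g ∈ stabilizer G (fixedBy Ω x) := by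
  rw [mem_stabilizer_iff, ← fixedBy_conj, h, mul_inv_cancel_right]

theorem mem_fix_conj {F : Set Ω} (g x : G) :
    g * x * g⁻¹ ∈ fixingSubgroup G (g • F) ↔ x ∈ fixingSubgroup G F := by
  rw [mem_fix, mem_fix, fixedBy_conj, Set.smul_set_subset_smul_set_iff]

theorem mem_stab_conj {F : Set Ω} (g x : G) :
    g * x * g⁻¹ ∈ stabilizer G (g • F) ↔ x ∈ stabilizer G F := by
  rw [mem_stabilizer_iff, mem_stabilizer_iff, mul_smul, mul_smul, inv_smul_smul,
    smul_left_cancel_iff]

theorem fix_conj_stab {F : Set Ω} {g x : G} (hg : g ∈ stabilizer G F) (hx : x ∈ fixingSubgroup G F) :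
    g * x * g⁻¹ ∈ fixingSubgroup G F := by
  have h := (mem_fix_conj (F := F) g x).2 hx
  rwa [mem_stabilizer_iff.1 hg] at h

theorem fix_conj_stab' {F : Set Ω} {g x : G} (hg : g ∈ stabilizer G F) (hx : x ∈ fixingSubgroup G F) :
    g⁻¹ * x * g ∈ fixingSubgroup G F := by
  simpa using fix_conj_stab (inv_mem hg) hx

theorem Block.translate {p : ℕ} {F : Set Ω} (hB : Block G p F) (g : G) : Block G p (g • F) where
  ne := hB.ne.smul_set
  le := by rw [Set.ncard_smul_set]; exact hB.le
  sharp x hx hxF := by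
    have hy : g⁻¹ * x * g ∈ fixingSubgroup G F := by
      rw [← mem_fix_conj g, show g * (g⁻¹ * x * g) * g⁻¹ = x by group]
      exact hxF
    have h := hB.sharp _ (by
      rw [show g⁻¹ * x * g = MulAut.conj g⁻¹ x by simp]
      rwa [MulEquiv.orderOf_eq]) hy
    rw [fixedBy_conj'] at h
    rw [← h, smul_inv_smul]

theorem Block.eq_of_mem {p : ℕ} {F F' : Set Ω} (hB : Block G p F) (hB' : Block G p F') {g : G}
    (hg : orderOf g = p) (h : g ∈ fixingSubgroup G F) (h' : g ∈ fixingSubgroup G F') : F = F' :=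
  (hB.sharp g hg h).symm.trans (hB'.sharp g hg h')

theorem Block.mem_stab {p : ℕ} {F : Set Ω} (hB : Block G p F) {g x : G} (hx : orderOf x = p)
    (hxF : x ∈ fixingSubgroup G F) (h : g * x * g⁻¹ ∈ fixingSubgroup G F) : g ∈ stabilizer G F :=
  mem_stabilizer_iff.2 ((hB.translate g).eq_of_mem hB (g := g * x * g⁻¹) (by
    rw [show g * x * g⁻¹ = MulAut.conj g x by simp, MulEquiv.orderOf_eq, hx]) ((mem_fix_conj g x).2 hxF) h)

theorem Block.centralizer_le {p : ℕ} {F : Set Ω} (hB : Block G p F) {g x : G} (hx : orderOf x = p)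
    (hxF : x ∈ fixingSubgroup G F) (h : g * x = x * g) : g ∈ stabilizer G F := by
  refine hB.mem_stab hx hxF ?_
  rwa [h, mul_inv_cancel_right]

/-- Nontrivial elements fixing more than four points do not exist. -/
theorem Setting.eq_one (hS : Setting G Ω) {g : G} {A : Set Ω} (hA : A ⊆ fixedBy Ω g) (h : 4 < A.ncard) :
    g = 1 := by
  by_contra hne
  have := (Set.ncard_le_ncard hA (Set.toFinite _)).trans (hS.le4 g hne)
  omega

theorem Setting.stab_ne_top (hS : Setting G Ω) {F : Set Ω} (hne : F.Nonempty) (hle : F.ncard ≤ 4) :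
    stabilizer G F ≠ ⊤ := fun h => by
  haveI := hS.trans
  obtain ⟨x, hx⟩ := hne
  have hall : F = Set.univ := Set.eq_univ_of_forall fun y => by
    obtain ⟨g, rfl⟩ := exists_smul_eq G x y
    exact smul_mem_block (h ▸ Subgroup.mem_top g) hx
  rw [hall, Set.ncard_univ] at hle
  exact absurd hS.big (not_lt.2 hle)

theorem Setting.hom_trivial (hS : Setting G Ω) {A : Type*} [CommGroup A] (φ : G →* A) (g : G) : φ g = 1 := by
  haveI := hS.simple
  rcases (φ.normal_ker).eq_bot_or_eq_top with h | h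
  · refine absurd ⟨⟨fun a b => (φ.ker_eq_bot_iff.1 h) ?_⟩⟩ hS.nonab
    rw [map_mul, map_mul, mul_comm]
  · exact MonoidHom.mem_ker.1 (h ▸ Subgroup.mem_top g)

theorem Setting.sign_eq_one (hS : Setting G Ω) [Fintype Ω] [DecidableEq Ω] (g : G) :
    Equiv.Perm.sign (MulAction.toPerm g : Equiv.Perm Ω) = 1 :=
  hS.hom_trivial ((Equiv.Perm.sign).comp (MulAction.toPermHom G Ω)) g

/-- An involution moves a multiple of four points. -/
theorem Setting.four_dvd (hS : Setting G Ω) {g : G} (hg : g ^ 2 = 1) :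
    4 ∣ Nat.card Ω - (fixedBy Ω g).ncard := by
  classical
  haveI := Fintype.ofFinite Ω
  set σ : Equiv.Perm Ω := MulAction.toPerm g with hσ
  have h2 : σ ^ 2 = 1 := by
    rw [hσ, ← MulAction.toPermHom_apply, ← map_pow, hg, map_one]
  have hs := hS.sign_eq_one g
  rw [← hσ] at hs
  have hc : (fixedBy Ω g).ncard + σ.support.card = Nat.card Ω := by
    rw [Set.ncard_eq_toFinset_card', Nat.card_eq_fintype_card, ← Finset.card_compl_add_card σ.support]
    congr 1
    refine congrArg Finset.card (Finset.ext fun x => ?_)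
    simp [hσ]
  have hmem : ∀ n ∈ σ.cycleType, n = 2 := fun n hn => by
    have h1 := Nat.le_of_dvd two_pos
      ((Equiv.Perm.dvd_of_mem_cycleType hn).trans (orderOf_dvd_of_pow_eq_one h2))
    have h3 := Equiv.Perm.two_le_of_mem_cycleType hn
    omega
  have hrep := Multiset.eq_replicate_card.2 hmem
  have hsum : σ.cycleType.sum = Multiset.card σ.cycleType * 2 := by
    conv_lhs => rw [hrep]
    rw [Multiset.sum_replicate, smul_eq_mul]
  rw [Equiv.Perm.sign_of_cycleType, hsum,
    show Multiset.card σ.cycleType * 2 + Multiset.card σ.cycleType = Multiset.card σ.cycleType * 3 by ring,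
    pow_mul] at hs
  obtain ⟨k, hk⟩ : Even (Multiset.card σ.cycleType) := by
    rcases Nat.even_or_odd (Multiset.card σ.cycleType) with h | h
    · exact h
    · exfalso
      rw [h.neg_one_pow] at hs
      exact absurd hs (by decide)
  rw [Equiv.Perm.sum_cycleType, hk] at hsum
  exact ⟨k, by omega⟩

/-- The action on a block, in letters. -/
noncomputable def perm {F : Set Ω} {k : ℕ} (hk : F.ncard = k) :
    stabilizer G F →* Equiv.Perm (Fin k) :=
  let e : F ≃ Fin k := (Finite.equivFinOfCardEq ((Nat.card_coe_set_eq F).trans hk))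
  { toFun := fun g => e.permCongr
      { toFun := fun x => ⟨(g : G) • (x : Ω), smul_mem_block g.2 x.2⟩
        invFun := fun x => ⟨(g⁻¹ : G) • (x : Ω), smul_mem_block (inv_mem g.2) x.2⟩
        left_inv := fun x => Subtype.ext (inv_smul_smul (g : G) (x : Ω))
        right_inv := fun x => Subtype.ext (smul_inv_smul (g : G) (x : Ω)) }
    map_one' := Equiv.ext fun i => by simp [Equiv.permCongr_apply]
    map_mul' := fun g h => Equiv.ext fun i => by simp [Equiv.permCongr_apply, mul_smul] }

/-- A point of the block by its letter. -/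
noncomputable def pt {F : Set Ω} {k : ℕ} (hk : F.ncard = k) (i : Fin k) : Ω :=
  ((Finite.equivFinOfCardEq ((Nat.card_coe_set_eq F).trans hk)).symm i : F)

theorem pt_mem {F : Set Ω} {k : ℕ} (hk : F.ncard = k) (i : Fin k) : pt hk i ∈ F := Subtype.coe_prop _

theorem pt_surj {F : Set Ω} {k : ℕ} (hk : F.ncard = k) {x : Ω} (hx : x ∈ F) : ∃ i, pt hk i = x :=
  ⟨(Finite.equivFinOfCardEq ((Nat.card_coe_set_eq F).trans hk)) ⟨x, hx⟩, by simp [pt]⟩

theorem pt_inj {F : Set Ω} {k : ℕ} (hk : F.ncard = k) {i j : Fin k} (h : pt hk i = pt hk j) : i = j :=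
  (Finite.equivFinOfCardEq ((Nat.card_coe_set_eq F).trans hk)).symm.injective (Subtype.ext h)

theorem pt_perm {F : Set Ω} {k : ℕ} (hk : F.ncard = k) (g : stabilizer G F) (i : Fin k) :
    pt hk (perm hk g i) = (g : G) • pt hk i := by
  simp [pt, perm, Equiv.permCongr_apply]

theorem perm_eq_one {F : Set Ω} {k : ℕ} (hk : F.ncard = k) {g : stabilizer G F} :
    perm hk g = 1 ↔ (g : G) ∈ fixingSubgroup G F := by
  rw [mem_fix]
  constructor
  · intro h x hx
    obtain ⟨i, rfl⟩ := pt_surj hk hx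
    change (g : G) • pt hk i = pt hk i
    rw [← pt_perm, h, Equiv.Perm.one_apply]
  · intro h
    refine Equiv.ext fun i => pt_inj hk ?_
    rw [pt_perm, Equiv.Perm.one_apply]
    exact h (pt_mem hk i)

theorem perm_eq {F : Set Ω} {k : ℕ} (hk : F.ncard = k) {g h : stabilizer G F} :
    perm hk g = perm hk h ↔ (g : G)⁻¹ * h ∈ fixingSubgroup G F := by
  rw [show (g : G)⁻¹ * h = ((g⁻¹ * h : stabilizer G F) : G) from rfl, ← perm_eq_one hk, map_mul, map_inv,
    inv_mul_eq_one]

/-- A subgroup of the stabiliser of a block. -/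
theorem card_le_of_inf_eq_bot {F : Set Ω} {k : ℕ} (hk : F.ncard = k) {Q : Subgroup G}
    (hQ : Q ≤ stabilizer G F) (h : Q ⊓ fixingSubgroup G F = ⊥) :
    Nat.card Q ∣ k.factorial := by
  let f : Q →* Equiv.Perm (Fin k) := (perm hk).comp (Subgroup.inclusion hQ)
  have hf : Function.Injective f := f.ker_eq_bot_iff.1 ((Subgroup.eq_bot_iff_forall _).2 fun q hq =>
    Subtype.ext ((Subgroup.eq_bot_iff_forall _).1 h q.1 ⟨q.2, (perm_eq_one hk).1 (MonoidHom.mem_ker.1 hq)⟩))
  have := Subgroup.card_dvd_of_injective f hf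
  rwa [Nat.card_perm, Nat.card_fin] at this

end Cfsg.Agent.Perm.FixFour
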