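import Cfsg.Agent.Lib.Perm.FixFour.Frame
import Cfsg.Prelude.Def_Involutions

/-!
Involutions with fixed points: the block of an involution fixing the largest number of points.
-/

set_option autoImplicit false
set_option linter.unusedSectionVars false
set_option linter.style.haveILetI false

open MulAction
open scoped Pointwise

namespace Cfsg.Agent.Perm.FixFour

open Cfsg.Agent.Fusion (SylIn cj mem_cj conj_mem_cj cj_eq_self cj_mono card_cj)

universe u v

variable {G : Type u} {Ω : Type v} [Group G] [Finite G] [MulAction G Ω] [Finite Ω]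

/-- `f` is the largest number of points fixed by an involution, and `t` fixes the `f` points of `F`. -/
structure Top (G : Type u) {Ω : Type v} [Group G] [MulAction G Ω] (F : Set Ω) (f : ℕ) (t : G) : Prop where
  pos : 1 ≤ f
  max : ∀ g : G, orderOf g = 2 → (fixedBy Ω g).ncard ≤ f
  ord : orderOf t = 2
  fix : fixedBy Ω t = F
  card : F.ncard = f

variable {F : Set Ω} {f : ℕ} {t : G}

theorem orderOf_two {g : G} (h : g * g = 1) (h1 : g ≠ 1) : orderOf g = 2 :=
  haveI := Fact.mk Nat.prime_two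
  orderOf_eq_prime (by rw [pow_two]; exact h) h1

theorem sq_one {g : G} (h : orderOf g = 2) : g * g = 1 := by
  rw [← pow_two, ← h, pow_orderOf_eq_one]

theorem ne_one_of_two {g : G} (h : orderOf g = 2) : g ≠ 1 := fun e => by
  rw [e, orderOf_one] at h
  exact absurd h (by norm_num)

theorem orderOf_conj_two {g : G} (x : G) (h : orderOf g = 2) : orderOf (x * g * x⁻¹) = 2 := by
  rw [show x * g * x⁻¹ = MulAut.conj x g by simp, MulEquiv.orderOf_eq, h]

theorem isPGroup_zpowers {g : G} (h : orderOf g = 2) : IsPGroup 2 (Subgroup.zpowers g) :=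
  haveI := Fact.mk Nat.prime_two
  IsPGroup.of_card (n := 1) (by rw [Nat.card_zpowers, h, pow_one])

theorem Top.mem (hT : Top G F f t) : t ∈ fixingSubgroup G F := mem_fix.2 hT.fix.ge

theorem Top.mem_stab (hT : Top G F f t) : t ∈ stabilizer G F := fix_le_stab hT.mem

theorem Top.block (hS : Setting G Ω) (hT : Top G F f t) : Block G 2 F where
  ne := (Set.ncard_pos (Set.toFinite _)).1 (by rw [hT.card]; exact hT.pos)
  le := hT.fix ▸ hS.le4 t (ne_one_of_two hT.ord)
  sharp g hg hgF :=
    (Set.eq_of_subset_of_ncard_le (mem_fix.1 hgF) (by rw [hT.card]; exact hT.max g hg)).symm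

theorem Top.le_four (hS : Setting G Ω) (hT : Top G F f t) : f ≤ 4 := hT.card ▸ (hT.block hS).le

/-- All involutions fix the same number of points modulo four. -/
theorem Top.mod_four (hS : Setting G Ω) (hT : Top G F f t) {g : G} (hg : orderOf g = 2) :
    (fixedBy Ω g).ncard % 4 = f % 4 := by
  have h1 := hS.four_dvd (g := g) (by rw [pow_two]; exact sq_one hg)
  have h2 := hS.four_dvd (g := t) (by rw [pow_two]; exact sq_one hT.ord)
  rw [hT.fix, hT.card] at h2
  have h3 : (fixedBy Ω g).ncard ≤ Nat.card Ω := by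
    rw [← Set.ncard_univ]; exact Set.ncard_le_ncard (Set.subset_univ _) (Set.toFinite _)
  have h4 : f ≤ Nat.card Ω := by
    rw [← hT.card, ← Set.ncard_univ]; exact Set.ncard_le_ncard (Set.subset_univ _) (Set.toFinite _)
  omega

/-- An involution with as many fixed points, but other ones, has some off the block. -/
theorem exists_fixed_out {g : G} (h : F.ncard ≤ (fixedBy Ω g).ncard) (hg : g ∉ fixingSubgroup G F) :
    ∃ x ∈ fixedBy Ω g, x ∉ F := by
  refine Set.not_subset.1 fun hsub => hg (mem_fix.2 ?_)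
  rw [Set.eq_of_subset_of_ncard_le hsub h]

/-- All involutions of the stabiliser fix the block pointwise. -/
theorem Top.strongly_embedded (hS : Setting G Ω) (hT : Top G F f t)
    (hall : ∀ x ∈ stabilizer G F, orderOf x = 2 → x ∈ fixingSubgroup G F) :
    ∃ H : Subgroup G, Cfsg.IsStronglyEmbedded H := by
  haveI := Fact.mk Nat.prime_two
  refine ⟨stabilizer G F, hS.stab_ne_top (hT.block hS).ne (hT.block hS).le, ?_, fun g hg => ?_⟩
  · rw [even_iff_two_dvd, ← hT.ord, ← Subgroup.orderOf_mk t hT.mem_stab]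
    exact orderOf_dvd_natCard _
  · rw [← Nat.not_even_iff_odd, even_iff_two_dvd]
    exact (hT.block hS).not_dvd_inf hall g hg

/-- Either a strongly embedded subgroup, or a frame with an involution moving the block. -/
theorem Top.exists_setup (hS : Setting G Ω) (hT : Top G F f t)
    (hno : ¬ ∃ H : Subgroup G, Cfsg.IsStronglyEmbedded H) :
    ∃ (P : Sylow 2 G) (u v : G), SylIn 2 ((P : Subgroup G) ⊓ stabilizer G F) (stabilizer G F) ∧
      u ∈ (P : Subgroup G) ∧ u ∈ stabilizer G F ∧ orderOf u = 2 ∧ u ∉ fixingSubgroup G F ∧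
      v ∈ (P : Subgroup G) ∧ orderOf v = 2 ∧ v ∈ fixingSubgroup G F := by
  haveI := Fact.mk Nat.prime_two
  by_cases hall : ∀ x ∈ stabilizer G F, orderOf x = 2 → x ∈ fixingSubgroup G F
  · exact absurd (hT.strongly_embedded hS hall) hno
  push Not at hall
  obtain ⟨u, huM, hu, huK⟩ := hall
  obtain ⟨P, hP, huP⟩ := exists_frame (F := F) (isPGroup_zpowers hu) (Subgroup.zpowers_le.2 huM)
  have h := (sylIn_fix hP).card_le (isPGroup_zpowers hT.ord) (Subgroup.zpowers_le.2 hT.mem)
  rw [Nat.card_zpowers, hT.ord] at h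
  obtain ⟨n, hn⟩ := IsPGroup.iff_card.1 (P.isPGroup'.to_inf_left (K := fixingSubgroup G F))
  have h2 : 2 ∣ Nat.card ((P : Subgroup G) ⊓ fixingSubgroup G F : Subgroup G) := by
    rw [hn] at h ⊢
    rcases n with _ | n
    · norm_num at h
    · exact dvd_pow_self 2 (Nat.succ_ne_zero n)
  obtain ⟨⟨v, hv⟩, hvo⟩ := exists_prime_orderOf_dvd_card' 2 h2
  rw [Subgroup.orderOf_mk] at hvo
  exact ⟨P, u, v, hP, huP (Subgroup.mem_zpowers u), huM, hu, huK, hv.1, hvo, hv.2⟩

theorem card_inf_dvd {P : Sylow 2 G} {k : ℕ} (hk : F.ncard = k) {Q : Subgroup G} (hQP : Q ≤ (P : Subgroup G))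
    (hQM : Q ≤ stabilizer G F) :
    ∃ r : ℕ, Nat.card Q = Nat.card (Q ⊓ fixingSubgroup G F : Subgroup G) * r ∧ r ∣ k.factorial ∧
      ∃ a : ℕ, r = 2 ^ a := by
  haveI := Fact.mk Nat.prime_two
  refine ⟨(Q ⊓ fixingSubgroup G F).relIndex Q, ?_, relIndex_dvd hk hQM, ?_⟩
  · rw [← Nat.card_congr (Subgroup.subgroupOfEquivOfLe (inf_le_left : Q ⊓ fixingSubgroup G F ≤ Q)).toEquiv]
    exact (Subgroup.card_mul_index _).symm
  · exact (P.isPGroup'.to_le hQP).index _

end Cfsg.Agent.Perm.FixFour
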