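import Cfsg.Agent.Lib.Solv.SelfCentEight.Main

/-!
A `2`-group with an elementary subgroup of order sixteen which is the centralizer of each involution of a
four-subgroup has sectional rank at most four.
-/

set_option autoImplicit false
set_option linter.style.haveILetI false

namespace Cfsg.Agent.Perm.FixFour

open Cfsg.Agent.Solv
open Cfsg.Agent.Solv.SelfCentEight (mem_centralizer' split second second_eq_one first_abelian comm_mem
  exists_step exists_thin fixed_map fixed_sq)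

variable {S : Type*} [Group S] [Finite S]

omit [Finite S] in
theorem inv_eq_self' {E : Subgroup S} (he : ∀ x ∈ E, x ^ 2 = 1) {x : S} (hx : x ∈ E) : x⁻¹ = x :=
  inv_eq_of_mul_eq_one_left (by rw [← pow_two]; exact he x hx)

omit [Finite S] in
theorem commute_elem {E : Subgroup S} (he : ∀ x ∈ E, x ^ 2 = 1) {x y : S} (hx : x ∈ E) (hy : y ∈ E) :
    Commute x y := by
  have h := inv_eq_self' he (mul_mem hx hy)
  rw [mul_inv_rev, inv_eq_self' he hx, inv_eq_self' he hy] at h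
  exact h.symm

/-- The bound when the subgroup of order sixteen is normal. -/
theorem bound_of_normal_sixteen (h2 : IsPGroup 2 S) {E R : Subgroup S} [E.Normal] (hE : Nat.card E = 16)
    (hEe : ∀ x ∈ E, x ^ 2 = 1) (hRE : R ≤ E) (hR : Nat.card R = 4)
    (hcent : ∀ r ∈ R, r ≠ 1 → ∀ g, Commute g r → g ∈ E)
    (hTI : ∀ r ∈ R, r ≠ 1 → ∀ g, g * r * g⁻¹ ∈ R → g ∈ E) (H : Subgroup S) :
    (FourGen.sq H).relIndex H ≤ 16 := by
  haveI := Fact.mk Nat.prime_two
  have hEc : ∀ x ∈ E, ∀ y ∈ E, Commute x y := fun x hx y hy => commute_elem hEe hx hy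
  -- at most four cosets
  have hidx : E.index ≤ 4 := by
    let Φ : ((R : Set S) \ {1} : Set S) × (S ⧸ E) → ((E : Set S) \ {1} : Set S) := fun p =>
      ⟨p.2.out * p.1.1 * p.2.out⁻¹, Subgroup.Normal.conj_mem inferInstance _ (hRE p.1.2.1) _,
        fun h => p.1.2.2 (conj_eq_one_iff.1 h)⟩
    have hΦ : Function.Injective Φ := by
      rintro ⟨r, q⟩ ⟨s, c⟩ h
      have h' : q.out * r.1 * q.out⁻¹ = c.out * s.1 * c.out⁻¹ := congrArg Subtype.val h
      have h3 : (c.out⁻¹ * q.out) * r.1 * (c.out⁻¹ * q.out)⁻¹ = s.1 := by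
        calc _ = c.out⁻¹ * (q.out * r.1 * q.out⁻¹) * c.out := by group
          _ = s.1 := by rw [h']; group
      have hmem : c.out⁻¹ * q.out ∈ E := hTI r.1 r.2.1 r.2.2 _ (by rw [h3]; exact s.2.1)
      have hq : q = c := by
        rw [← QuotientGroup.out_eq' q, ← QuotientGroup.out_eq' c]
        exact (QuotientGroup.eq.2 hmem).symm
      subst hq
      exact Prod.ext (Subtype.ext (mul_left_cancel (mul_right_cancel h'))) rfl
    have h := Nat.card_le_card_of_injective Φ hΦ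
    rw [Nat.card_prod, Nat.card_coe_set_eq, Nat.card_coe_set_eq,
      Set.ncard_diff_singleton_of_mem (one_mem R : (1 : S) ∈ (R : Set S)),
      Set.ncard_diff_singleton_of_mem (one_mem E : (1 : S) ∈ (E : Set S)), ← Nat.card_coe_set_eq,
      ← Nat.card_coe_set_eq, ← Subgroup.index_eq_card] at h
    change (Nat.card R - 1) * E.index ≤ Nat.card E - 1 at h
    rw [hR, hE] at h
    obtain ⟨a, ha⟩ := h2.index E
    rw [ha] at h ⊢
    by_contra hgt
    have h3 : 3 ≤ a := by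
      by_contra h3
      exact hgt ((Nat.pow_le_pow_right (by norm_num) (show a ≤ 2 by omega)).trans (by norm_num))
    have := Nat.pow_le_pow_right (show 0 < 2 by norm_num) h3
    omega
  rw [split H E]
  have hfirst : (FourGen.sq H).relIndex (H ⊓ E) ≤ Nat.card E :=
    (first_abelian (H := H) (W := E) inf_le_left (fun x hx y hy => hEc x hx.2 y hy.2) fun k hk _ => hk.2).1
  have hsecond : second E H ≤ 4 := by
    refine le_trans ?_ hidx
    refine (Nat.le_of_dvd (Nat.pos_of_ne_zero Subgroup.index_ne_zero_of_finite)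
      (Subgroup.index_dvd_of_le le_sup_right)).trans ?_
    exact Nat.le_of_dvd (Nat.pos_of_ne_zero Subgroup.index_ne_zero_of_finite)
      (Subgroup.relIndex_dvd_index_of_normal E H)
  by_cases hHE : H ≤ E
  · rw [second_eq_one hHE, mul_one]
    exact hfirst.trans hE.le
  obtain ⟨h, hh, hhE⟩ := SetLike.not_le_iff_exists.1 hHE
  set K := H ⊓ E with hK
  have hn : ∀ x ∈ K, h * x * h⁻¹ ∈ E := fun x hx => Subgroup.Normal.conj_mem inferInstance x hx.2 h
  let δ : K →* K := MonoidHom.mk'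
    (fun x => ⟨x.1 * (h * x.1 * h⁻¹), K.mul_mem x.2 ⟨H.mul_mem (H.mul_mem hh x.2.1) (H.inv_mem hh), hn _ x.2⟩⟩)
    fun x y => Subtype.ext (by
      change x.1 * y.1 * (h * (x.1 * y.1) * h⁻¹) = x.1 * (h * x.1 * h⁻¹) * (y.1 * (h * y.1 * h⁻¹))
      rw [← conj_mul]
      exact Commute.mul_mul_mul_comm (hEc _ y.2.2 _ (hn _ x.2)) _ _)
  have hle : δ.range ≤ (FourGen.sq H).subgroupOf K := by
    rintro _ ⟨x, rfl⟩
    refine Subgroup.mem_subgroupOf.2 ?_
    have h1 := comm_mem (x := x.1) x.2.1 hh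
    rw [inv_eq_self' hEe x.2.2] at h1
    exact h1
  have h1 : δ.range.index = Nat.card δ.ker := by
    have h1 := δ.range.card_mul_index
    have h3 := δ.ker.card_mul_index
    rw [Subgroup.index_ker, ← h1, mul_comm] at h3
    exact (Nat.eq_of_mul_eq_mul_left Nat.card_pos h3).symm
  have h4 : Nat.card δ.ker ≤ 4 := by
    -- the kernel meets `R` trivially
    let J : Subgroup S := δ.ker.map K.subtype
    have hJE : J ≤ E := by rintro _ ⟨x, -, rfl⟩; exact x.2.2
    have hJR : J ⊓ R = ⊥ := (Subgroup.eq_bot_iff_forall _).2 fun r hr => by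
      by_contra hr1
      obtain ⟨⟨x, hx, rfl⟩, hrR⟩ := hr
      have h2' : x.1 * (h * x.1 * h⁻¹) = 1 := congrArg Subtype.val (MonoidHom.mem_ker.1 hx)
      have h3 := eq_inv_of_mul_eq_one_right h2'
      rw [inv_eq_self' hEe x.2.2, mul_inv_eq_iff_eq_mul] at h3
      exact hhE (hcent _ hrR hr1 h h3)
    have hinj : Function.Injective (fun p : J × R => (⟨p.1.1 * p.2.1, mul_mem (hJE p.1.2) (hRE p.2.2)⟩ : E)) := by
      rintro ⟨a, r⟩ ⟨b, s⟩ hab
      have hab' : a.1 * r.1 = b.1 * s.1 := congrArg Subtype.val hab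
      have hmem : b.1⁻¹ * a.1 ∈ J ⊓ R := ⟨J.mul_mem (J.inv_mem b.2) a.2, by
        rw [show b.1⁻¹ * a.1 = s.1 * r.1⁻¹ by
          rw [eq_mul_inv_iff_mul_eq, mul_assoc, hab', inv_mul_cancel_left]]
        exact R.mul_mem s.2 (R.inv_mem r.2)⟩
      rw [hJR, Subgroup.mem_bot, inv_mul_eq_one] at hmem
      rw [← hmem] at hab'
      exact Prod.ext (Subtype.ext hmem.symm) (Subtype.ext (mul_left_cancel hab'))
    have := Nat.card_le_card_of_injective _ hinj
    rw [Nat.card_prod, hR, hE, Subgroup.card_map_of_injective K.subtype_injective] at this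
    omega
  have hK4 : (FourGen.sq H).relIndex K ≤ 4 := by
    refine le_trans ?_ (h1.le.trans h4)
    exact Nat.le_of_dvd (Nat.pos_of_ne_zero Subgroup.index_ne_zero_of_finite) (Subgroup.index_dvd_of_le hle)
  exact (Nat.mul_le_mul hK4 hsecond).trans le_rfl

/-- The centralizer of each involution of a four-group is one elementary subgroup of order sixteen. -/
theorem bound_of_four_cent (h2 : IsPGroup 2 S) {E R : Subgroup S} (hE : Nat.card E = 16)
    (hEe : ∀ x ∈ E, x ^ 2 = 1) (hRE : R ≤ E) (hR : Nat.card R = 4)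
    (hcent : ∀ r ∈ R, r ≠ 1 → ∀ g, Commute g r → g ∈ E)
    (hTI : ∀ r ∈ R, r ≠ 1 → ∀ g, g * r * g⁻¹ ∈ R → g ∈ E) (H : Subgroup S) :
    (FourGen.sq H).relIndex H ≤ 16 := by
  haveI := Fact.mk Nat.prime_two
  by_cases hno : FourGen.NoEight S
  · exact FourGen.relIndex_sq_sixteen h2 hno H
  by_cases hEn : E.Normal
  · haveI := hEn
    exact bound_of_normal_sixteen h2 hE hEe hRE hR hcent hTI H
  obtain ⟨X, hX, hXmax⟩ := Set.exists_max_image
    {X : Subgroup S | X.Normal ∧ IsMulCommutative X ∧ ∀ x ∈ X, x ^ 2 = 1}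
    (fun X : Subgroup S => Nat.card X) (Set.toFinite _)
    ⟨⊥, inferInstance, inferInstance, fun x hx => by rw [Subgroup.mem_bot] at hx; rw [hx, one_pow]⟩
  obtain ⟨hXn, hXab, hXe⟩ := hX
  haveI := hXn
  obtain ⟨n, hn⟩ := IsPGroup.iff_card.1 (h2.to_subgroup X)
  have hn3 : 3 ≤ n := by
    by_contra hlt
    refine hno fun Y hYn hYc hYe => ?_
    have h1 := hXmax Y ⟨hYn, hYc, hYe⟩
    have h3 := Nat.pow_le_pow_right (show 0 < 2 by norm_num) (show n ≤ 2 by omega)
    omega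
  have hXc : ∀ x ∈ X, ∀ y ∈ X, Commute x y := fun x hx y hy => commute_elem hXe hx hy
  set C := Subgroup.centralizer (X : Set S) with hC
  haveI : C.Normal := Subgroup.normal_centralizer
  have hnorm : ∀ x ∈ X, ∀ g : S, g * x * g⁻¹ ∈ X := fun x hx g => hXn.conj_mem x hx g
  have hEc : ∀ x ∈ E, ∀ y ∈ E, Commute x y := fun x hx y hy => commute_elem hEe hx hy
  have hXR : ∀ r ∈ R, r ∈ X → r = 1 := fun r hr hrX => by
    by_contra hr1
    have hXE : X ≤ E := fun x hx => hcent r hr hr1 x (hXc x hx r hrX)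
    refine hEn ?_
    have hCE : C = E := le_antisymm
      (fun g hg => hcent r hr hr1 g (mem_centralizer'.1 hg r hrX))
      (fun e he => mem_centralizer'.2 fun x hx => hEc e he x (hXE hx))
    exact hCE ▸ inferInstance
  -- the fixed points on `X` are the same for all of `R`
  set Y := X ⊓ E with hY
  have hfixY : ∀ r ∈ R, r ≠ 1 → X ⊓ Subgroup.centralizer {r} = Y := fun r hr hr1 =>
    le_antisymm (fun x hx => ⟨hx.1, hcent r hr hr1 x (Subgroup.mem_centralizer_singleton_iff.1 hx.2)⟩)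
      fun x hx => ⟨hx.1, Subgroup.mem_centralizer_singleton_iff.2 (hEc x hx.2 r (hRE hr)).eq⟩
  have hY4 : Nat.card Y ≤ 4 := by
    have hinj : Function.Injective (fun p : Y × R => (⟨p.1.1 * p.2.1, mul_mem p.1.2.2 (hRE p.2.2)⟩ : E)) := by
      rintro ⟨a, r⟩ ⟨b, s⟩ hab
      have hab' : a.1 * r.1 = b.1 * s.1 := congrArg Subtype.val hab
      have he : b.1⁻¹ * a.1 = s.1 * r.1⁻¹ := by
        rw [eq_mul_inv_iff_mul_eq, mul_assoc, hab', inv_mul_cancel_left]
      have h1 := hXR _ (he.symm ▸ mul_mem s.2 (inv_mem r.2)) (mul_mem (inv_mem b.2.1) a.2.1)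
      rw [inv_mul_eq_one] at h1
      rw [← h1] at hab'
      exact Prod.ext (Subtype.ext h1.symm) (Subtype.ext (mul_left_cancel hab'))
    have := Nat.card_le_card_of_injective _ hinj
    rw [Nat.card_prod, hR, hE] at this
    omega
  obtain ⟨r₀, hr₀, hr₀1⟩ : ∃ r ∈ R, r ≠ 1 := by
    haveI : Nontrivial R := Finite.one_lt_card_iff_nontrivial.1 (by rw [hR]; norm_num)
    obtain ⟨r, hr⟩ := exists_ne (1 : R)
    exact ⟨r, r.2, fun e => hr (Subtype.ext e)⟩
  have hrr : ∀ r ∈ R, r * r = 1 := fun r hr => by rw [← pow_two]; exact hEe r (hRE hr)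
  have hXle : Nat.card X ≤ Nat.card Y * Nat.card Y := by
    have h := fixed_sq (a := r₀) hXc hXe (fun x hx => hnorm x hx r₀)
      fun x _ => by rw [hrr r₀ hr₀]; exact Commute.one_left x
    rwa [hfixY r₀ hr₀ hr₀1] at h
  have hY4' : Nat.card Y = 4 := by
    have h8 : 2 ^ 3 ≤ Nat.card X := hn ▸ Nat.pow_le_pow_right (by norm_num) hn3
    have h3 : 3 ≤ Nat.card Y := by
      by_contra h
      have := Nat.mul_le_mul (show Nat.card Y ≤ 2 by omega) (show Nat.card Y ≤ 2 by omega)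
      omega
    obtain ⟨i, hi⟩ := IsPGroup.iff_card.1 (h2.to_subgroup Y)
    rw [hi] at hY4 h3 ⊢
    have h5 : i ≤ 2 := (Nat.pow_le_pow_iff_right (by norm_num)).1 (show 2 ^ i ≤ 2 ^ 2 from hY4)
    have h6 : ¬ i ≤ 1 := fun h => by
      have := Nat.pow_le_pow_right (show 0 < 2 by norm_num) h
      omega
    rw [show i = 2 by omega]
    norm_num
  rw [hY4'] at hXle
  -- elements of `C` fixed by `r`, and the difference map of `r`
  have hCfix : ∀ r ∈ R, r ≠ 1 → ∀ x ∈ C, Commute x r → x ∈ X := by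
    intro r hr hr1 x hx hxr
    have hxE : x ∈ E := hcent r hr hr1 x hxr
    have hEYR : E ≤ Y ⊔ R := by
      refine (Subgroup.eq_of_le_of_card_ge (sup_le inf_le_right hRE) ?_).ge
      refine (le_of_eq (show Nat.card E = Nat.card (Y × R) by rw [Nat.card_prod, hY4', hR, hE])).trans ?_
      refine Nat.card_le_card_of_injective (fun p : Y × R =>
        (⟨p.1.1 * p.2.1, mul_mem (Subgroup.mem_sup_left p.1.2) (Subgroup.mem_sup_right p.2.2)⟩ :
          (Y ⊔ R : Subgroup S))) ?_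
      rintro ⟨a, s⟩ ⟨b, u⟩ hab
      have hab' : a.1 * s.1 = b.1 * u.1 := congrArg Subtype.val hab
      have he : b.1⁻¹ * a.1 = u.1 * s.1⁻¹ := by
        rw [eq_mul_inv_iff_mul_eq, mul_assoc, hab', inv_mul_cancel_left]
      have h1 := hXR _ (he.symm ▸ mul_mem u.2 (inv_mem s.2)) (mul_mem (inv_mem b.2.1) a.2.1)
      rw [inv_mul_eq_one] at h1
      rw [← h1] at hab'
      exact Prod.ext (Subtype.ext h1.symm) (Subtype.ext (mul_left_cancel hab'))
    obtain ⟨y, hy, s, hs, rfl⟩ : ∃ y ∈ Y, ∃ s ∈ R, x = y * s := by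
      have hx' := hEYR hxE
      rw [← SetLike.mem_coe, Subgroup.coe_mul_of_left_le_normalizer_right] at hx'
      · obtain ⟨y, hy, s, hs, rfl⟩ := hx'
        exact ⟨y, hy, s, hs, rfl⟩
      · exact fun y hy => Subgroup.mem_normalizer_iff.2 fun s => by
          have hcomm : ∀ q ∈ R, y * q * y⁻¹ = q := fun q hq => by
            rw [(hEc y hy.2 q (hRE hq)).eq, mul_inv_cancel_right]
          constructor
          · intro hs'; rw [hcomm s hs']; exact hs'
          · intro hs'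
            have h := hcomm _ hs'
            rw [show s = y⁻¹ * (y * s * y⁻¹) * y by group]
            rw [(hEc _ (inv_mem hy.2) _ (hRE hs')).eq, inv_mul_cancel_right]
            exact hs'
    by_cases hs1 : s = 1
    · rw [hs1, mul_one]; exact hy.1
    exfalso
    refine hEn ?_
    have hXE : X ≤ E := fun w hw => hcent s hs hs1 w (by
      have h1 : Commute w (y * s) := (mem_centralizer'.1 hx w hw).symm
      have h := (hXc w hw _ (inv_mem hy.1)).mul_right h1
      rwa [inv_mul_cancel_left] at h)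
    exfalso
    have h := Subgroup.card_le_of_le (show X ≤ Y from le_inf le_rfl hXE)
    rw [hY4', hn] at h
    have := Nat.pow_le_pow_right (show 0 < 2 by norm_num) hn3
    omega
  have hdiff : ∀ r ∈ R, r ≠ 1 → ∀ x, x⁻¹ * (r * x * r⁻¹) ∈ X → x⁻¹ * (r * x * r⁻¹) ∈ Y := by
    intro r hr hr1 x hv
    rw [← hfixY r hr hr1]
    refine ⟨hv, Subgroup.mem_centralizer_singleton_iff.2 ?_⟩
    set v := x⁻¹ * (r * x * r⁻¹) with hvdef
    have h1 : r * v * r⁻¹ = v⁻¹ := by
      have hri : r⁻¹ = r := inv_eq_self' hEe (hRE hr)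
      calc r * v * r⁻¹ = r * x⁻¹ * r * x * (r * r)⁻¹ := by rw [hvdef]; group
        _ = r * x⁻¹ * r⁻¹ * x := by rw [hrr r hr, hri]; group
        _ = v⁻¹ := by rw [hvdef]; group
    rw [inv_eq_self' hXe hv] at h1
    exact (mul_inv_eq_iff_eq_mul.1 h1).symm
  -- `r` moves an element into `E` when its difference is a difference on `X`
  have hlift : ∀ r ∈ R, r ≠ 1 → ∀ x, ∀ w ∈ X, x⁻¹ * (r * x * r⁻¹) = w * (r * w * r⁻¹) →
      Commute (x * w) r := by
    intro r hr hr1 x w hw he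
    refine Commute.symm (mul_inv_eq_iff_eq_mul.1 ?_)
    rw [← conj_mul]
    calc r * x * r⁻¹ * (r * w * r⁻¹) = x * (w * (r * w * r⁻¹)) * (r * w * r⁻¹) := by rw [← he]; group
      _ = x * w * ((r * w * r⁻¹) * (r * w * r⁻¹)) := by group
      _ = x * w := by rw [← pow_two, hXe _ (hnorm w hw r), mul_one]
  have hmax : ∀ Z : Subgroup S, Z.Normal → IsMulCommutative Z → (∀ x ∈ Z, x ^ 2 = 1) →
      Nat.card Z ≤ Nat.card X := fun Z h1 h3 h4 => hXmax Z ⟨h1, h3, h4⟩
  rcases (show Nat.card X = 8 ∨ Nat.card X = 16 by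
    rw [hn] at hXle ⊢
    have h4 : n ≤ 4 := (Nat.pow_le_pow_iff_right (by norm_num)).1 (show 2 ^ n ≤ 2 ^ 4 from hXle)
    interval_cases n <;> norm_num) with hX8 | hX16
  · -- choose the involution by a square
    by_cases hex : ∃ e ∈ C, e ∉ X ∧ e ^ 2 ∈ X ∧ ∀ g, e⁻¹ * (g * e * g⁻¹) ∈ X
    swap
    · refine SelfCentEight.eight_case h2 hXc hXe hX8 (fun Z a b c => hX8 ▸ hmax Z a b c) (hrr r₀ hr₀)
        (by rw [hfixY r₀ hr₀ hr₀1, hY4']) (hCfix r₀ hr₀ hr₀1) (fun z₀ hz₀ _ _ _ he => absurd ?_ hex) H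
      obtain ⟨e, heC, heX, he2, hen⟩ := he
      exact ⟨e, heC, heX, he2 ▸ hz₀, hen⟩
    obtain ⟨e, heC, heX, he2, hen⟩ := hex
    have hezc : e ^ 2 ∈ X ⊓ Subgroup.center S := by
      refine ⟨he2, Subgroup.mem_center_iff.2 fun g => ?_⟩
      refine mul_inv_eq_iff_eq_mul.1 ?_
      rw [← conj_pow, show g * e * g⁻¹ = e * (e⁻¹ * (g * e * g⁻¹)) by group,
        (mem_centralizer'.1 heC _ (hen g)).mul_pow, hXe _ (hen g), mul_one]
    have hz : e ^ 2 ∈ Y := by
      rw [← hfixY r₀ hr₀ hr₀1]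
      exact ⟨he2, Subgroup.mem_centralizer_singleton_iff.2 (Subgroup.mem_center_iff.1 hezc.2 r₀).symm⟩
    -- `[X, r] = <e²>` for some `r`
    obtain ⟨x, hx, hxY⟩ : ∃ x ∈ X, x ∉ Y := by
      by_contra h
      push Not at h
      have h1 := Subgroup.card_le_of_le (show X ≤ Y from h)
      omega
    let ρ : R → Y := fun r => ⟨x * ((r : S) * x * (r : S)⁻¹), by
      by_cases hr1 : (r : S) = 1
      · rw [hr1, one_mul, inv_one, mul_one, ← pow_two, hXe x hx]
        exact one_mem Y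
      · have := hdiff r r.2 hr1 x (mul_mem (inv_mem hx) (hnorm x hx r))
        rwa [inv_eq_self' hXe hx] at this⟩
    have hρv : ∀ r : R, (ρ r : S) = x * ((r : S) * x * (r : S)⁻¹) := fun r => rfl
    have hρinj : Function.Injective ρ := by
      intro r s hrs
      have h : x * ((r : S) * x * (r : S)⁻¹) = x * ((s : S) * x * (s : S)⁻¹) := congrArg Subtype.val hrs
      have h' := mul_left_cancel h
      by_contra hne
      have hne' : (s : S)⁻¹ * r ≠ 1 := fun e => hne (Subtype.ext (inv_mul_eq_one.1 e).symm)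
      refine hxY ⟨hx, hcent _ (mul_mem (inv_mem s.2) r.2) hne' x (mul_inv_eq_iff_eq_mul.1 ?_).symm⟩
      calc (s : S)⁻¹ * r * x * ((s : S)⁻¹ * r)⁻¹ = (s : S)⁻¹ * ((r : S) * x * (r : S)⁻¹) * s := by group
        _ = x := by rw [h']; group
    obtain ⟨r, hr⟩ := ((Nat.bijective_iff_injective_and_card ρ).2 ⟨hρinj, by rw [hR, hY4']⟩).2 ⟨e ^ 2, hz⟩
    have hr' : x * ((r : S) * x * (r : S)⁻¹) = e ^ 2 := by rw [← hρv, hr]
    have hez : e ^ 2 ≠ 1 := by
      intro he1
      obtain ⟨Z, hZn, hZc, hZe, hXZ, heZ⟩ := SelfCentEight.extend hXc hXe heC he1 hen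
      have h1 := hmax Z hZn hZc hZe
      exact heX ((Subgroup.eq_of_le_of_card_ge hXZ h1).symm ▸ heZ)
    have hr1 : (r : S) ≠ 1 := fun e1 => hez (by
      rw [← hr', e1, one_mul, inv_one, mul_one, ← pow_two, hXe x hx])
    refine SelfCentEight.eight_case h2 hXc hXe hX8 (fun Z a b c => hX8 ▸ hmax Z a b c) (hrr r r.2)
      (by rw [hfixY r r.2 hr1, hY4']) (hCfix r r.2 hr1) (fun z₀ hz₀ hzc hz1 hno' he => ?_) H
    exfalso
    obtain ⟨e', heC', heX', he2', hen'⟩ := he
    -- all such squares are equal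
    have hv : ∀ y, (∀ g, y⁻¹ * (g * y * g⁻¹) ∈ X) → y⁻¹ * ((r : S) * y * (r : S)⁻¹) ∈ Y := fun y hy =>
      hdiff r r.2 hr1 y (hy r)
    set R₁ : Subgroup S := Subgroup.zpowers (e ^ 2) with hR₁
    have hR₁in : ∀ y ∈ R₁, ∃ w ∈ X, y = w * ((r : S) * w * (r : S)⁻¹) := fun y hy => by
      obtain ⟨k, hk⟩ := hy
      obtain ⟨l, rfl | rfl⟩ := Int.even_or_odd' k
      · refine ⟨1, one_mem X, ?_⟩
        rw [← hk]
        change (e ^ 2) ^ (2 * l) = _
        rw [zpow_mul, zpow_two, ← pow_two, hXe _ he2, one_zpow]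
        group
      · refine ⟨x, hx, ?_⟩
        rw [← hk, hr']
        change (e ^ 2) ^ (2 * l + 1) = _
        rw [zpow_add, zpow_mul, zpow_two, ← pow_two, hXe _ he2, one_zpow, one_mul, zpow_one]
    have hnot : ∀ y ∈ C, y ∉ X → (∀ g, y⁻¹ * (g * y * g⁻¹) ∈ X) →
        y⁻¹ * ((r : S) * y * (r : S)⁻¹) ∉ R₁ := fun y hyC hyX hy hmem => by
      obtain ⟨w, hw, he'⟩ := hR₁in _ hmem
      refine hyX ?_
      have h := hCfix r r.2 hr1 (y * w) (C.mul_mem hyC (mem_centralizer'.2 (hXc w hw)))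
        (hlift r r.2 hr1 y w hw he')
      simpa using mul_mem h (inv_mem hw)
    have hidx : (R₁.subgroupOf Y).index = 2 := by
      have h := (R₁.subgroupOf Y).card_mul_index
      rw [Nat.card_congr (Subgroup.subgroupOfEquivOfLe (Subgroup.zpowers_le.2 hz)).toEquiv, Nat.card_zpowers,
        orderOf_eq_prime (p := 2) (hXe _ he2) hez, hY4'] at h
      omega
    have hsum : (e * e')⁻¹ * ((r : S) * (e * e') * (r : S)⁻¹) ∈ R₁ := by
      have e1 : (e * e')⁻¹ * ((r : S) * (e * e') * (r : S)⁻¹) =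
          (e⁻¹ * ((r : S) * e * (r : S)⁻¹)) * (e'⁻¹ * ((r : S) * e' * (r : S)⁻¹)) := by
        calc _ = e'⁻¹ * (e⁻¹ * ((r : S) * e * (r : S)⁻¹)) * ((r : S) * e' * (r : S)⁻¹) := by group
          _ = (e⁻¹ * ((r : S) * e * (r : S)⁻¹)) * e'⁻¹ * ((r : S) * e' * (r : S)⁻¹) := by
            rw [((mem_centralizer'.1 heC' _ (hen r)).inv_left).eq]
          _ = _ := by group
      rw [e1]
      exact (Subgroup.mul_mem_iff_of_index_two hidx (a := (⟨_, hv e hen⟩ : Y))
        (b := ⟨_, hv e' hen'⟩)).2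
        (iff_of_false (hnot e heC heX hen) (hnot e' heC' heX' hen'))
    have hee : e * e' ∈ X := by
      obtain ⟨w, hw, he'⟩ := hR₁in _ hsum
      have h := hCfix r r.2 hr1 (e * e' * w) (C.mul_mem (C.mul_mem heC heC') (mem_centralizer'.2 (hXc w hw)))
        (hlift r r.2 hr1 _ w hw he')
      simpa using mul_mem h (inv_mem hw)
    refine hno' ⟨x, hx, ?_⟩
    rw [hr', ← he2', show e' = e⁻¹ * (e * e') by group,
      (mem_centralizer'.1 (C.inv_mem heC) _ hee).mul_pow, hXe _ hee, mul_one, inv_pow,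
      inv_eq_self' hXe he2]
  · obtain ⟨R₁, hR₁, hcard, -, hout⟩ := fixed_map (a := r₀) hXc hXe (fun x hx => hnorm x hx r₀)
      fun x _ => by rw [hrr r₀ hr₀]; exact Commute.one_left x
    rw [hfixY r₀ hr₀ hr₀1] at hR₁ hcard
    rw [hX16, hY4'] at hcard
    have hR₁Y : R₁ = Y := Subgroup.eq_of_le_of_card_ge hR₁ (by rw [hY4']; omega)
    have hinto : ∀ g, g⁻¹ * (r₀ * g * r₀⁻¹) ∈ X → ∃ w ∈ X, Commute (g * w) r₀ := fun g hg => by
      obtain ⟨w, hw, he⟩ := hout _ (hR₁Y.symm ▸ hdiff r₀ hr₀ hr₀1 g hg)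
      exact ⟨w, hw, hlift r₀ hr₀ hr₀1 g w hw he.symm⟩
    have hCX : C ≤ X := by
      by_contra hCX
      obtain ⟨m, hmC, -, hmX, -, hm⟩ := exists_step h2 ⊤ C X (by
        obtain ⟨y, hy, hyX⟩ := SetLike.not_le_iff_exists.1 hCX
        exact ⟨y, hy, Subgroup.mem_top y, hyX⟩)
      obtain ⟨w, hw, hc⟩ := hinto m (hm r₀ (Subgroup.mem_top r₀))
      have h := hCfix r₀ hr₀ hr₀1 _ (C.mul_mem hmC (mem_centralizer'.2 (hXc w hw))) hc
      exact hmX (by simpa using mul_mem h (inv_mem hw))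
    set π := QuotientGroup.mk' X with hπ
    have hπX : ∀ g, π g = 1 ↔ g ∈ X := fun g => QuotientGroup.eq_one_iff g
    have hrX : r₀ ∉ X := fun h => hr₀1 (hXR r₀ hr₀ h)
    have hthin : ∃ c, SelfCentEight.Thin X c := by
      refine exists_thin h2 X (fun h => hrX (h ▸ Subgroup.mem_top r₀)) ⟨π r₀, ?_⟩
      have h1 : Subgroup.centralizer ({π r₀} : Set (S ⧸ X)) ≤ E.map π := by
        intro q hq
        obtain ⟨g, rfl⟩ := QuotientGroup.mk'_surjective X q
        obtain ⟨w, hw, hc⟩ := hinto g (by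
          rw [← hπX, map_mul, map_mul, map_mul, map_inv, map_inv,
            ← Subgroup.mem_centralizer_singleton_iff.1 hq, mul_inv_cancel_right, inv_mul_cancel])
        exact ⟨g * w, hcent r₀ hr₀ hr₀1 _ hc, by rw [map_mul, (hπX w).2 hw, mul_one]⟩
      refine (Subgroup.card_le_of_le h1).trans ?_
      set f := π.comp E.subtype with hf
      have h3 := f.ker.card_mul_index
      rw [Subgroup.index_ker, hf, MonoidHom.range_comp, Subgroup.range_subtype, hE] at h3
      have h4 : 4 ≤ Nat.card f.ker := by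
        rw [← hY4']
        exact Nat.card_le_card_of_injective (fun u : Y => (⟨⟨u.1, u.2.2⟩,
          MonoidHom.mem_ker.2 ((hπX _).2 u.2.1)⟩ : f.ker)) fun p q hpq =>
          Subtype.ext (congrArg (fun r => (r.1 : E).1) hpq)
      rw [hf] at h4
      have := Nat.mul_le_mul_right (Nat.card (E.map π)) h4
      omega
    obtain ⟨c, hc⟩ := hthin
    refine SelfCentEight.sixteen_case h2 hXc hXe hX16 hCX hc ?_ H
    obtain ⟨hcX, -, hcn, -⟩ := hc
    obtain ⟨w, hw, hcw⟩ := hinto c (hcn r₀)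
    have hcE : c * w ∈ E := hcent r₀ hr₀ hr₀1 _ hcw
    rw [← hY4']
    refine Subgroup.card_le_of_le fun y hy => ⟨hy.1, ?_⟩
    have hyc : Commute y (c * w) :=
      (show Commute y c from Subgroup.mem_centralizer_singleton_iff.1 hy.2).mul_right (hXc y hy.1 w hw)
    obtain ⟨a, ha, s, hs, hs'⟩ : ∃ a ∈ X, ∃ s ∈ R, c * w = a * s := by
      have hinj : Function.Injective (fun p : Y × R => (⟨p.1.1 * p.2.1, mul_mem p.1.2.2 (hRE p.2.2)⟩ : E)) := by
        rintro ⟨a, r⟩ ⟨b, s⟩ hab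
        have hab' : a.1 * r.1 = b.1 * s.1 := congrArg Subtype.val hab
        have he : b.1⁻¹ * a.1 = s.1 * r.1⁻¹ := by
          rw [eq_mul_inv_iff_mul_eq, mul_assoc, hab', inv_mul_cancel_left]
        have h1 := hXR _ (he.symm ▸ mul_mem s.2 (inv_mem r.2)) (mul_mem (inv_mem b.2.1) a.2.1)
        rw [inv_mul_eq_one] at h1
        rw [← h1] at hab'
        exact Prod.ext (Subtype.ext h1.symm) (Subtype.ext (mul_left_cancel hab'))
      obtain ⟨⟨a, s⟩, hs⟩ := ((Nat.bijective_iff_injective_and_card _).2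
        ⟨hinj, by rw [Nat.card_prod, hY4', hR, hE]⟩).2 ⟨c * w, hcE⟩
      exact ⟨a.1, a.2.1, s.1, s.2, (congrArg Subtype.val hs).symm⟩
    have hs1 : s ≠ 1 := fun e => hcX (by
      rw [e, mul_one] at hs'
      rw [show c = a * w⁻¹ by rw [← hs', mul_inv_cancel_right]]
      exact mul_mem ha (inv_mem hw))
    refine hcent s hs hs1 y ?_
    rw [hs'] at hyc
    have := (hXc y hy.1 _ (inv_mem ha)).mul_right hyc
    rwa [inv_mul_cancel_left] at this

end Cfsg.Agent.Perm.FixFour
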