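import Cfsg.Agent.Lib.Perm.FixFour.OddBase
import Cfsg.Agent.Lib.Perm.FixFour.EvenBase
import Cfsg.Agent.Lib.Perm.FixFour.FourCent
import Cfsg.Agent.Lib.Fusion.HaradaDV.Sections

/-!
Four fixed points: criteria for the bound on the generators of the 2-subgroups.
-/

set_option autoImplicit false
set_option linter.unusedSectionVars false
set_option linter.style.haveILetI false

open MulAction
open scoped Pointwise

namespace Cfsg.Agent.Perm.FixFour

open Cfsg.Agent.Solv
open Cfsg.Agent.Solv.SelfCentEight (second split)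

universe u v

variable {G : Type u} {Ω : Type v} [Group G] [Finite G] [MulAction G Ω] [Finite Ω]

/-- No subgroup of `P` has an elementary quotient of order more than sixteen. -/
def Bounded (P : Sylow 2 G) : Prop :=
  ∀ H : Subgroup (P : Subgroup G), (FourGen.sq H).relIndex H ≤ 16

theorem Bounded.sectional {P : Sylow 2 G} (h : Bounded P) : Cfsg.SectionalPRankLE 2 4 G := by
  refine Fusion.HaradaDV.sectional_of_sylow P fun R V hR hRV => ?_
  set H := R.subgroupOf (P : Subgroup G)
  have hle : FourGen.sq H ≤ V.subgroupOf (P : Subgroup G) := by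
    rw [FourGen.sq, Subgroup.closure_le]
    rintro _ ⟨a, ha, rfl⟩
    rw [SetLike.mem_coe, Subgroup.mem_subgroupOf, SubmonoidClass.coe_pow, pow_two]
    exact hRV.2.2 _ ha
  have h1 : (V.subgroupOf (P : Subgroup G)).relIndex H ≤ 16 := by
    refine le_trans (Nat.le_of_dvd (Nat.pos_of_ne_zero Subgroup.index_ne_zero_of_finite) ?_) (h H)
    exact Subgroup.index_dvd_of_le fun a ha => hle ha
  rw [Subgroup.relIndex_subgroupOf hR] at h1
  have h3 := (V.subgroupOf R).card_mul_index
  rw [Nat.card_congr (Subgroup.subgroupOfEquivOfLe hRV.1).toEquiv] at h3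
  rw [← h3, mul_comm]
  exact Nat.mul_le_mul_right _ h1

variable {P : Sylow 2 G} {F : Set Ω}

/-- The Sylow subgroup preserves the block, and the pointwise part is small. -/
theorem bounded_of_first_le (hF : F.ncard = 4) (hPM : (P : Subgroup G) ≤ stabilizer G F)
    (h : ∀ H : Subgroup (P : Subgroup G),
      (FourGen.sq H).relIndex (H ⊓ (fixingSubgroup G F).subgroupOf (P : Subgroup G)) ≤ 4) :
    Bounded P := by
  intro H
  set N := (fixingSubgroup G F).subgroupOf (P : Subgroup G) with hN
  haveI : N.Normal := ⟨fun n hn g => by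
    rw [hN, Subgroup.mem_subgroupOf] at hn ⊢
    exact fix_conj_stab (hPM g.2) hn⟩
  rw [split H N]
  refine (Nat.mul_le_mul (h H) (?_ : _ ≤ 4)).trans le_rfl
  let f : H →* P4.S4 := (perm hF).comp ((Subgroup.inclusion hPM).comp H.subtype)
  have hker : f.ker = N.subgroupOf H := by
    ext x
    rw [MonoidHom.mem_ker, Subgroup.mem_subgroupOf, hN, Subgroup.mem_subgroupOf]
    exact perm_eq_one hF
  set J := (FourGen.sq H).subgroupOf H ⊔ N.subgroupOf H with hJ
  change J.index ≤ 4
  have hle : f.ker ≤ J := hker ▸ le_sup_right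
  have hJd : J.index ∣ Nat.card f.range := Subgroup.index_ker f ▸ Subgroup.index_dvd_of_le hle
  have hrp : IsPGroup 2 f.range := ((P.isPGroup'.to_subgroup H).of_surjective f.rangeRestrict
    f.rangeRestrict_surjective)
  haveI := Fact.mk Nat.prime_two
  obtain ⟨a, ha⟩ := IsPGroup.iff_card.1 hrp
  have ha3 : a ≤ 3 := by
    have h24 := Subgroup.card_subgroup_dvd_card f.range
    rw [ha, Nat.card_perm, Nat.card_fin] at h24
    by_contra hlt
    exact absurd ((pow_dvd_pow 2 (show 4 ≤ a by omega)).trans h24) (by decide)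
  rcases (show a ≤ 2 ∨ a = 3 by omega) with h2 | rfl
  · refine (Nat.le_of_dvd Nat.card_pos hJd).trans ?_
    rw [ha]
    exact (Nat.pow_le_pow_right (by norm_num) h2).trans (by norm_num)
  · have hne : f.ker ≠ J := by
      intro he
      have := P4.card_elem_le (X := f.range) (by
        rintro _ ⟨x, rfl⟩
        rw [← map_pow, ← MonoidHom.mem_ker, he]
        exact Subgroup.mem_sup_left (Subgroup.mem_subgroupOf.2 (FourGen.sq_mem x.2)))
      omega
    have h3 := Subgroup.relIndex_mul_index hle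
    rw [Subgroup.index_ker f, ha] at h3
    have h4 : f.ker.relIndex J ≠ 1 := fun e => hne (le_antisymm hle (Subgroup.relIndex_eq_one.1 e))
    rcases (show f.ker.relIndex J = 0 ∨ 2 ≤ f.ker.relIndex J by omega) with e | e
    · rw [e, zero_mul] at h3; norm_num at h3
    · have := Nat.mul_le_mul_right J.index e
      omega

/-- The pointwise part has order at most four, or eight without being elementary. -/
theorem bounded_of_small (hF : F.ncard = 4) (hPM : (P : Subgroup G) ≤ stabilizer G F)
    (h8 : Nat.card ((P : Subgroup G) ⊓ fixingSubgroup G F : Subgroup G) ≤ 4 ∨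
      (Nat.card ((P : Subgroup G) ⊓ fixingSubgroup G F : Subgroup G) ≤ 8 ∧
        ∃ r ∈ (P : Subgroup G), r ∈ fixingSubgroup G F ∧ r ^ 2 ≠ 1)) : Bounded P := by
  haveI := Fact.mk Nat.prime_two
  refine bounded_of_first_le hF hPM fun H => ?_
  set N := (fixingSubgroup G F).subgroupOf (P : Subgroup G) with hN
  set K := H ⊓ N with hK
  have hNcard : Nat.card N = Nat.card ((P : Subgroup G) ⊓ fixingSubgroup G F : Subgroup G) := by
    rw [hN, ← Subgroup.inf_subgroupOf_left]
    exact Nat.card_congr (Subgroup.subgroupOfEquivOfLe inf_le_left).toEquiv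
  rw [← hNcard] at h8
  have hKle : Nat.card K ≤ Nat.card N := Subgroup.card_le_of_le inf_le_right
  have hrel : (FourGen.sq H).relIndex K * Nat.card ((FourGen.sq H).subgroupOf K) = Nat.card K := by
    rw [mul_comm]; exact ((FourGen.sq H).subgroupOf K).card_mul_index
  rcases h8 with h4 | ⟨h8, r, hrP, hrK, hr2⟩
  · refine le_trans ?_ (hKle.trans h4)
    rw [← hrel]
    exact Nat.le_mul_of_pos_right _ Nat.card_pos
  · by_cases hKN : N ≤ H
    · have hr : (⟨r, hrP⟩ : (P : Subgroup G)) ^ 2 ∈ FourGen.sq H :=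
        FourGen.sq_mem (hKN (Subgroup.mem_subgroupOf.2 hrK))
      have hmem : (⟨r, hrP⟩ : (P : Subgroup G)) ^ 2 ∈ K :=
        ⟨FourGen.sq_le H hr, pow_mem (show (⟨r, hrP⟩ : (P : Subgroup G)) ∈ N from
          Subgroup.mem_subgroupOf.2 hrK) 2⟩
      have h2 : 2 ≤ Nat.card ((FourGen.sq H).subgroupOf K) := by
        haveI : Nontrivial ((FourGen.sq H).subgroupOf K) := by
          refine ⟨⟨⟨_, hmem⟩, Subgroup.mem_subgroupOf.2 hr⟩, 1, fun e => hr2 ?_⟩
          exact congrArg (fun x : (FourGen.sq H).subgroupOf K => (((x : K) : (P : Subgroup G)) : G)) e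
        exact Finite.one_lt_card
      have := Nat.mul_le_mul_left ((FourGen.sq H).relIndex K) h2
      omega
    · have hlt : Nat.card K < Nat.card N := (Subgroup.card_le_of_le inf_le_right).lt_of_ne fun e =>
        hKN ((Subgroup.eq_of_le_of_card_ge inf_le_right e.ge).symm.le.trans inf_le_left)
      obtain ⟨i, hi⟩ := IsPGroup.iff_card.1 (P.isPGroup'.to_subgroup K)
      have : (FourGen.sq H).relIndex K ≤ Nat.card K := by
        rw [← hrel]; exact Nat.le_mul_of_pos_right _ Nat.card_pos
      refine this.trans ?_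
      rw [hi] at hlt ⊢
      have : i ≤ 2 := by
        by_contra hgt
        have := Nat.pow_le_pow_right (show 0 < 2 by norm_num) (show 3 ≤ i by omega)
        omega
      exact (Nat.pow_le_pow_right (by norm_num) this).trans (by norm_num)

/-- A self-centralizing elementary subgroup of order eight. -/
theorem bounded_of_self_cent {D : Subgroup G} (hD : D ≤ (P : Subgroup G)) (he : ∀ x ∈ D, x ^ 2 = 1)
    (h8 : Nat.card D = 8) (hc : ∀ g ∈ (P : Subgroup G), (∀ x ∈ D, Commute g x) → g ∈ D) : Bounded P := by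
  intro H
  refine SelfCentEight.bound P.isPGroup' (D.subgroupOf (P : Subgroup G)) ?_ ?_ ?_ ?_ H
  · exact fun x hx y hy => Subtype.ext (commute_elem he (Subgroup.mem_subgroupOf.1 hx) (Subgroup.mem_subgroupOf.1 hy)).eq
  · exact fun x hx => Subtype.ext (he _ (Subgroup.mem_subgroupOf.1 hx))
  · rw [Nat.card_congr (Subgroup.subgroupOfEquivOfLe hD).toEquiv, h8]
  · exact fun g hg => Subgroup.mem_subgroupOf.2 (hc g g.2 fun x hx =>
      congrArg Subtype.val (hg ⟨x, hD hx⟩ (Subgroup.mem_subgroupOf.2 hx)).eq)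

/-- An elementary subgroup of order eight whose centralizer in the pointwise part is small. -/
theorem bounded_of_elem (hF : F.ncard = 4) {D : Subgroup G} (hD : D ≤ (P : Subgroup G))
    (hDM : D ≤ stabilizer G F) (he : ∀ x ∈ D, x ^ 2 = 1) (h8 : Nat.card D = 8)
    (hC : ∀ g ∈ (P : Subgroup G), (∀ x ∈ D, Commute g x) → g ∈ stabilizer G F)
    (hsmall : Nat.card (((P : Subgroup G) ⊓ fixingSubgroup G F) ⊓ Subgroup.centralizer (D : Set G) :
      Subgroup G) ≤ 2) : Bounded P := by
  set C := ((P : Subgroup G) ⊓ fixingSubgroup G F) ⊓ Subgroup.centralizer (D : Set G)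
  let f : D →* P4.S4 := (perm hF).comp (Subgroup.inclusion hDM)
  set L := D ⊓ fixingSubgroup G F with hL
  have hLC : L ≤ C := fun x hx => ⟨⟨hD hx.1, hx.2⟩,
    Subgroup.mem_centralizer_iff.2 fun y hy => (commute_elem he hy hx.1).eq⟩
  have hrange : Nat.card f.range ≤ 4 := P4.card_elem_le (by
    rintro _ ⟨x, rfl⟩
    rw [← map_pow, show x ^ 2 = 1 from Subtype.ext (he x x.2), map_one])
  have hker : f.ker = L.subgroupOf D := by
    ext x
    rw [MonoidHom.mem_ker, Subgroup.mem_subgroupOf, hL, Subgroup.mem_inf]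
    exact ⟨fun h => ⟨x.2, (perm_eq_one hF).1 h⟩, fun h => (perm_eq_one hF).2 h.2⟩
  have h := f.ker.card_mul_index
  rw [Subgroup.index_ker, hker, Nat.card_congr (Subgroup.subgroupOfEquivOfLe (inf_le_left : L ≤ D)).toEquiv,
    h8] at h
  rw [← hL] at h
  have hLle : Nat.card L ≤ 2 := (Subgroup.card_le_of_le hLC).trans hsmall
  have hr4 : Nat.card f.range = 4 := by
    have := Nat.mul_le_mul_right (Nat.card f.range) hLle
    omega
  rw [hr4] at h
  have hCL : C = L := (Subgroup.eq_of_le_of_card_ge hLC (by omega)).symm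
  -- two members with different images
  obtain ⟨a, ha, b, hb, hab⟩ : ∃ a : D, f a ≠ 1 ∧ ∃ b : D, f b ≠ 1 ∧ f a ≠ f b := by
    classical
    haveI : Nontrivial f.range := Finite.one_lt_card_iff_nontrivial.1 (by rw [hr4]; norm_num)
    obtain ⟨⟨_, a, rfl⟩, ha⟩ := exists_ne (1 : f.range)
    refine ⟨a, fun e => ha (Subtype.ext e), ?_⟩
    by_contra hcon
    push Not at hcon
    have hsub : (f.range : Set P4.S4) ⊆ (({1, f a} : Finset P4.S4) : Set P4.S4) := by
      rintro _ ⟨b, rfl⟩
      by_cases hb : f b = 1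
      · simp [hb]
      · simp [(hcon b hb)]
    have h4 : Set.ncard (f.range : Set P4.S4) ≤ ({1, f a} : Finset P4.S4).card := by
      rw [← Set.ncard_coe_finset]; exact Set.ncard_le_ncard hsub (Set.toFinite _)
    rw [← Nat.card_coe_set_eq] at h4
    have h5 : Nat.card f.range ≤ 2 := h4.trans Finset.card_le_two
    omega
  refine bounded_of_self_cent hD he h8 fun g hgP hg => ?_
  have hgM := hC g hgP hg
  set G' : stabilizer G F := ⟨g, hgM⟩
  have hcomm : ∀ x : D, perm hF G' * f x = f x * perm hF G' := fun x => by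
    change perm hF G' * perm hF _ = perm hF _ * perm hF G'
    rw [← map_mul, ← map_mul]
    exact congrArg _ (Subtype.ext (hg x x.2).eq)
  have hsq : ∀ x : D, f x ^ 2 = 1 := fun x => by
    rw [← map_pow, show x ^ 2 = 1 from Subtype.ext (he x x.2), map_one]
  have hcases := P4.four_cent (f a) (f b) (hsq a) (hsq b) ha hb hab
    (by rw [← map_mul, ← map_mul]; exact congrArg _ (Subtype.ext (commute_elem he a.2 b.2).eq))
    (perm hF G') (hcomm a) (hcomm b)
  obtain ⟨d, hd⟩ : ∃ d : D, perm hF G' = f d := by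
    rcases hcases with e | e | e | e
    exacts [⟨1, e.trans (map_one f).symm⟩, ⟨a, e⟩, ⟨b, e⟩, ⟨a * b, e.trans (map_mul f a b).symm⟩]
  have hk := (perm_eq hF).1 hd.symm
  have hmem : (d : G)⁻¹ * g ∈ C := ⟨⟨(P : Subgroup G).mul_mem ((P : Subgroup G).inv_mem (hD d.2)) hgP, hk⟩,
    Subgroup.mem_centralizer_iff.2 fun y hy =>
      ((commute_elem he hy (inv_mem d.2)).mul_right (hg y hy).symm).eq⟩
  rw [hCL] at hmem
  simpa using mul_mem d.2 hmem.1

/-- Either the bound, or a large normal elementary subgroup. -/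
theorem exists_normal_eight (P : Sylow 2 G) :
    Bounded P ∨ ∃ X : Subgroup G, X ≤ (P : Subgroup G) ∧
      (∀ g ∈ (P : Subgroup G), ∀ x ∈ X, g * x * g⁻¹ ∈ X) ∧ (∀ x ∈ X, x ^ 2 = 1) ∧ 8 ≤ Nat.card X := by
  haveI := Fact.mk Nat.prime_two
  by_cases hno : FourGen.NoEight (P : Subgroup G)
  · exact Or.inl fun H => FourGen.relIndex_sq_sixteen P.isPGroup' hno H
  right
  unfold FourGen.NoEight at hno
  push Not at hno
  obtain ⟨A, hAn, -, hAe, hA4⟩ := hno
  refine ⟨A.map (P : Subgroup G).subtype, Subgroup.map_subtype_le _, ?_, ?_, ?_⟩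
  · rintro g hg _ ⟨x, hx, rfl⟩
    exact ⟨_, hAn.conj_mem x hx ⟨g, hg⟩, rfl⟩
  · rintro _ ⟨x, hx, rfl⟩
    exact congrArg Subtype.val (hAe x hx)
  · rw [Subgroup.card_map_of_injective (P : Subgroup G).subtype_injective]
    obtain ⟨n, hn⟩ := IsPGroup.iff_card.1 (P.isPGroup'.to_subgroup A)
    rw [hn] at hA4 ⊢
    have h3 : 3 ≤ n := by
      by_contra h3
      have := Nat.pow_le_pow_right (show 0 < 2 by norm_num) (show n ≤ 2 by omega)
      omega
    exact le_trans (by norm_num) (Nat.pow_le_pow_right (show 0 < 2 by norm_num) h3)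

/-- A member of a normal elementary subgroup commuting with an involution lies, with it, in an
elementary subgroup of order eight. -/
theorem exists_eight {X : Subgroup G} (hXP : X ≤ (P : Subgroup G))
    (hn : ∀ g ∈ (P : Subgroup G), ∀ x ∈ X, g * x * g⁻¹ ∈ X) (he : ∀ x ∈ X, x ^ 2 = 1)
    (h8 : 8 ≤ Nat.card X) {u : G} (huP : u ∈ (P : Subgroup G)) (hu : u * u = 1) {x : G} (hx : x ∈ X)
    (hxu : Commute x u) :
    ∃ D : Subgroup G, D ≤ (P : Subgroup G) ∧ (∀ d ∈ D, d ^ 2 = 1) ∧ Nat.card D = 8 ∧ u ∈ D ∧ x ∈ D := by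
  haveI := Fact.mk Nat.prime_two
  set Y := X ⊓ Subgroup.centralizer {u} with hY
  have hYc : ∀ a ∈ Y, ∀ b ∈ Y, Commute a b := fun a ha b hb => commute_elem he ha.1 hb.1
  set J := Y ⊔ Subgroup.zpowers u with hJ
  have hdec : ∀ d ∈ J, ∃ y ∈ Y, ∃ i : ℤ, d = y * u ^ i := by
    intro d hd
    rw [hJ, ← SetLike.mem_coe, Subgroup.coe_mul_of_right_le_normalizer_left] at hd
    · obtain ⟨y, hy, _, ⟨i, rfl⟩, rfl⟩ := hd
      exact ⟨y, hy, i, rfl⟩
    · refine Subgroup.zpowers_le.2 (Subgroup.mem_normalizer_iff.2 fun y => ⟨fun hy => ?_, fun hy => ?_⟩)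
      · rwa [← Subgroup.mem_centralizer_singleton_iff.1 hy.2, mul_inv_cancel_right]
      · have hc := Subgroup.mem_centralizer_singleton_iff.1 hy.2
        have h' : u * y * u⁻¹ = y := by
          have h1 : u * (u * y * u⁻¹) = (u * y * u⁻¹) * u := hc.symm
          calc u * y * u⁻¹ = u⁻¹ * (u * (u * y * u⁻¹)) := by group
            _ = u⁻¹ * ((u * y * u⁻¹) * u) := by rw [h1]
            _ = y := by group
        rwa [h'] at hy
  have hJP : J ≤ (P : Subgroup G) := sup_le (inf_le_left.trans hXP) (Subgroup.zpowers_le.2 huP)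
  have hJe : ∀ d ∈ J, d ^ 2 = 1 := fun d hd => by
    obtain ⟨y, hy, i, rfl⟩ := hdec d hd
    rw [(show Commute y u from Subgroup.mem_centralizer_singleton_iff.1 hy.2).zpow_right i |>.mul_pow,
      he y hy.1, one_mul, ← zpow_natCast, ← zpow_mul, mul_comm, zpow_mul, zpow_natCast, pow_two, hu, one_zpow]
  have hJ8 : 8 ≤ Nat.card J := by
    by_cases huX : u ∈ X
    · refine h8.trans (Subgroup.card_le_of_le fun y hy => Subgroup.mem_sup_left ⟨hy, ?_⟩)
      exact Subgroup.mem_centralizer_singleton_iff.2 (commute_elem he hy huX).eq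
    · have hsq := Solv.SelfCentEight.fixed_sq (a := u) (X := X) (fun a ha b hb => commute_elem he ha hb) he
        (fun a ha => hn u huP a ha) fun a _ => by rw [hu]; exact Commute.one_left a
      rw [← hY] at hsq
      have hlt : Nat.card Y < Nat.card J := (Subgroup.card_le_of_le le_sup_left).lt_of_ne fun e => huX
        ((Subgroup.eq_of_le_of_card_ge le_sup_left e.ge).symm ▸
          Subgroup.mem_sup_right (Subgroup.mem_zpowers u) : u ∈ Y).1
      obtain ⟨i, hi⟩ := IsPGroup.iff_card.1 (P.isPGroup'.to_le (inf_le_left.trans hXP) : IsPGroup 2 Y)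
      obtain ⟨j, hj⟩ := IsPGroup.iff_card.1 (P.isPGroup'.to_le hJP)
      rw [hi] at hsq hlt
      rw [hj] at hlt ⊢
      rw [Nat.pow_lt_pow_iff_right (by norm_num)] at hlt
      have h2i : 2 ≤ i := by
        by_contra h2i
        have := Nat.pow_le_pow_right (show 0 < 2 by norm_num) (show i ≤ 1 by omega)
        have := Nat.mul_le_mul this this
        omega
      exact le_trans (by norm_num) (Nat.pow_le_pow_right (show 0 < 2 by norm_num) (show 3 ≤ j by omega))
  set L := Subgroup.zpowers u ⊔ Subgroup.zpowers x with hL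
  have hxJ : x ∈ J := Subgroup.mem_sup_left ⟨hx, Subgroup.mem_centralizer_singleton_iff.2 hxu.eq⟩
  have hLJ : L ≤ J := sup_le le_sup_right (Subgroup.zpowers_le.2 hxJ)
  have hL4 : Nat.card L ≤ 4 := by
    have hsub : (L : Set G) ⊆ ({1, u, x, u * x} : Set G) := by
      intro d hd
      rw [hL, Subgroup.coe_mul_of_right_le_normalizer_left] at hd
      · obtain ⟨_, ⟨i, rfl⟩, _, ⟨j, rfl⟩, rfl⟩ := hd
        have hxx : x * x = 1 := by rw [← pow_two]; exact he x hx
        have key : ∀ (a : G) (m : ℤ), a * a = 1 → a ^ m = 1 ∨ a ^ m = a := fun a m ha => by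
          obtain ⟨l, rfl | rfl⟩ := Int.even_or_odd' m
          · left; rw [zpow_mul, zpow_two, ha, one_zpow]
          · right; rw [zpow_add, zpow_mul, zpow_two, ha, one_zpow, one_mul, zpow_one]
        rcases key u i hu with e | e <;> rcases key x j hxx with e' | e' <;> simp [e, e']
      · refine Subgroup.zpowers_le.2 (Subgroup.mem_normalizer_iff.2 fun a => ⟨fun ha => ?_, fun ha => ?_⟩)
        · obtain ⟨i, rfl⟩ := ha
          exact ⟨i, ((hxu.zpow_right i).eq ▸ (mul_inv_cancel_right (u ^ i) x)).symm⟩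
        · obtain ⟨i, hi⟩ := ha
          refine ⟨i, ?_⟩
          change u ^ i = a
          have : u ^ i = x * a * x⁻¹ := hi
          calc u ^ i = x⁻¹ * (u ^ i * x) := by rw [← (hxu.zpow_right i).eq, inv_mul_cancel_left]
            _ = a := by rw [this]; group
    have := Set.ncard_le_ncard hsub (Set.toFinite _)
    rw [← Nat.card_coe_set_eq] at this
    exact this.trans ((Set.ncard_insert_le _ _).trans (by
      have h2 := Set.ncard_insert_le u ({x, u * x} : Set G)
      have h3 := Set.ncard_insert_le x ({u * x} : Set G)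
      rw [Set.ncard_singleton] at h3
      omega))
  obtain ⟨j, hj⟩ := IsPGroup.iff_card.1 (P.isPGroup'.to_le hJP)
  obtain ⟨n, hn'⟩ := IsPGroup.iff_card.1 (P.isPGroup'.to_le (hLJ.trans hJP))
  have hn3 : n ≤ 3 := by
    by_contra h
    have := Nat.pow_le_pow_right (show 0 < 2 by norm_num) (show 4 ≤ n by omega)
    omega
  obtain ⟨K, hK, hLK⟩ := Sylow.exists_subgroup_card_pow_prime_le (G := J) 2 (n := n) (m := 3)
    (by
      rw [hj]
      refine pow_dvd_pow 2 ?_
      by_contra h
      have := Nat.pow_le_pow_right (show 0 < 2 by norm_num) (show j ≤ 2 by omega)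
      omega)
    (L.subgroupOf J) (by rw [Nat.card_congr (Subgroup.subgroupOfEquivOfLe hLJ).toEquiv, hn']) hn3
  refine ⟨K.map J.subtype, (Subgroup.map_subtype_le K).trans hJP, fun d hd => hJe d ((Subgroup.map_subtype_le K) hd),
    by rw [Subgroup.card_map_of_injective J.subtype_injective, hK]; norm_num, ?_, ?_⟩
  · exact ⟨⟨u, Subgroup.mem_sup_right (Subgroup.mem_zpowers u)⟩,
      hLK (Subgroup.mem_sup_left (Subgroup.mem_zpowers u)), rfl⟩
  · exact ⟨⟨x, hxJ⟩, hLK (Subgroup.mem_sup_right (Subgroup.mem_zpowers x)), rfl⟩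

/-- If each elementary eight containing the involution has a small centralizer in the pointwise part. -/
theorem bounded_of_all_eight (hF : F.ncard = 4) {u : G} (huP : u ∈ (P : Subgroup G)) (hu : u * u = 1)
    (hCu : ∀ g ∈ (P : Subgroup G), Commute g u → g ∈ stabilizer G F)
    (h : ∀ D : Subgroup G, D ≤ (P : Subgroup G) → (∀ d ∈ D, d ^ 2 = 1) → Nat.card D = 8 → u ∈ D →
      Nat.card (((P : Subgroup G) ⊓ fixingSubgroup G F) ⊓ Subgroup.centralizer (D : Set G) : Subgroup G) ≤ 2) :
    Bounded P := by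
  rcases exists_normal_eight P with hb | ⟨X, hXP, hn, he, h8⟩
  · exact hb
  obtain ⟨D, hD, hDe, hD8, huD, -⟩ := exists_eight hXP hn he h8 huP hu (one_mem X) (Commute.one_left u)
  exact bounded_of_elem hF hD (fun d hd => hCu d (hD hd) (commute_elem hDe hd huD)) hDe hD8
    (fun g hg hgD => hCu g hg (hgD u huD)) (h D hD hDe hD8 huD)

end Cfsg.Agent.Perm.FixFour
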