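import Cfsg.Agent.Lib.Perm.FixFour.Bound
import Cfsg.Agent.Lib.Lie.FixityTwoSylow

/-!
A Sylow subgroup acting semiregularly off a block induces even permutations of the block.
-/

set_option autoImplicit false
set_option linter.unusedSectionVars false
set_option linter.style.haveILetI false

open MulAction
open scoped Pointwise

namespace Cfsg.Agent.Perm.FixFour

universe u v

variable {G : Type u} {Ω : Type v} [Group G] [Finite G] [MulAction G Ω] [Finite Ω]

theorem sign_perm_sylow (hS : Setting G Ω) {P : Sylow 2 G} {F : Set Ω} {k : ℕ} (hk : F.ncard = k)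
    (hPM : (P : Subgroup G) ≤ stabilizer G F)
    (hfree : ∀ g ∈ (P : Subgroup G), ∀ x, x ∉ F → g • x = x → g = 1)
    (hnc : ¬ IsCyclic (P : Subgroup G)) (t : G) (ht : t ∈ (P : Subgroup G)) :
    Equiv.Perm.sign (perm hk ⟨t, hPM ht⟩) = 1 := by
  classical
  letI := Fintype.ofFinite Ω
  letI := Fintype.ofFinite (P : Subgroup G)
  set T : Subgroup G := (P : Subgroup G) with hT
  let p : Ω → Prop := fun ω => ω ∈ F
  have hp : ∀ s ∈ T, ∀ ω, p ω ↔ p (s • ω) := fun s hs ω =>
    ⟨fun hω => smul_mem_block (hPM hs) hω, fun hω => by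
      have := smul_mem_block (inv_mem (hPM hs)) hω
      rwa [inv_smul_smul] at this⟩
  let σ : Equiv.Perm Ω := MulAction.toPerm t
  let ep : Equiv.Perm {ω // p ω} := σ.subtypePerm fun ω => (hp t ht ω).symm
  let en : Equiv.Perm {ω // ¬ p ω} := σ.subtypePerm fun ω => not_congr (hp t ht ω).symm
  have hσ : σ = ep.subtypeCongr en := by
    ext ω
    by_cases hω : p ω <;> simp [Equiv.Perm.subtypeCongr, Equiv.sumCompl, hω, ep, en] <;> rfl
  have hen : Equiv.Perm.sign en = 1 := by
    let J := {q : Quotient (orbitRel T Ω) // ¬ p q.out}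
    have hinv : ∀ (s : T) (ω : Ω), ¬ p ω → ¬ p ((s : G) • ω) := fun s ω hω h' => hω ((hp s s.2 ω).2 h')
    let Φ : J × T → {ω // ¬ p ω} := fun x => ⟨(x.2 : G) • x.1.1.out, hinv x.2 _ x.1.2⟩
    have hΦ : Function.Bijective Φ := by
      refine ⟨?_, ?_⟩
      · rintro ⟨q, s⟩ ⟨q', s'⟩ he
        have he' : (s : G) • q.1.out = (s' : G) • q'.1.out := congrArg Subtype.val he
        have hq : q = q' := by
          refine Subtype.ext (Quotient.out_equiv_out.1 ⟨s⁻¹ * s', ?_⟩)
          show ((s⁻¹ * s' : T) : G) • q'.1.out = q.1.out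
          rw [Subgroup.coe_mul, Subgroup.coe_inv, mul_smul, ← he', inv_smul_smul]
        subst hq
        refine Prod.ext rfl ?_
        have hfx : ((s'⁻¹ * s : T) : G) • q.1.out = q.1.out := by
          rw [Subgroup.coe_mul, Subgroup.coe_inv, mul_smul, he', inv_smul_smul]
        exact (inv_mul_eq_one.1 (Subtype.ext (hfree _ (s'⁻¹ * s).2 _ q.2 hfx) : s'⁻¹ * s = 1)).symm
      · rintro ⟨ω, hω⟩
        obtain ⟨s, hs⟩ := (Quotient.mk_out (s := orbitRel T Ω) ω :
          (Quotient.mk (orbitRel T Ω) ω).out ∈ orbit T ω)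
        refine ⟨⟨⟨Quotient.mk _ ω, ?_⟩, s⁻¹⟩, Subtype.ext ?_⟩
        · rw [← hs]; exact hinv s ω hω
        · show ((s⁻¹ : T) : G) • (Quotient.mk (orbitRel T Ω) ω).out = ω
          rw [← hs, Subgroup.coe_inv]
          exact inv_smul_smul (s : G) ω
    haveI : Fintype J := Fintype.ofFinite _
    have hen' : en = (Equiv.ofBijective Φ hΦ).permCongr
        (Equiv.prodCongrRight fun _ : J => Equiv.mulLeft (⟨t, ht⟩ : T)) := by
      ext ω
      obtain ⟨⟨q, s⟩, rfl⟩ := (Equiv.ofBijective Φ hΦ).surjective ω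
      rw [Equiv.permCongr_apply, Equiv.symm_apply_apply]
      simp [Φ, en, σ, Equiv.prodCongrRight, mul_smul]
    rw [hen', Equiv.Perm.sign_permCongr, Equiv.Perm.sign_prodCongrRight]
    exact Finset.prod_eq_one fun _ _ => Lie.FixityTwoSylow.hom_even P.isPGroup' hnc _
  have hep : Equiv.Perm.sign ep = 1 := by
    have h : Equiv.Perm.sign σ = 1 := hS.sign_eq_one t
    rwa [hσ, Equiv.Perm.sign_subtypeCongr, hen, mul_one] at h
  let e : Fin k ≃ {ω // p ω} := Equiv.ofBijective (fun i => ⟨pt hk i, pt_mem hk i⟩)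
    ⟨fun i j h => pt_inj hk (congrArg Subtype.val h), fun x =>
      (pt_surj hk x.2).imp fun i hi => Subtype.ext hi⟩
  have hcongr : perm hk ⟨t, hPM ht⟩ = e.symm.permCongr ep := by
    refine Equiv.ext fun i => ?_
    apply e.injective
    rw [Equiv.permCongr_apply, Equiv.apply_symm_apply, Equiv.symm_symm]
    exact Subtype.ext (pt_perm hk _ i)
  rw [hcongr, Equiv.Perm.sign_permCongr, hep]

theorem sign_perm_stab (hS : Setting G Ω) {P : Sylow 2 G} {F : Set Ω} {k : ℕ} (hk : F.ncard = k)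
    (hPM : (P : Subgroup G) ≤ stabilizer G F)
    (hfree : ∀ g ∈ (P : Subgroup G), ∀ x, x ∉ F → g • x = x → g = 1)
    (hnc : ¬ IsCyclic (P : Subgroup G)) (x : stabilizer G F) :
    Equiv.Perm.sign (perm hk x) = 1 := by
  haveI := Fact.mk Nat.prime_two
  let χ : stabilizer G F →* ℤˣ := (Equiv.Perm.sign).comp (perm hk)
  have hle : (P : Subgroup G).subgroupOf (stabilizer G F) ≤ χ.ker := fun y hy => by
    rw [MonoidHom.mem_ker]
    exact sign_perm_sylow hS hk hPM hfree hnc y (Subgroup.mem_subgroupOf.1 hy)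
  have h1 : χ.ker.index ∣ (P : Subgroup G).relIndex (stabilizer G F) := Subgroup.index_dvd_of_le hle
  have h2 : χ.ker.index ≤ 2 := by
    rw [Subgroup.index_ker]
    refine (Subgroup.card_le_card_group χ.range).trans ?_
    rw [Nat.card_eq_fintype_card]
    rfl
  have h3 : ¬ 2 ∣ (P : Subgroup G).relIndex (stabilizer G F) := fun h =>
    P.not_dvd_index (h.trans (Subgroup.relIndex_dvd_index_of_le hPM))
  have h4 : χ.ker.index = 1 := by
    have := Subgroup.index_ne_zero_of_finite (H := χ.ker)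
    by_contra hne
    exact h3 (by rw [show χ.ker.index = 2 by omega] at h1; exact h1)
  exact MonoidHom.mem_ker.1 ((Subgroup.index_eq_one.1 h4).ge (Subgroup.mem_top x))

end Cfsg.Agent.Perm.FixFour
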