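import Cfsg.Agent.Lib.Perm.FixFour.Regular

/-!
Four fixed points, the Sylow subgroup preserves the block and some involution of it outside the
pointwise part has fixed points.
-/

set_option autoImplicit false
set_option linter.unusedSectionVars false
set_option linter.style.haveILetI false

open MulAction
open scoped Pointwise

namespace Cfsg.Agent.Perm.FixFour

universe u v

variable {G : Type u} {Ω : Type v} [Group G] [Finite G] [MulAction G Ω] [Finite Ω]

theorem bounded_of_fix (hS : Setting G Ω) {P : Sylow 2 G} {F : Set Ω} {t : G} (hT : Top G F 4 t)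
    (hPM : (P : Subgroup G) ≤ stabilizer G F) {u : G} (huP : u ∈ (P : Subgroup G)) (hu : orderOf u = 2)
    (huK : u ∉ fixingSubgroup G F) (hufix : (fixedBy Ω u).Nonempty) : Bounded P := by
  haveI := Fact.mk Nat.prime_two
  have hB := hT.block hS
  have hF := hT.card
  set K := fixingSubgroup G F with hK
  set F' := fixedBy Ω u with hF'
  have hF'4 : F'.ncard = 4 := by
    have h1 := hT.mod_four hS hu
    have h2 := hT.max u hu
    have h3 : 0 < (fixedBy Ω u).ncard := (Set.ncard_pos (Set.toFinite _)).2 hufix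
    rw [hF']
    omega
  have hT' : Top G F' 4 u := ⟨hT.pos, hT.max, hu, rfl, hF'4⟩
  have hB' := hT'.block hS
  set R := (P : Subgroup G) ⊓ K with hR
  have hRP : R ≤ (P : Subgroup G) := inf_le_left
  have hRp : IsPGroup 2 R := P.isPGroup'.to_inf_left
  set W := R ⊓ stabilizer G F' with hW
  have hWp : IsPGroup 2 W := hRp.to_inf_left
  have hWP : W ≤ (P : Subgroup G) := inf_le_left.trans hRP
  have hWK : W ≤ K := inf_le_left.trans inf_le_right
  set U := (P : Subgroup G) ⊓ fixingSubgroup G F' with hU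
  have hUP : U ≤ (P : Subgroup G) := inf_le_left
  have hUp : IsPGroup 2 U := P.isPGroup'.to_inf_left
  have huU : u ∈ U := ⟨huP, hT'.mem⟩
  have hUfix : ∀ r ∈ U, orderOf r = 2 → fixedBy Ω r = F' := fun r hr hro => hB'.sharp r hro hr.2
  have hcentS : ∀ r ∈ U, r ≠ 1 → ∀ g ∈ (P : Subgroup G), Commute g r → g ∈ stabilizer G F' :=
    fun r hr hr1 g _ hg => by
      refine hB'.mem_stab_of_ne hUp hr hr1 hr.2 ?_
      rw [hg.eq, mul_inv_cancel_right]
      exact hr.2
  obtain ⟨x₀, hx₀, hx₀F⟩ := exists_fixed_out (g := u) (by rw [← hF', hF'4, hF]) huK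
  have hCu : ∀ r ∈ U, orderOf r = 2 →
      R ⊓ Subgroup.centralizer {r} ≤ W := fun r hr hro g hg =>
    ⟨hg.1, hcentS r hr (ne_one_of_two hro) g hg.1.1 (Subgroup.mem_centralizer_singleton_iff.1 hg.2)⟩
  have hWle : Nat.card W ≤ (F' \ F).ncard := by
    refine card_le_ncard hB hWp hWK (fun g hg => ?_) (x := x₀) ⟨hx₀, hx₀F⟩ hx₀F
    refine mem_stabilizer_iff.2 ?_
    rw [Set.smul_set_sdiff, mem_stabilizer_iff.1 hg.2, mem_stabilizer_iff.1 (hPM (hWP hg))]
  -- small centralizers in the pointwise part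
  by_cases hbad : ∃ r ∈ U, orderOf r = 2 ∧ Nat.card (R ⊓ Subgroup.centralizer {r} : Subgroup G) ≤ 2
  · obtain ⟨r, hr, hro, hsmall⟩ := hbad
    refine bounded_of_all_eight hF (hUP hr) (sq_one hro) (fun g hg _ => hPM hg) fun D _ _ _ hrD => ?_
    refine le_trans (Subgroup.card_le_of_le (K := R ⊓ Subgroup.centralizer {r}) fun g hg => ⟨hg.1, ?_⟩) hsmall
    exact Subgroup.mem_centralizer_singleton_iff.2 (Subgroup.mem_centralizer_iff.1 hg.2 r hrD).symm
  push Not at hbad
  have hsub : (F' \ F).ncard ≤ 4 := (Set.ncard_le_ncard Set.sdiff_subset (Set.toFinite _)).trans hF'4.le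
  have hC3 : 2 < Nat.card (R ⊓ Subgroup.centralizer {u} : Subgroup G) := hbad u huU hu
  have hW4 : Nat.card W = 4 := by
    obtain ⟨n, hn⟩ := IsPGroup.iff_card.1 hWp
    have h3 : 2 < Nat.card W := hC3.trans_le (Subgroup.card_le_of_le (hCu u huU hu))
    have h4 : Nat.card W ≤ 4 := hWle.trans hsub
    rw [hn] at h3 h4 ⊢
    have h5 : n ≤ 2 := (Nat.pow_le_pow_iff_right (by norm_num)).1 (show 2 ^ n ≤ 2 ^ 2 from h4)
    have h6 : 1 < n := (Nat.pow_lt_pow_iff_right (by norm_num)).1 (show 2 ^ 1 < 2 ^ n from h3)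
    rw [show n = 2 by omega]
    norm_num
  have hdis : ∀ x ∈ F', x ∉ F := fun x hx hxF => by
    have h : F' \ F ⊆ F' \ {x} := fun y hy =>
      ⟨hy.1, fun e => hy.2 (by rw [Set.mem_singleton_iff] at e; exact e ▸ hxF)⟩
    have h' := Set.ncard_le_ncard h (Set.toFinite _)
    rw [Set.ncard_diff_singleton_of_mem hx, hF'4] at h'
    omega
  have htr : ∀ x ∈ F', ∀ y ∈ F', ∃ q ∈ W, q • x = y := fun x hx y hy =>
    exists_smul_of_card hB hWp hWK inf_le_right hdis (by rw [hF'4, hW4]) hx hy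
  have hWU : ∀ a ∈ W, ∀ r ∈ U, Commute a r := by
    intro a ha r hr
    have h1 : a * r * a⁻¹ ∈ U :=
      ⟨(P : Subgroup G).mul_mem ((P : Subgroup G).mul_mem (hWP ha) hr.1) ((P : Subgroup G).inv_mem (hWP ha)),
        fix_conj_stab ha.2 hr.2⟩
    have h2 : r * a⁻¹ * r⁻¹ ∈ K := fix_conj_stab (hPM hr.1) (K.inv_mem (hWK ha))
    have hk : a * r * a⁻¹ * r⁻¹ ∈ K := by
      rw [show a * r * a⁻¹ * r⁻¹ = a * (r * a⁻¹ * r⁻¹) by group]
      exact mul_mem (hWK ha) h2
    have hu' := U.mul_mem h1 (U.inv_mem hr)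
    have h := hB.eq_one_of_fix (Q := U) hUp hu' hk (x := x₀) (mem_fix.1 hu'.2 hx₀) hx₀F
    exact mul_inv_eq_iff_eq_mul.1 (mul_inv_eq_one.1 h)
  have hUK : ∀ g ∈ U, g ∈ K → g = 1 := fun g hg hgK =>
    hB.eq_one_of_fix hUp hg hgK (mem_fix.1 hg.2 hx₀) hx₀F
  obtain ⟨c, hc⟩ := hB'.ne
  set V := ((P : Subgroup G) ⊓ stabilizer G F') ⊓ stabilizer G c with hV
  have hVp : IsPGroup 2 V := P.isPGroup'.to_le (inf_le_left.trans inf_le_left)
  have hUV : U ≤ V := fun x hx => ⟨⟨hx.1, fix_le_stab hx.2⟩, mem_stabilizer_iff.2 (mem_fix.1 hx.2 hc)⟩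
  have hVK : ∀ g ∈ V, g ∈ K → g = 1 := fun g hg hgK =>
    hB.eq_one_of_fix hVp hg hgK (mem_stabilizer_iff.1 hg.2) (hdis c hc)
  have hWe : ∀ e ∈ V, (∀ a ∈ W, Commute e a) → e ∈ U := fun e he hec =>
    ⟨he.1.1, fixes_of_commute htr hec hc (mem_stabilizer_iff.1 he.2)⟩
  have hdecS : ∀ g ∈ (P : Subgroup G), g ∈ stabilizer G F' → ∃ a ∈ W, ∃ v ∈ V, g = a * v := fun g hg hgF => by
    obtain ⟨q, hq, hqc⟩ := htr (g • c) (smul_mem_block hgF hc) c hc
    refine ⟨q⁻¹, W.inv_mem hq, q * g, ⟨⟨mul_mem (hWP hq) hg, mul_mem hq.2 hgF⟩, mem_stabilizer_iff.2 ?_⟩,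
      by group⟩
    rw [mul_smul, hqc]
  have hWcomm : ∀ a ∈ W, ∀ b ∈ W, Commute a b := fun a ha b hb => commute_four hWP hW4.le ha hb
  have hcentdec : ∀ g ∈ (P : Subgroup G), g ∈ stabilizer G F' → (∀ a ∈ W, Commute g a) →
      ∃ a ∈ W, ∃ r ∈ U, g = a * r := fun g hg hgF hgW => by
    obtain ⟨a, ha, v, hv, rfl⟩ := hdecS g hg hgF
    refine ⟨a, ha, v, hWe v hv fun b hb => ?_, rfl⟩
    have h := (hWcomm a ha b hb).inv_left.mul_left (hgW b hb)
    rwa [inv_mul_cancel_left] at h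
  have hparts : ∀ a ∈ W, ∀ r ∈ U, a * r = 1 → a = 1 ∧ r = 1 := fun a ha r hr h => by
    have hr1 : r = 1 := hUK r hr (by
      rw [show r = a⁻¹ from eq_inv_of_mul_eq_one_right h]; exact K.inv_mem (hWK ha))
    exact ⟨by rwa [hr1, mul_one] at h, hr1⟩
  have hsqparts : ∀ a ∈ W, ∀ r ∈ U, (a * r) ^ 2 = 1 → a ^ 2 = 1 ∧ r ^ 2 = 1 := fun a ha r hr h => by
    rw [(hWU a ha r hr).mul_pow] at h
    exact hparts _ (pow_mem ha 2) _ (pow_mem hr 2) h
  -- an involution outside
  by_cases hstep : ∃ e ∈ V, e ∉ U ∧ e * e = 1 ∧ ∃ r ∈ U, orderOf r = 2 ∧ Commute e r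
  · obtain ⟨e, heV, heU, he2, r, hr, hro, her⟩ := hstep
    have heP : e ∈ (P : Subgroup G) := heV.1.1
    obtain ⟨z, hz, hz2, hz1, hez⟩ := exists_cent_involution hWP hW4 he2 fun a ha =>
      ⟨⟨(P : Subgroup G).mul_mem ((P : Subgroup G).mul_mem heP (hWP ha)) ((P : Subgroup G).inv_mem heP),
        fix_conj_stab (hPM heP) (hWK ha)⟩, (stabilizer G F').mul_mem
          ((stabilizer G F').mul_mem heV.1.2 ha.2) ((stabilizer G F').inv_mem heV.1.2)⟩
    have hrK : r ∉ K := fun h => ne_one_of_two hro (hUK r hr h)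
    have heK : e ∉ K := fun h => heU (by rw [hVK e heV h]; exact one_mem U)
    have hreK : r⁻¹ * e ∉ K := fun h => heU (by
      rw [← inv_mul_eq_one.1 (hVK _ (V.mul_mem (V.inv_mem (hUV hr)) heV) h)]
      exact hr)
    obtain ⟨D, hDS, hDe, hD8, -, hrD, heD⟩ := exists_eight_of_three (a := r) (b := e) hz2 hz1 (hWK hz)
      (sq_one hro) he2 (hPM hr.1) hrK heK hreK (hWU z hz r hr) hez.symm her.symm (S := (P : Subgroup G))
      (hWP hz) hr.1 heP
    refine bounded_of_elem hF hDS (hDS.trans hPM) hDe hD8 (fun g hg _ => hPM hg) ?_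
    have hle : R ⊓ Subgroup.centralizer (D : Set G) ≤ W ⊓ Subgroup.centralizer {e} := fun g hg =>
      ⟨hCu r hr hro ⟨hg.1,
        Subgroup.mem_centralizer_singleton_iff.2 (Subgroup.mem_centralizer_iff.1 hg.2 r hrD).symm⟩,
       Subgroup.mem_centralizer_singleton_iff.2 (Subgroup.mem_centralizer_iff.1 hg.2 e heD).symm⟩
    refine (Subgroup.card_le_of_le hle).trans ?_
    obtain ⟨a, ha, hna⟩ : ∃ a ∈ W, ¬ Commute e a := by
      by_contra hcon
      push Not at hcon
      exact heU (hWe e heV hcon)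
    exact card_le_two_of_not_all hWP hW4 inf_le_left ha
      fun h => hna (Subgroup.mem_centralizer_singleton_iff.1 h.2).symm
  push Not at hstep
  -- elementary eights with a small centralizer
  by_cases hD2 : ∃ D : Subgroup G, D ≤ (P : Subgroup G) ∧ (∀ d ∈ D, d ^ 2 = 1) ∧ Nat.card D = 8 ∧
      Nat.card (R ⊓ Subgroup.centralizer (D : Set G) : Subgroup G) ≤ 2
  · obtain ⟨D, hD, hDe, hD8, hDs⟩ := hD2
    exact bounded_of_elem hF hD (hD.trans hPM) hDe hD8 (fun g hg _ => hPM hg) hDs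
  push Not at hD2
  have hDdec : ∀ D : Subgroup G, D ≤ (P : Subgroup G) → (∀ d ∈ D, d ^ 2 = 1) → Nat.card D = 8 →
      ∀ r ∈ U, orderOf r = 2 → r ∈ D →
      ∀ d ∈ D, ∃ a ∈ W, ∃ s ∈ U, d = a * s ∧ a ^ 2 = 1 ∧ s ^ 2 = 1 := by
    intro D hD hDe hD8 r hr hro hrD d hd
    have hle : R ⊓ Subgroup.centralizer (D : Set G) ≤ W := fun g hg => hCu r hr hro
      ⟨hg.1, Subgroup.mem_centralizer_singleton_iff.2 (Subgroup.mem_centralizer_iff.1 hg.2 r hrD).symm⟩
    have hcW : ∀ a ∈ W, Commute d a := fun a ha => by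
      by_contra hn
      refine absurd (card_le_two_of_not_all hWP hW4 hle ha fun h => hn ?_) (not_le.2 (hD2 D hD hDe hD8))
      exact (Subgroup.mem_centralizer_iff.1 h.2 d hd)
    obtain ⟨a, ha, s, hs, rfl⟩ := hcentdec d (hD hd)
      (hcentS r hr (ne_one_of_two hro) d (hD hd) (commute_elem hDe hd hrD)) hcW
    obtain ⟨ha2, hs2⟩ := hsqparts a ha s hs (hDe _ hd)
    exact ⟨a, ha, s, hs, rfl, ha2, hs2⟩
  rcases exists_normal_eight P with hb | ⟨X, hXP, hXn, hXe, hX8⟩
  · exact hb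
  have hXdec : ∀ r ∈ U, orderOf r = 2 → ∀ x ∈ X, Commute x r →
      ∃ a ∈ W, ∃ s ∈ U, x = a * s ∧ a ^ 2 = 1 ∧ s ^ 2 = 1 := fun r hr hro x hx hxr => by
    obtain ⟨D, hD, hDe, hD8, hrD, hxD⟩ := exists_eight hXP hXn hXe hX8 (hUP hr) (sq_one hro) hx hxr
    exact hDdec D hD hDe hD8 r hr hro hrD x hxD
  obtain ⟨D₀, hD₀, hD₀e, hD₀8, huD₀, -⟩ := exists_eight hXP hXn hXe hX8 huP (sq_one hu) (one_mem X)
    (Commute.one_left u)
  have hD₀dec := hDdec D₀ hD₀ hD₀e hD₀8 u huU hu huD₀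
  have hU4 : Nat.card U ≤ 4 := by
    obtain ⟨y, hy⟩ := hB.ne
    refine (card_le_ncard hB' hUp inf_le_right (hUP.trans hPM) hy fun h => hdis y h hy).trans hF.le
  classical
  letI := Fintype.ofFinite G
  have hWset : ∀ (n : ℕ) (S : Finset G), (∀ a ∈ W, a ^ 2 = 1 → a ∈ S) → S.card ≤ n →
      ∀ (m : ℕ) (T : Finset G), (∀ r ∈ U, r ^ 2 = 1 → r ∈ T) → T.card ≤ m → 8 ≤ n * m := by
    intro n S hS' hn m T hT hm
    have hsub' : (D₀ : Set G) ⊆ (((S ×ˢ T).image fun p => p.1 * p.2 : Finset G) : Set G) := by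
      intro d hd
      obtain ⟨a, ha, s, hs, rfl, ha2, hs2⟩ := hD₀dec d hd
      exact Finset.mem_image.2 ⟨(a, s), Finset.mem_product.2 ⟨hS' a ha ha2, hT s hs hs2⟩, rfl⟩
    have h := Set.ncard_le_ncard hsub' (Set.toFinite _)
    rw [Set.ncard_coe_finset, ← Nat.card_coe_set_eq] at h
    change Nat.card D₀ ≤ _ at h
    rw [hD₀8] at h
    exact h.trans ((Finset.card_image_le).trans ((Finset.card_product S T).le.trans (Nat.mul_le_mul hn hm)))
  by_cases hU2 : Nat.card U ≤ 2
  · have hUtwo : ∀ r ∈ U, r = 1 ∨ r = u := fun r hr => by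
      have hle : Subgroup.zpowers u ≤ U := Subgroup.zpowers_le.2 huU
      have heq : Subgroup.zpowers u = U := Subgroup.eq_of_le_of_card_ge hle (by rwa [Nat.card_zpowers, hu])
      rw [← heq] at hr
      obtain ⟨i, rfl⟩ := hr
      obtain ⟨l, rfl | rfl⟩ := Int.even_or_odd' i
      · left; change u ^ (2 * l) = 1; rw [zpow_mul, zpow_two, sq_one hu, one_zpow]
      · right; change u ^ (2 * l + 1) = u
        rw [zpow_add, zpow_mul, zpow_two, sq_one hu, one_zpow, one_mul, zpow_one]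
    have hWelem : ∀ a ∈ W, a ^ 2 = 1 := fun a ha => by
      by_contra hne
      have := hWset 2 {1, a ^ 2} (fun b hb hb2 => by
        rcases involution_unique hWP hW4 ha hne hb hb2 with e | e <;> simp [e]) Finset.card_le_two
        2 {1, u} (fun r hr _ => by rcases hUtwo r hr with e | e <;> simp [e]) Finset.card_le_two
      omega
    have hWu : W ≤ D₀ ∧ ∀ g, (∃ a ∈ W, ∃ s ∈ U, g = a * s) → g ∈ D₀ := by
      set S := ((W : Set G).toFinset ×ˢ ({1, u} : Finset G)).image fun p => p.1 * p.2 with hSdef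
      have hS8 : S.card ≤ 8 := by
        refine Finset.card_image_le.trans ((Finset.card_product _ _).le.trans ?_)
        calc (W : Set G).toFinset.card * ({1, u} : Finset G).card ≤ 4 * 2 := by
              refine Nat.mul_le_mul ?_ Finset.card_le_two
              rw [← Set.ncard_eq_toFinset_card', ← Nat.card_coe_set_eq]
              exact hW4.le
          _ = 8 := by norm_num
      have hsub' : (D₀ : Set G) ⊆ (S : Set G) := fun d hd => by
        obtain ⟨a, ha, s, hs, rfl, -, -⟩ := hD₀dec d hd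
        refine Finset.mem_image.2 ⟨(a, s), Finset.mem_product.2 ⟨Set.mem_toFinset.2 ha, ?_⟩, rfl⟩
        rcases hUtwo s hs with e | e <;> simp [e]
      have heq : (D₀ : Set G) = (S : Set G) := Set.eq_of_subset_of_ncard_le hsub' (by
        rw [Set.ncard_coe_finset, ← Nat.card_coe_set_eq]
        change S.card ≤ Nat.card D₀
        rw [hD₀8]; exact hS8) (Set.toFinite _)
      have hmem : ∀ g, (∃ a ∈ W, ∃ s ∈ U, g = a * s) → g ∈ D₀ := by
        rintro g ⟨a, ha, s, hs, rfl⟩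
        rw [← SetLike.mem_coe, heq]
        refine Finset.mem_image.2 ⟨(a, s), Finset.mem_product.2 ⟨Set.mem_toFinset.2 ha, ?_⟩, rfl⟩
        rcases hUtwo s hs with e | e <;> simp [e]
      exact ⟨fun a ha => hmem a ⟨a, ha, 1, one_mem U, (mul_one a).symm⟩, hmem⟩
    refine bounded_of_self_cent hD₀ hD₀e hD₀8 fun g hg hgD => hWu.2 g ?_
    exact hcentdec g hg (hcentS u huU (ne_one_of_two hu) g hg (hgD u huD₀)) fun a ha => hgD a (hWu.1 ha)
  have hUeq : Nat.card U = 4 := by
    obtain ⟨n, hn⟩ := IsPGroup.iff_card.1 hUp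
    rw [hn] at hU4 hU2 ⊢
    have h5 : n ≤ 2 := (Nat.pow_le_pow_iff_right (by norm_num)).1 (show 2 ^ n ≤ 2 ^ 2 from hU4)
    interval_cases n
    · norm_num at hU2
    · norm_num at hU2
    · norm_num
  by_cases hUelem : ∀ r ∈ U, r ^ 2 = 1
  swap
  · -- cyclic
    push Not at hUelem
    obtain ⟨v, hv, hv2⟩ := hUelem
    have huv : u = v ^ 2 := by
      rcases involution_unique hUP hUeq hv hv2 huU (by rw [pow_two]; exact sq_one hu) with e | e
      · exact absurd e (ne_one_of_two hu)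
      · exact e
    have hUinv : ∀ r ∈ U, r ^ 2 = 1 → r = 1 ∨ r = u := fun r hr hr2 => by
      rcases involution_unique hUP hUeq hv hv2 hr hr2 with e | e
      · exact Or.inl e
      · exact Or.inr (e.trans huv.symm)
    have hWelem : ∀ a ∈ W, a ^ 2 = 1 := fun a ha => by
      by_contra hne
      have := hWset 2 {1, a ^ 2} (fun b hb hb2 => by
        rcases involution_unique hWP hW4 ha hne hb hb2 with e | e <;> simp [e]) Finset.card_le_two
        2 {1, u} (fun r hr hr2 => by rcases hUinv r hr hr2 with e | e <;> simp [e]) Finset.card_le_two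
      omega
    have hfixv : ∀ x ∈ X, Commute x u → Commute x v := fun x hx hxu => by
      obtain ⟨a, ha, s, hs, rfl, -, hs2⟩ := hXdec u huU hu x hx hxu
      refine (hWU a ha v hv).mul_left ?_
      rcases hUinv s hs hs2 with e | e
      · rw [e]; exact Commute.one_left v
      · rw [e, huv]; exact (Commute.refl v).pow_left 2
    have hvP := hUP hv
    let d : G → G := fun x => x * (v * x * v⁻¹)
    have hd : ∀ x ∈ X, d x ∈ X := fun x hx => mul_mem hx (hXn v hvP x hx)
    have hdd : ∀ x ∈ X, d (d x) = x * (u * x * u⁻¹) := fun x hx => by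
      have hxv := hXn v hvP x hx
      have h2 : (v * x * v⁻¹) * (v * x * v⁻¹) = 1 := by rw [← pow_two]; exact hXe _ hxv
      calc d (d x) = x * ((v * x * v⁻¹) * (v * x * v⁻¹)) * (v * (v * x * v⁻¹) * v⁻¹) := by
            simp only [d]; group
        _ = x * (v * (v * x * v⁻¹) * v⁻¹) := by rw [h2, mul_one]
        _ = x * (u * x * u⁻¹) := by rw [huv, pow_two]; group
    have hd1 : ∀ x ∈ X, Commute x v → d x = 1 := fun x hx hxv => by
      simp only [d]
      rw [← hxv.eq, mul_inv_cancel_right, ← pow_two, hXe x hx]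
    have hcu : ∀ x ∈ X, d (d x) = 1 → Commute x u := fun x hx h => by
      rw [hdd x hx] at h
      have h' := eq_inv_of_mul_eq_one_right h
      rw [inv_eq_self' hXe hx] at h'
      exact (mul_inv_eq_iff_eq_mul.1 h').symm
    have hddu : ∀ x ∈ X, Commute (d (d x)) u := fun x hx => by
      rw [hdd x hx]
      have hxu := hXn u huP x hx
      refine (mul_inv_eq_iff_eq_mul.1 ?_).symm
      rw [← conj_mul, show u * (u * x * u⁻¹) * u⁻¹ = x by
        calc _ = (u * u) * x * (u * u)⁻¹ := by group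
          _ = x := by rw [sq_one hu]; group]
      exact (commute_elem hXe hxu hx).eq
    have hXu : ∀ x ∈ X, Commute x u := fun x hx => by
      have h1 := hd x hx
      have h2 := hd _ h1
      have h3 : d (d (d x)) = 1 := hd1 _ h2 (hfixv _ h2 (hddu x hx))
      have h4 : d (d x) = 1 := hd1 _ h1 (hfixv _ h1 (hcu _ h1 h3))
      exact hcu x hx h4
    have hXeq : ∀ g, (∃ a ∈ W, g = a ∨ g = a * u) → g ∈ X := by
      set S := ((W : Set G).toFinset ×ˢ ({1, u} : Finset G)).image fun p => p.1 * p.2 with hSdef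
      have hS8 : S.card ≤ 8 := by
        refine Finset.card_image_le.trans ((Finset.card_product _ _).le.trans ?_)
        calc (W : Set G).toFinset.card * ({1, u} : Finset G).card ≤ 4 * 2 := by
              refine Nat.mul_le_mul ?_ Finset.card_le_two
              rw [← Set.ncard_eq_toFinset_card', ← Nat.card_coe_set_eq]
              exact hW4.le
          _ = 8 := by norm_num
      have hsub' : (X : Set G) ⊆ (S : Set G) := fun x hx => by
        obtain ⟨a, ha, s, hs, rfl, -, hs2⟩ := hXdec u huU hu x hx (hXu x hx)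
        refine Finset.mem_image.2 ⟨(a, s), Finset.mem_product.2 ⟨Set.mem_toFinset.2 ha, ?_⟩, rfl⟩
        rcases hUinv s hs hs2 with e | e <;> simp [e]
      have heq : (X : Set G) = (S : Set G) := Set.eq_of_subset_of_ncard_le hsub' (by
        rw [Set.ncard_coe_finset, ← Nat.card_coe_set_eq]
        change S.card ≤ Nat.card X
        omega) (Set.toFinite _)
      rintro g ⟨a, ha, e | e⟩
      · rw [← SetLike.mem_coe, heq]
        exact Finset.mem_image.2 ⟨(a, 1), Finset.mem_product.2 ⟨Set.mem_toFinset.2 ha, by simp⟩, by simp [e]⟩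
      · rw [← SetLike.mem_coe, heq]
        exact Finset.mem_image.2 ⟨(a, u), Finset.mem_product.2 ⟨Set.mem_toFinset.2 ha, by simp⟩, e.symm⟩
    have hcentral : ∀ g ∈ (P : Subgroup G), Commute g u := fun g hg => by
      set v₁ := g * v * g⁻¹ with hv₁
      have hv₁c : ∀ x ∈ X, Commute v₁ x := fun x hx => by
        have hy := hXn g⁻¹ ((P : Subgroup G).inv_mem hg) x hx
        rw [inv_inv] at hy
        have hvy : Commute v (g⁻¹ * x * g) := (hfixv _ hy (hXu _ hy)).symm
        calc v₁ * x = g * (v * (g⁻¹ * x * g)) * g⁻¹ := by rw [hv₁]; group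
          _ = g * ((g⁻¹ * x * g) * v) * g⁻¹ := by rw [hvy.eq]
          _ = x * v₁ := by rw [hv₁]; group
      have huX : u ∈ X := hXeq u ⟨1, one_mem W, Or.inr (one_mul u).symm⟩
      have hv₁P : v₁ ∈ (P : Subgroup G) :=
        (P : Subgroup G).mul_mem ((P : Subgroup G).mul_mem hg hvP) ((P : Subgroup G).inv_mem hg)
      obtain ⟨a, ha, r, hr, he⟩ := hcentdec v₁ hv₁P (hcentS u huU (ne_one_of_two hu) v₁ hv₁P (hv₁c u huX))
        fun a ha => hv₁c a (hXeq a ⟨a, ha, Or.inl rfl⟩)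
      have hsq : g * u * g⁻¹ = r ^ 2 := by
        rw [huv, ← conj_pow, ← hv₁, he, (hWU a ha r hr).mul_pow, hWelem a ha, one_mul]
      have hr4 := pow_four_of_card hUeq hr
      rcases hUinv (r ^ 2) (pow_mem hr 2) (by rw [← pow_mul]; exact hr4) with e | e
      · rw [e, conj_eq_one_iff] at hsq
        exact absurd hsq (ne_one_of_two hu)
      · exact mul_inv_eq_iff_eq_mul.1 (hsq.trans e)
    refine bounded_of_small hF hPM (Or.inl ?_)
    rw [← hW4]
    exact Subgroup.card_le_of_le fun g hg => hCu u huU hu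
      ⟨hg, Subgroup.mem_centralizer_singleton_iff.2 (hcentral g hg.1).eq⟩
  -- elementary
  have hUord : ∀ r ∈ U, r ≠ 1 → orderOf r = 2 := fun r hr hr1 =>
    orderOf_two (by rw [← pow_two]; exact hUelem r hr) hr1
  by_cases hWelem : ∀ a ∈ W, a ^ 2 = 1
  swap
  · push Not at hWelem
    obtain ⟨w₀, hw₀, hw₀2⟩ := hWelem
    set z := w₀ ^ 2 with hzdef
    have hzW : z ∈ W := pow_mem hw₀ 2
    have hWinv : ∀ a ∈ W, a ^ 2 = 1 → a = 1 ∨ a = z := fun a ha ha2 =>
      involution_unique hWP hW4 hw₀ hw₀2 ha ha2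
    set S := (({1, z} : Finset G) ×ˢ (U : Set G).toFinset).image fun p => p.1 * p.2 with hSdef
    have hS8 : S.card ≤ 8 := by
      refine Finset.card_image_le.trans ((Finset.card_product _ _).le.trans ?_)
      calc ({1, z} : Finset G).card * (U : Set G).toFinset.card ≤ 2 * 4 := by
            refine Nat.mul_le_mul Finset.card_le_two ?_
            rw [← Set.ncard_eq_toFinset_card', ← Nat.card_coe_set_eq]
            exact hUeq.le
        _ = 8 := by norm_num
    have hXS : ∀ r ∈ U, orderOf r = 2 → ∀ x ∈ X, Commute x r → x ∈ S := fun r hr hro x hx hxr => by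
      obtain ⟨a, ha, s, hs, rfl, ha2, -⟩ := hXdec r hr hro x hx hxr
      refine Finset.mem_image.2 ⟨(a, s), Finset.mem_product.2 ⟨?_, Set.mem_toFinset.2 hs⟩, rfl⟩
      rcases hWinv a ha ha2 with e | e <;> simp [e]
    obtain ⟨r, hr, hrX, hr1⟩ : ∃ r ∈ U, r ∈ X ∧ r ≠ 1 := by
      by_contra hcon
      push Not at hcon
      set Y := X ⊓ Subgroup.centralizer {u} with hY
      have hsq := Solv.SelfCentEight.fixed_sq (a := u) (X := X) (fun a ha b hb => commute_elem hXe ha hb) hXe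
        (fun a ha => hXn u huP a ha) fun a _ => by rw [sq_one hu]; exact Commute.one_left a
      rw [← hY] at hsq
      have hle : Nat.card Y ≤ 2 := by
        have : ∀ x ∈ Y, ∃ a : ({1, z} : Finset G), ∃ s ∈ U, x = (a : G) * s := fun x hx => by
          obtain ⟨a, ha, s, hs, rfl, ha2, -⟩ := hXdec u huU hu x hx.1
            (Subgroup.mem_centralizer_singleton_iff.1 hx.2)
          refine ⟨⟨a, ?_⟩, s, hs, rfl⟩
          rcases hWinv a ha ha2 with e | e <;> simp [e]
        choose f s hs hf using this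
        refine (Nat.card_le_card_of_injective (fun x : Y => f x x.2) fun x y hxy => ?_).trans ?_
        · have hxy' : f x x.2 = f y y.2 := hxy
          have h1 : (x : G)⁻¹ * y ∈ U := by
            rw [hf x x.2, hf y y.2, hxy', mul_inv_rev, mul_assoc, inv_mul_cancel_left]
            exact U.mul_mem (U.inv_mem (hs x x.2)) (hs y y.2)
          exact Subtype.ext (inv_mul_eq_one.1 (hcon _ h1 (X.mul_mem (X.inv_mem x.2.1) y.2.1)))
        · rw [Nat.card_eq_fintype_card, Fintype.card_coe]; exact Finset.card_le_two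
      have := Nat.mul_le_mul hle hle
      omega
    have heq : (X : Set G) = (S : Set G) := Set.eq_of_subset_of_ncard_le
      (fun x hx => hXS r hr (hUord r hr hr1) x hx (commute_elem hXe hx hrX)) (by
        rw [Set.ncard_coe_finset, ← Nat.card_coe_set_eq]
        change S.card ≤ Nat.card X
        omega) (Set.toFinite _)
    have huX : u ∈ X := by
      rw [← SetLike.mem_coe, heq]
      exact Finset.mem_image.2 ⟨(1, u), Finset.mem_product.2 ⟨by simp, Set.mem_toFinset.2 huU⟩, one_mul u⟩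
    have hXK : ∀ x ∈ X, x ∈ K → x = 1 ∨ x = z := fun x hx hxK => by
      rw [← SetLike.mem_coe, heq] at hx
      obtain ⟨⟨a, s⟩, has, rfl⟩ := Finset.mem_image.1 hx
      obtain ⟨ha, hs⟩ := Finset.mem_product.1 has
      have hs' : s ∈ U := Set.mem_toFinset.1 hs
      have haW : a ∈ W := by
        rcases Finset.mem_insert.1 (show a ∈ ({1, z} : Finset G) from ha) with e | e
        · rw [e]; exact one_mem W
        · rw [Finset.mem_singleton] at e; rw [e]; exact hzW
      have hsK : s ∈ K := by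
        have := K.mul_mem (K.inv_mem (hWK haW)) hxK
        rwa [inv_mul_cancel_left] at this
      rw [hUK s hs' hsK, mul_one]
      simpa using ha
    refine bounded_of_small hF hPM (Or.inr ⟨?_, w₀, hWP hw₀, hWK hw₀, hw₀2⟩)
    let Φ : R ⧸ W.subgroupOf R → ({1, z} : Finset G) := fun q => ⟨(q.out : G) * u * (q.out : G)⁻¹ * u⁻¹, by
      have hq := q.out.2
      have h1 : (q.out : G) * u * (q.out : G)⁻¹ * u⁻¹ ∈ X :=
        X.mul_mem (hXn _ hq.1 u huX) (X.inv_mem huX)
      have h2 : (q.out : G) * u * (q.out : G)⁻¹ * u⁻¹ ∈ K := by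
        rw [show (q.out : G) * u * (q.out : G)⁻¹ * u⁻¹ = (q.out : G) * (u * (q.out : G)⁻¹ * u⁻¹) by group]
        exact K.mul_mem hq.2 (fix_conj_stab (hPM huP) (K.inv_mem hq.2))
      rcases hXK _ h1 h2 with e | e <;> simp [e]⟩
    have hΦ : Function.Injective Φ := by
      intro p q hpq
      rw [← QuotientGroup.out_eq' p, ← QuotientGroup.out_eq' q, QuotientGroup.eq, Subgroup.mem_subgroupOf]
      have h : (p.out : G) * u * (p.out : G)⁻¹ = (q.out : G) * u * (q.out : G)⁻¹ :=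
        mul_right_cancel (congrArg Subtype.val hpq)
      refine hCu u huU hu ⟨(p.out⁻¹ * q.out).2, Subgroup.mem_centralizer_singleton_iff.2 ?_⟩
      change (p.out : G)⁻¹ * q.out * u = u * ((p.out : G)⁻¹ * q.out)
      calc (p.out : G)⁻¹ * q.out * u = (p.out : G)⁻¹ * ((q.out : G) * u * (q.out : G)⁻¹) * q.out := by group
        _ = _ := by rw [← h]; group
    change Nat.card R ≤ 8
    rw [← (W.subgroupOf R).card_mul_index, Subgroup.index_eq_card,
      Nat.card_congr (Subgroup.subgroupOfEquivOfLe (inf_le_left : W ≤ R)).toEquiv, hW4]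
    refine (Nat.mul_le_mul_left 4 ((Nat.card_le_card_of_injective Φ hΦ).trans ?_)).trans (le_of_eq rfl : 4 * 2 ≤ 8)
    rw [Nat.card_eq_fintype_card, Fintype.card_coe]; exact Finset.card_le_two
  -- both elementary: one subgroup of order sixteen
  have hVU : V ≤ U := by
    by_contra hne
    obtain ⟨e, heV, heU, he2⟩ := exists_outside_involution hF hVp
      (inf_le_left.trans (inf_le_left.trans hPM)) hVK hUV hUeq hne
    obtain ⟨r, hr, hr2, hr1, her⟩ := exists_cent_involution hUP hUeq he2 fun a ha =>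
      ⟨(P : Subgroup G).mul_mem ((P : Subgroup G).mul_mem heV.1.1 ha.1) ((P : Subgroup G).inv_mem heV.1.1),
        fix_conj_stab heV.1.2 ha.2⟩
    exact hstep e heV heU he2 r hr (hUord r hr hr1) her
  set E := (P : Subgroup G) ⊓ stabilizer G F' with hE
  have hWE : W ≤ E := fun a ha => ⟨hWP ha, ha.2⟩
  have hUE : U ≤ E := fun a ha => ⟨ha.1, fix_le_stab ha.2⟩
  have hEdec : ∀ g ∈ E, ∃ a ∈ W, ∃ r ∈ U, g = a * r := fun g hg => by
    obtain ⟨a, ha, v, hv, rfl⟩ := hdecS g hg.1 hg.2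
    exact ⟨a, ha, v, hVU hv, rfl⟩
  refine bounded_of_four_cent (E := E) (R := U) inf_le_left ?_ ?_ hUE hUeq ?_ ?_
  · rw [← Nat.card_eq_of_bijective
      (fun p : W × U => (⟨(p.1 : G) * p.2, mul_mem (hWE p.1.2) (hUE p.2.2)⟩ : E)) ⟨?_, ?_⟩,
      Nat.card_prod, hW4, hUeq]
    · rintro ⟨a, b⟩ ⟨a', b'⟩ h
      have h' : (a : G) * b = a' * b' := congrArg Subtype.val h
      have h1 := hparts ((a' : G)⁻¹ * a) (mul_mem (inv_mem a'.2) a.2) ((b : G) * (b' : G)⁻¹)
        (mul_mem b.2 (inv_mem b'.2)) (by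
          rw [show (a' : G)⁻¹ * a * ((b : G) * (b' : G)⁻¹) = (a' : G)⁻¹ * ((a : G) * b) * (b' : G)⁻¹ by group, h']
          group)
      exact Prod.ext (Subtype.ext (inv_mul_eq_one.1 h1.1).symm) (Subtype.ext (mul_inv_eq_one.1 h1.2))
    · rintro ⟨g, hg⟩
      obtain ⟨a, ha, r, hr, e⟩ := hEdec g hg
      exact ⟨(⟨a, ha⟩, ⟨r, hr⟩), Subtype.ext e.symm⟩
  · intro g hg
    obtain ⟨a, ha, r, hr, rfl⟩ := hEdec g hg
    rw [(hWU a ha r hr).mul_pow, hWelem a ha, hUelem r hr, one_mul]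
  · exact fun r hr hr1 g hg hgr => ⟨hg, hcentS r hr hr1 g hg hgr⟩
  · exact fun r hr hr1 g hg hgr => ⟨hg, hB'.mem_stab_of_ne hUp hr hr1 hr.2 hgr.2⟩

end Cfsg.Agent.Perm.FixFour
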