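import Cfsg.Agent.Lib.Perm.FixFour.Base
import Cfsg.Agent.Lib.Fusion.Basic

/-!
A block, a Sylow subgroup meeting its stabiliser in a Sylow subgroup, and transfer to a Sylow subgroup.
-/

set_option autoImplicit false
set_option linter.unusedSectionVars false
set_option linter.style.haveILetI false

open MulAction
open scoped Pointwise

namespace Cfsg.Agent.Perm.FixFour

open Cfsg.Agent.Fusion (SylIn cj mem_cj conj_mem_cj cj_eq_self cj_mono card_cj)

universe u v

variable {G : Type u} {Ω : Type v} [Group G] [Finite G] [MulAction G Ω] [Finite Ω]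
  {p : ℕ} [Fact p.Prime] {F : Set Ω}

theorem stab_le_normalizer_fix :
    stabilizer G F ≤ Subgroup.normalizer (fixingSubgroup G F : Set G) := fun g hg =>
  Subgroup.mem_normalizer_iff.2 fun x => ⟨fix_conj_stab hg, fun h => by
    have := fix_conj_stab' hg h
    rwa [show g⁻¹ * (g * x * g⁻¹) * g = x by group] at this⟩

theorem exists_frame {A : Subgroup G} (hA : IsPGroup p A) (hAM : A ≤ stabilizer G F) :
    ∃ P : Sylow p G, SylIn p ((P : Subgroup G) ⊓ stabilizer G F) (stabilizer G F) ∧ A ≤ P := by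
  obtain ⟨Q, hQ, hAQ⟩ := Fusion.exists_sylIn_ge hA hAM
  obtain ⟨P, hP⟩ := hQ.isPGroup.exists_le_sylow
  refine ⟨P, ?_, hAQ.trans hP⟩
  rwa [hQ.eq_of_le (P.isPGroup'.to_inf_left (K := stabilizer G F)) (le_inf hP hQ.le) inf_le_right]

variable {P : Sylow p G}

/-- The pointwise part of the frame. -/
theorem sylIn_fix (hP : SylIn p ((P : Subgroup G) ⊓ stabilizer G F) (stabilizer G F)) :
    SylIn p ((P : Subgroup G) ⊓ fixingSubgroup G F) (fixingSubgroup G F) := by
  have h := hP.inf_normal fix_le_stab stab_le_normalizer_fix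
  rwa [inf_assoc, inf_eq_right.2 fix_le_stab] at h

theorem exists_pow_order {H : Subgroup G} (hH : IsPGroup p H) {x : G} (hx : x ∈ H) (hx1 : x ≠ 1) :
    ∃ j : ℕ, orderOf (x ^ j) = p := by
  obtain ⟨k, hk⟩ := hH ⟨x, hx⟩
  have hk' : x ^ p ^ k = 1 := congrArg Subtype.val hk
  obtain ⟨m, -, hm⟩ := (Nat.dvd_prime_pow Fact.out).1 (orderOf_dvd_of_pow_eq_one hk')
  have hm0 : m ≠ 0 := fun e => hx1 (orderOf_eq_one_iff.1 (by rw [hm, e, pow_zero]))
  refine ⟨p ^ (m - 1), ?_⟩
  rw [orderOf_pow_of_dvd (pow_ne_zero _ (Fact.out : p.Prime).ne_zero) (hm ▸ pow_dvd_pow p (Nat.sub_le _ _)),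
    hm, Nat.pow_div (Nat.sub_le _ _) (Fact.out : p.Prime).pos]
  rw [show m - (m - 1) = 1 by omega, pow_one]

theorem Block.mem_stab_of_ne (hB : Block G p F) {H : Subgroup G} (hH : IsPGroup p H) {g x : G} (hx : x ∈ H)
    (hx1 : x ≠ 1) (hxF : x ∈ fixingSubgroup G F) (h : g * x * g⁻¹ ∈ fixingSubgroup G F) :
    g ∈ stabilizer G F := by
  obtain ⟨j, hj⟩ := exists_pow_order hH hx hx1
  refine hB.mem_stab hj (pow_mem hxF j) ?_
  rw [← conj_pow]
  exact pow_mem h j

/-- If the frame is not the whole Sylow subgroup, the pointwise part embeds in the symmetric group. -/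
theorem exists_move (hB : Block G p F) (hne : ¬ (P : Subgroup G) ≤ stabilizer G F) :
    ∃ w ∈ (P : Subgroup G), w ∉ stabilizer G F ∧
      cj ((P : Subgroup G) ⊓ stabilizer G F) w = (P : Subgroup G) ⊓ stabilizer G F ∧
      cj ((P : Subgroup G) ⊓ fixingSubgroup G F) w ≤ (P : Subgroup G) ⊓ stabilizer G F ∧
      cj ((P : Subgroup G) ⊓ fixingSubgroup G F) w ⊓ fixingSubgroup G F = ⊥ := by
  obtain ⟨w, hw, hwQ⟩ := SetLike.exists_of_lt (SylIn.normalizer_growth (p := p)
    (T := (P : Subgroup G) ⊓ stabilizer G F) inf_le_left (fun h => hne (h.symm.le.trans inf_le_right))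
    P.isPGroup')
  have hwM : w ∉ stabilizer G F := fun h => hwQ ⟨hw.1, h⟩
  refine ⟨w, hw.1, hwM, cj_eq_self hw.2, (cj_mono (inf_le_inf_left _ fix_le_stab) w).trans
    (cj_eq_self hw.2).le, (Subgroup.eq_bot_iff_forall _).2 fun x hx => by_contra fun hx1 => hwM ?_⟩
  obtain ⟨hxw, hxF⟩ := Subgroup.mem_inf.1 hx
  rw [mem_cj] at hxw
  refine hB.mem_stab_of_ne P.isPGroup' hxw.1 (fun h => hx1 ?_) hxw.2 ?_
  · calc x = w * (w⁻¹ * x * w) * w⁻¹ := by group
      _ = 1 := by rw [h]; group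
  · rwa [show w * (w⁻¹ * x * w) * w⁻¹ = x by group]

theorem card_fix_dvd (hB : Block G p F) (hne : ¬ (P : Subgroup G) ≤ stabilizer G F) {k : ℕ}
    (hk : F.ncard = k) : Nat.card ((P : Subgroup G) ⊓ fixingSubgroup G F : Subgroup G) ∣ k.factorial := by
  obtain ⟨w, -, -, -, hle, hbot⟩ := exists_move hB hne
  rw [← card_cj _ w]
  exact card_le_of_inf_eq_bot hk (hle.trans inf_le_right) hbot

theorem relIndex_dvd {k : ℕ} (hk : F.ncard = k) {Q : Subgroup G} (hQ : Q ≤ stabilizer G F) :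
    (Q ⊓ fixingSubgroup G F).relIndex Q ∣ k.factorial := by
  let f : Q →* Equiv.Perm (Fin k) := (perm hk).comp (Subgroup.inclusion hQ)
  have hker : (Q ⊓ fixingSubgroup G F).subgroupOf Q = f.ker := by
    ext q
    rw [Subgroup.mem_subgroupOf, MonoidHom.mem_ker]
    exact ⟨fun h => (perm_eq_one hk).2 h.2, fun h => ⟨q.2, (perm_eq_one hk).1 h⟩⟩
  have h := Subgroup.card_subgroup_dvd_card f.range
  rw [← Subgroup.index_ker, ← hker] at h
  rw [Nat.card_perm, Nat.card_fin] at h
  exact h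

/-- All elements of order `p` fix the block pointwise: the stabiliser is strongly embedded. -/
theorem Block.not_dvd_inf (hB : Block G p F)
    (hall : ∀ x ∈ stabilizer G F, orderOf x = p → x ∈ fixingSubgroup G F) (g : G)
    (hg : g ∉ stabilizer G F) :
    ¬ p ∣ Nat.card ↥(stabilizer G F ⊓ (stabilizer G F).map (MulAut.conj g).toMonoidHom) := by
  intro hd
  obtain ⟨⟨x, hxMg⟩, hx⟩ := exists_prime_orderOf_dvd_card' p hd
  obtain ⟨hxM, hxg⟩ := Subgroup.mem_inf.1 hxMg
  obtain ⟨y, hy, hyx⟩ := hxg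
  rw [Subgroup.orderOf_mk] at hx
  have hyo : orderOf y = p := by
    have h : MulAut.conj g y = x := hyx
    rw [← hx, ← h, MulEquiv.orderOf_eq]
  refine hg (hB.mem_stab hyo (hall y hy hyo) ?_)
  have h : g * y * g⁻¹ = x := hyx
  rw [h]
  exact hall x hxM hx

/-- The value of a hom on the conjugate of `y` belonging to a coset of the Sylow subgroup, if there is one. -/
noncomputable def val {A : Type*} [CommGroup A] (ψ : ↥(P : Subgroup G) →* A) (y : G)
    (q : G ⧸ (P : Subgroup G)) : A :=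
  open Classical in
  if hq : q.out⁻¹ * y * q.out ∈ (P : Subgroup G) then ψ ⟨_, hq⟩ else 1

theorem smul_coset_iff {y x : G} :
    y • (x : G ⧸ (P : Subgroup G)) = (x : G ⧸ (P : Subgroup G)) ↔ x⁻¹ * y * x ∈ (P : Subgroup G) := by
  rw [show y • (x : G ⧸ (P : Subgroup G)) = ((y * x : G) : G ⧸ (P : Subgroup G)) from rfl, eq_comm,
    QuotientGroup.eq, mul_assoc]

theorem val_mk {A : Type*} [CommGroup A] (ψ : ↥(P : Subgroup G) →* A) (y x : G)
    (hx : x⁻¹ * y * x ∈ (P : Subgroup G)) : val ψ y (x : G ⧸ (P : Subgroup G)) = ψ ⟨_, hx⟩ := by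
  obtain ⟨s, hs⟩ := QuotientGroup.mk_out_eq_mul (P : Subgroup G) x
  have hmem : ((x : G ⧸ (P : Subgroup G)).out)⁻¹ * y * (x : G ⧸ (P : Subgroup G)).out ∈ (P : Subgroup G) := by
    rw [hs, show (x * (s : G))⁻¹ * y * (x * s) = (s : G)⁻¹ * (x⁻¹ * y * x) * s by group]
    exact mul_mem (mul_mem (inv_mem s.2) hx) s.2
  simp only [val, dif_pos hmem]
  rw [show (⟨_, hmem⟩ : (P : Subgroup G)) = s⁻¹ * ⟨_, hx⟩ * s from Subtype.ext (by
    simp only [Subgroup.coe_mul, Subgroup.coe_inv, hs]; group), map_mul, map_mul, map_inv,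
    mul_comm (ψ s)⁻¹, inv_mul_cancel_right]

/-- The transfer of an element of order `p` to a Sylow subgroup. -/
theorem transfer_formula {A : Type*} [CommGroup A] (ψ : ↥(P : Subgroup G) →* A) {y : G} (hy : orderOf y = p)
    [Fintype (G ⧸ (P : Subgroup G))] : MonoidHom.transfer ψ y = ∏ q, val ψ y q := by
  classical
  have hp1 : y ^ p = 1 := hy ▸ pow_orderOf_eq_one y
  have hfixmem : ∀ {x : G}, y • (x : G ⧸ (P : Subgroup G)) = (x : G ⧸ (P : Subgroup G)) ↔
      x⁻¹ * y * x ∈ (P : Subgroup G) := fun {_} => smul_coset_iff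
  letI := Fintype.ofFinite (Quotient (orbitRel (Subgroup.zpowers y) (G ⧸ (P : Subgroup G))))
  rw [MonoidHom.transfer_eq_prod_quotient_orbitRel_zpowers_quot ψ y]
  have hper : ∀ q : G ⧸ (P : Subgroup G), Function.minimalPeriod (y • ·) q = 1 ∨
      Function.minimalPeriod (y • ·) q = p := fun q => by
    refine (Nat.dvd_prime Fact.out).1 ?_
    refine Function.IsPeriodicPt.minimalPeriod_dvd ?_
    simp [Function.IsPeriodicPt, Function.IsFixedPt, smul_iterate, hp1]
  let J : Finset (Quotient (orbitRel (Subgroup.zpowers y) (G ⧸ (P : Subgroup G)))) :=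
    Finset.univ.filter fun q => y • q.out = q.out
  let I : Finset (G ⧸ (P : Subgroup G)) := Finset.univ.filter fun q => y • q = q
  rw [← Finset.prod_filter_mul_prod_filter_not Finset.univ (fun q => y • q.out = q.out),
    ← Finset.prod_filter_mul_prod_filter_not (Finset.univ : Finset (G ⧸ (P : Subgroup G))) (fun q => y • q = q)]
  have h1 : ∀ q : G ⧸ (P : Subgroup G), ¬ y • q = q → val ψ y q = 1 := fun q hq => dif_neg fun hm => hq (by
    rw [← QuotientGroup.out_eq' q]; exact hfixmem.2 hm)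
  rw [Finset.prod_eq_one (s := (Finset.univ : Finset (G ⧸ (P : Subgroup G))).filter fun q => ¬ y • q = q)
    fun q hq => h1 q (Finset.mem_filter.1 hq).2, mul_one]
  rw [Finset.prod_eq_one (s := Finset.univ.filter fun q :
      Quotient (orbitRel (Subgroup.zpowers y) (G ⧸ (P : Subgroup G))) => ¬ y • q.out = q.out) fun q hq => ?_, mul_one]
  · refine Finset.prod_bij' (fun q _ => q.out) (fun q _ => Quotient.mk'' q) (fun q hq => ?_)
      (fun q hq => ?_) (fun q _ => Quotient.out_eq' q) (fun q hq => ?_) fun q hq => ?_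
    · exact Finset.mem_filter.2 ⟨Finset.mem_univ _, (Finset.mem_filter.1 hq).2⟩
    · refine Finset.mem_filter.2 ⟨Finset.mem_univ _, ?_⟩
      obtain ⟨⟨z, k, rfl⟩, hz⟩ := Quotient.mk_out' (s₁ := orbitRel (Subgroup.zpowers y) (G ⧸ (P : Subgroup G))) q
      rw [← hz]
      change y • ((y ^ k) • q) = (y ^ k) • q
      rw [smul_smul, ((Commute.refl y).zpow_right k).eq, mul_smul, (Finset.mem_filter.1 hq).2]
    · obtain ⟨⟨z, k, rfl⟩, hz⟩ := Quotient.mk_out' (s₁ := orbitRel (Subgroup.zpowers y) (G ⧸ (P : Subgroup G))) q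
      rw [← hz]
      exact mem_stabilizer_iff.1 (zpow_mem (mem_stabilizer_iff.2 (Finset.mem_filter.1 hq).2) k)
    · have hq1 : Function.minimalPeriod (y • ·) q.out = 1 :=
        Function.minimalPeriod_eq_one_iff_isFixedPt.2 (Finset.mem_filter.1 hq).2
      have hm : q.out.out⁻¹ * y * q.out.out ∈ (P : Subgroup G) :=
        hfixmem.1 (by rw [QuotientGroup.out_eq']; exact (Finset.mem_filter.1 hq).2)
      simp only [val, dif_pos hm]
      exact congrArg ψ (Subtype.ext (by simp only [hq1, pow_one]))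
  · rcases hper q.out with hq' | hq'
    · exact absurd (Function.minimalPeriod_eq_one_iff_isFixedPt.1 hq') (Finset.mem_filter.1 hq).2
    · refine (congrArg ψ (Subtype.ext ?_)).trans (map_one ψ)
      simp only [hq', hp1, mul_one, inv_mul_cancel, OneMemClass.coe_one]

/-- Transfer: an element of order `p` whose conjugates under conjugations carrying `T` into the Sylow
subgroup have a constant image is killed. -/
theorem Setting.transfer_eq_one (hS : Setting G Ω) {A : Type*} [CommGroup A] (ψ : ↥(P : Subgroup G) →* A)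
    {y : G} (hy : orderOf y = p) (hyP : y ∈ (P : Subgroup G)) (T : Subgroup G) (hT : IsPGroup p T)
    (hyT : y ∈ T) (hTy : ∀ t ∈ T, t * y = y * t)
    (h : ∀ (g : G) (hg : g⁻¹ * y * g ∈ (P : Subgroup G)), (∀ t ∈ T, g⁻¹ * t * g ∈ (P : Subgroup G)) →
      ψ ⟨g⁻¹ * y * g, hg⟩ = ψ ⟨y, hyP⟩) :
    ψ ⟨y, hyP⟩ = 1 := by
  classical
  letI := Fintype.ofFinite (G ⧸ (P : Subgroup G))
  have hp1 : y ^ p = 1 := hy ▸ pow_orderOf_eq_one y
  have hfixmem : ∀ {x : G}, y • (x : G ⧸ (P : Subgroup G)) = (x : G ⧸ (P : Subgroup G)) ↔ x⁻¹ * y * x ∈ (P : Subgroup G) := by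
    intro x
    rw [show y • (x : G ⧸ (P : Subgroup G)) = ((y * x : G) : G ⧸ (P : Subgroup G)) from rfl, eq_comm, QuotientGroup.eq, mul_assoc]
  let W : G ⧸ (P : Subgroup G) → A := val ψ y
  have hWmk : ∀ (x : G) (hx : x⁻¹ * y * x ∈ (P : Subgroup G)), W (x : G ⧸ (P : Subgroup G)) = ψ ⟨_, hx⟩ :=
    val_mk ψ y
  have htr : MonoidHom.transfer ψ y = ∏ q, W q := transfer_formula ψ hy
  -- orbits of `T`
  letI : Fintype (Quotient (orbitRel T (G ⧸ (P : Subgroup G)))) := Fintype.ofFinite _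
  set c := ψ ⟨y, hyP⟩
  have hc : c ^ p = 1 := by
    rw [← map_pow, show (⟨y, hyP⟩ : (P : Subgroup G)) ^ p = 1 from Subtype.ext hp1, map_one]
  have hWp : ∀ q, W q ^ p = 1 := fun q => by
    by_cases hq : q.out⁻¹ * y * q.out ∈ (P : Subgroup G)
    · simp only [W, val, dif_pos hq]
      rw [← map_pow]
      refine (congrArg ψ (Subtype.ext ?_)).trans (map_one ψ)
      change (q.out⁻¹ * y * q.out) ^ p = 1
      have := conj_pow (a := q.out⁻¹) (b := y) (i := p)
      rw [inv_inv] at this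
      rw [this, hp1, mul_one, inv_mul_cancel]
    · simp only [W, val, dif_neg hq, one_pow]
  have hWinv : ∀ (t : T) (q : G ⧸ (P : Subgroup G)), W (t • q) = W q := by
    intro t q
    obtain ⟨x, rfl⟩ := QuotientGroup.mk_surjective q
    have hcomm : ((t : G) * x)⁻¹ * y * ((t : G) * x) = x⁻¹ * y * x := by
      calc ((t : G) * x)⁻¹ * y * ((t : G) * x) = x⁻¹ * (t : G)⁻¹ * (y * t) * x := by group
        _ = x⁻¹ * (t : G)⁻¹ * ((t : G) * y) * x := by rw [hTy t t.2]
        _ = _ := by group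
    change W (((t : G) * x : G) : G ⧸ (P : Subgroup G)) = _
    by_cases hx : x⁻¹ * y * x ∈ (P : Subgroup G)
    · rw [hWmk x hx, hWmk _ (hcomm ▸ hx)]
      exact congrArg ψ (Subtype.ext hcomm)
    · have h1 : ∀ z : G, ¬ z⁻¹ * y * z ∈ (P : Subgroup G) → W (z : G ⧸ (P : Subgroup G)) = 1 := fun z hz => dif_neg fun hm => hz <| by
        obtain ⟨s, hs⟩ := QuotientGroup.mk_out_eq_mul (P : Subgroup G) z
        rw [hs, show (z * (s : G))⁻¹ * y * (z * s) = (s : G)⁻¹ * (z⁻¹ * y * z) * s by group] at hm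
        have := mul_mem (mul_mem s.2 hm) (inv_mem s.2)
        simpa [mul_assoc] using this
      rw [h1 x hx, h1 _ (hcomm ▸ hx)]
  have hfix : ∀ q : G ⧸ (P : Subgroup G), (∀ t : T, t • q = q) → W q = c := by
    intro q hq
    obtain ⟨x, rfl⟩ := QuotientGroup.mk_surjective q
    have hmem : ∀ t ∈ T, x⁻¹ * t * x ∈ (P : Subgroup G) := fun t ht => by
      have := hq ⟨t, ht⟩
      change ((t * x : G) : G ⧸ (P : Subgroup G)) = _ at this
      rw [eq_comm, QuotientGroup.eq] at this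
      rwa [mul_assoc]
    rw [hWmk x (hmem y hyT)]
    exact h x (hmem y hyT) hmem
  have key : ∀ q : G ⧸ (P : Subgroup G), W q = if q ∈ fixedPoints T (G ⧸ (P : Subgroup G)) then c else W q := fun q => by
    split_ifs with hq
    · exact hfix q fun t => hq t
    · rfl
  have hprod : ∏ q, W q = c ^ (Nat.card (fixedPoints T (G ⧸ (P : Subgroup G)))) := by
    rw [← Finset.prod_filter_mul_prod_filter_not Finset.univ (fun q => q ∈ fixedPoints T (G ⧸ (P : Subgroup G))),
      Finset.prod_congr rfl (fun q hq => hfix q (mem_fixedPoints.1 (Finset.mem_filter.1 hq).2)),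
      Finset.prod_const, Finset.prod_partition (orbitRel T (G ⧸ (P : Subgroup G))), Finset.prod_eq_one, mul_one,
      Nat.card_eq_card_toFinset, Set.toFinset]
    · congr 2
      ext; simp
    intro o ho
    obtain ⟨q, hq, rfl⟩ := Finset.mem_image.1 ho
    have hqf : q ∉ fixedPoints T (G ⧸ (P : Subgroup G)) := (Finset.mem_filter.1 hq).2
    have hconst : ∀ r ∈ (Finset.univ.filter fun a : G ⧸ (P : Subgroup G) => a ∉ fixedPoints T (G ⧸ (P : Subgroup G))).filter
        (fun r => (⟦r⟧ : Quotient (orbitRel T (G ⧸ (P : Subgroup G)))) = ⟦q⟧), W r = W q := by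
      intro r hr
      obtain ⟨t, ht⟩ := orbitRel_apply.1 (Quotient.exact (Finset.mem_filter.1 hr).2)
      rw [← ht, hWinv]
    rw [Finset.prod_congr rfl hconst, Finset.prod_const]
    have hcard : ((Finset.univ.filter fun a : G ⧸ (P : Subgroup G) => a ∉ fixedPoints T (G ⧸ (P : Subgroup G))).filter
        (fun r => (⟦r⟧ : Quotient (orbitRel T (G ⧸ (P : Subgroup G)))) = ⟦q⟧)).card = Nat.card (orbit T q) := by
      rw [Nat.card_eq_card_toFinset]
      congr 1
      ext r
      simp only [Finset.mem_filter, Finset.mem_univ, true_and, Set.mem_toFinset, Quotient.eq,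
        orbitRel_apply]
      refine ⟨fun hr => hr.2, fun hr => ⟨fun hrf => hqf ?_, hr⟩⟩
      obtain ⟨t, ht⟩ := hr
      have hqr : q = r := by
        have := hrf t⁻¹
        rw [← ht] at this
        simpa using this.trans ht
      rwa [hqr]
    rw [hcard]
    obtain ⟨m, hm⟩ := hT.card_orbit q
    have hm0 : m ≠ 0 := fun e => hqf (mem_fixedPoints'.2 fun r hr => by
      have hss := (Nat.card_eq_one_iff_unique.1 (by rw [hm, e, pow_zero] : Nat.card (orbit T q) = 1)).1
      exact congrArg Subtype.val (hss.elim ⟨r, hr⟩ ⟨q, mem_orbit_self q⟩))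
    obtain ⟨m', rfl⟩ := Nat.exists_eq_succ_of_ne_zero hm0
    rw [hm, pow_succ', pow_mul, hWp, one_pow]
  rw [hS.hom_trivial, hprod] at htr
  have hmod := hT.card_modEq_card_fixedPoints (G ⧸ (P : Subgroup G))
  rw [← Subgroup.index_eq_card] at hmod
  by_contra hne
  have hdvd : p ∣ Nat.card (fixedPoints T (G ⧸ (P : Subgroup G))) := by
    have := orderOf_dvd_of_pow_eq_one htr.symm
    rwa [orderOf_eq_prime hc hne] at this
  exact P.not_dvd_index ((Nat.ModEq.dvd_iff hmod dvd_rfl).2 hdvd)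

end Cfsg.Agent.Perm.FixFour
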