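import Cfsg.Agent.Lib.Perm.FixFour.Bound

/-!
Subgroups acting regularly on the fixed points of another one.
-/

set_option autoImplicit false
set_option linter.unusedSectionVars false
set_option linter.style.haveILetI false

open MulAction
open scoped Pointwise

namespace Cfsg.Agent.Perm.FixFour

universe u v

variable {G : Type u} {Ω : Type v} [Group G] [Finite G] [MulAction G Ω] [Finite Ω]

/-- A `2`-element of the pointwise stabiliser fixing a point off the block is trivial. -/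
theorem Block.eq_one_of_fix {B : Set Ω} (hB : Block G 2 B) {Q : Subgroup G} (hQ : IsPGroup 2 Q) {g : G}
    (hg : g ∈ Q) (hgB : g ∈ fixingSubgroup G B) {x : Ω} (hx : g • x = x) (hxB : x ∉ B) : g = 1 := by
  haveI := Fact.mk Nat.prime_two
  by_contra h1
  obtain ⟨j, hj⟩ := exists_pow_order hQ hg h1
  refine hxB ?_
  rw [← hB.sharp _ hj (pow_mem hgB j)]
  exact mem_stabilizer_iff.1 (pow_mem (mem_stabilizer_iff.2 hx) j)

theorem eq_of_smul_eq {B : Set Ω} (hB : Block G 2 B) {Q : Subgroup G} (hQ : IsPGroup 2 Q)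
    (hQB : Q ≤ fixingSubgroup G B) {g h : G} (hg : g ∈ Q) (hh : h ∈ Q) {x : Ω} (hx : g • x = h • x)
    (hxB : x ∉ B) : g = h := by
  have hm := Q.mul_mem (Q.inv_mem hh) hg
  exact (inv_mul_eq_one.1 (hB.eq_one_of_fix hQ hm (hQB hm) (by rw [mul_smul, hx, inv_smul_smul]) hxB)).symm

theorem card_le_ncard {B A : Set Ω} (hB : Block G 2 B) {Q : Subgroup G} (hQ : IsPGroup 2 Q)
    (hQB : Q ≤ fixingSubgroup G B) (hQA : Q ≤ stabilizer G A) {x : Ω} (hx : x ∈ A) (hxB : x ∉ B) :
    Nat.card Q ≤ A.ncard := by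
  rw [← Nat.card_coe_set_eq]
  refine Nat.card_le_card_of_injective (fun g => (⟨(g : G) • x, smul_mem_block (hQA g.2) hx⟩ : A)) ?_
  intro g h hgh
  exact Subtype.ext (eq_of_smul_eq hB hQ hQB g.2 h.2 (congrArg Subtype.val hgh) hxB)

theorem exists_smul_of_card {B A : Set Ω} (hB : Block G 2 B) {Q : Subgroup G} (hQ : IsPGroup 2 Q)
    (hQB : Q ≤ fixingSubgroup G B) (hQA : Q ≤ stabilizer G A) (hdis : ∀ x ∈ A, x ∉ B)
    (hcard : A.ncard ≤ Nat.card Q) {x y : Ω} (hx : x ∈ A) (hy : y ∈ A) : ∃ q ∈ Q, q • x = y := by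
  have hinj : Function.Injective (fun g : Q => (⟨(g : G) • x, smul_mem_block (hQA g.2) hx⟩ : A)) :=
    fun g h hgh => Subtype.ext (eq_of_smul_eq hB hQ hQB g.2 h.2 (congrArg Subtype.val hgh) (hdis x hx))
  have hle := card_le_ncard hB hQ hQB hQA hx (hdis x hx)
  obtain ⟨q, hq⟩ := ((Nat.bijective_iff_injective_and_card _).2
    ⟨hinj, by rw [Nat.card_coe_set_eq]; omega⟩).2 ⟨y, hy⟩
  exact ⟨q, q.2, congrArg Subtype.val hq⟩

/-- An element fixing a point and commuting with a transitive group fixes every point. -/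
theorem fixes_of_commute {A : Set Ω} {Q : Subgroup G} (htr : ∀ x ∈ A, ∀ y ∈ A, ∃ q ∈ Q, q • x = y) {e : G}
    (he : ∀ q ∈ Q, Commute e q) {c : Ω} (hc : c ∈ A) (hec : e • c = c) : e ∈ fixingSubgroup G A := by
  refine mem_fix.2 fun x hx => ?_
  obtain ⟨q, hq, rfl⟩ := htr c hc x hx
  change e • q • c = q • c
  rw [← mul_smul, (he q hq).eq, mul_smul, hec]

theorem commute_four {P : Sylow 2 G} {A : Subgroup G} (hAP : A ≤ (P : Subgroup G)) (hA : Nat.card A ≤ 4)
    {a b : G} (ha : a ∈ A) (hb : b ∈ A) : Commute a b := by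
  haveI := Fact.mk Nat.prime_two
  obtain ⟨n, hn⟩ := IsPGroup.iff_card.1 (P.isPGroup'.to_le hAP)
  rw [hn] at hA
  have hn2 : n ≤ 2 := (Nat.pow_le_pow_iff_right (by norm_num)).1 (show 2 ^ n ≤ 2 ^ 2 from hA)
  haveI : IsMulCommutative A := by
    interval_cases n
    · haveI := (Nat.card_eq_one_iff_unique.1 (hn.trans (pow_zero 2))).1
      exact ⟨⟨fun x y => Subsingleton.elim _ _⟩⟩
    · haveI := isCyclic_of_prime_card (hn.trans (pow_one 2))
      exact ⟨⟨(IsCyclic.commGroup (α := A)).mul_comm⟩⟩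
    · exact IsPGroup.isMulCommutative_of_card_eq_prime_sq hn
  exact congrArg Subtype.val (mul_comm' (⟨a, ha⟩ : A) ⟨b, hb⟩)

theorem pow_four_of_card {A : Subgroup G} (hA : Nat.card A = 4) {a : G} (ha : a ∈ A) : a ^ 4 = 1 := by
  have h := pow_card_eq_one' (G := A) (x := ⟨a, ha⟩)
  rw [hA] at h
  exact congrArg Subtype.val h

/-- An involution normalizing a commutative group of order four centralizes an involution of it. -/
theorem exists_cent_involution {P : Sylow 2 G} {A : Subgroup G} (hAP : A ≤ (P : Subgroup G))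
    (hA : Nat.card A = 4) {e : G} (he : e * e = 1) (hn : ∀ a ∈ A, e * a * e⁻¹ ∈ A) :
    ∃ z ∈ A, z * z = 1 ∧ z ≠ 1 ∧ Commute e z := by
  haveI : Nontrivial A := Finite.one_lt_card_iff_nontrivial.1 (by rw [hA]; norm_num)
  obtain ⟨⟨a, ha⟩, hne⟩ := exists_ne (1 : A)
  have ha1 : a ≠ 1 := fun h => hne (Subtype.ext h)
  have hcomm : ∀ {x y : G}, x ∈ A → y ∈ A → Commute x y := fun hx hy => commute_four hAP hA.le hx hy
  have hee : ∀ x : G, e * (e * x * e⁻¹) * e⁻¹ = x := fun x => by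
    calc _ = (e * e) * x * (e * e)⁻¹ := by group
      _ = x := by rw [he]; group
  suffices h : ∃ z ∈ A, z ≠ 1 ∧ Commute e z by
    obtain ⟨z, hz, hz1, hez⟩ := h
    by_cases h2 : z * z = 1
    · exact ⟨z, hz, h2, hz1, hez⟩
    · refine ⟨z * z, A.mul_mem hz hz, ?_, h2, hez.mul_right hez⟩
      rw [← pow_four_of_card hA hz]
      simp [pow_succ, mul_assoc]
  set b := e * a * e⁻¹ with hb
  by_cases hab : a * b = 1
  · have hba : b = a⁻¹ := eq_inv_of_mul_eq_one_right hab
    by_cases h2 : a * a = 1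
    · refine ⟨a, ha, ha1, mul_inv_eq_iff_eq_mul.1 (hba.trans ?_)⟩
      exact inv_eq_of_mul_eq_one_left h2
    · refine ⟨a * a, A.mul_mem ha ha, h2, mul_inv_eq_iff_eq_mul.1 ?_⟩
      rw [← conj_mul, ← hb, hba, ← mul_inv_rev]
      refine inv_eq_of_mul_eq_one_left ?_
      rw [← pow_four_of_card hA ha]
      simp [pow_succ, mul_assoc]
  · refine ⟨a * b, A.mul_mem ha (hn a ha), hab, mul_inv_eq_iff_eq_mul.1 ?_⟩
    rw [← conj_mul, ← hb, hb, hee, ← hb]
    exact (hcomm (hn a ha) ha).eq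

/-- In a group of order four which is not elementary there is one involution. -/
theorem involution_unique {P : Sylow 2 G} {A : Subgroup G} (hAP : A ≤ (P : Subgroup G))
    (hA : Nat.card A = 4) {v : G} (hv : v ∈ A) (hv2 : v ^ 2 ≠ 1) {a : G} (ha : a ∈ A) (ha2 : a ^ 2 = 1) :
    a = 1 ∨ a = v ^ 2 := by
  classical
  have hv4 := pow_four_of_card hA hv
  have hord : orderOf v = 4 := by
    haveI := Fact.mk Nat.prime_two
    refine (orderOf_eq_prime_pow (p := 2) (n := 1) ?_ ?_).trans (by norm_num)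
    · simpa using hv2
    · simpa using hv4
  have hA' : Subgroup.zpowers v = A :=
    Subgroup.eq_of_le_of_card_ge (Subgroup.zpowers_le.2 hv) (by rw [Nat.card_zpowers, hord, hA])
  have ha' := (mem_zpowers_iff_mem_range_orderOf (x := v)).1 (hA'.symm ▸ ha : a ∈ Subgroup.zpowers v)
  rw [hord] at ha'
  simp only [Finset.mem_image, Finset.mem_range] at ha'
  obtain ⟨i, hi, rfl⟩ := ha'
  interval_cases i
  · exact Or.inl (pow_zero v)
  · exact absurd ha2 (by rwa [pow_one])
  · exact Or.inr rfl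
  · refine absurd ?_ hv2
    rw [← ha2, ← pow_mul, show 3 * 2 = 4 + 2 from rfl, pow_add, hv4, one_mul]

/-- Adding a commuting involution to an elementary subgroup. -/
theorem elem_extend {D : Subgroup G} (he : ∀ x ∈ D, x ^ 2 = 1) {c : G} (hc : c * c = 1)
    (hcD : ∀ x ∈ D, Commute x c) (hnot : c ∉ D) :
    (∀ x ∈ D ⊔ Subgroup.zpowers c, x ^ 2 = 1) ∧
      Nat.card (D ⊔ Subgroup.zpowers c : Subgroup G) = Nat.card D * 2 := by
  have hpow : ∀ m : ℤ, c ^ m = 1 ∨ c ^ m = c := fun m => by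
    obtain ⟨l, rfl | rfl⟩ := Int.even_or_odd' m
    · left; rw [zpow_mul, zpow_two, hc, one_zpow]
    · right; rw [zpow_add, zpow_mul, zpow_two, hc, one_zpow, one_mul, zpow_one]
  have hdec : ∀ x ∈ D ⊔ Subgroup.zpowers c, ∃ d ∈ D, x = d ∨ x = d * c := by
    intro x hx
    rw [← SetLike.mem_coe, Subgroup.coe_mul_of_right_le_normalizer_left] at hx
    · obtain ⟨d, hd, _, ⟨i, rfl⟩, rfl⟩ := hx
      refine ⟨d, hd, ?_⟩
      rcases hpow i with e | e
      · left; simp [e]
      · right; simp [e]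
    · refine Subgroup.zpowers_le.2 (Subgroup.mem_normalizer_iff.2 fun y => ⟨fun hy => ?_, fun hy => ?_⟩)
      · rwa [← (hcD y hy).eq, mul_inv_cancel_right]
      · have hci : c⁻¹ = c := inv_eq_of_mul_eq_one_left hc
        have h' : y = c * y * c⁻¹ := by
          calc y = c⁻¹ * ((c * y * c⁻¹) * c) := by group
            _ = c⁻¹ * (c * (c * y * c⁻¹)) := by rw [(hcD _ hy).eq]
            _ = c * y * c⁻¹ := by group
        rw [h']; exact hy
  refine ⟨fun x hx => ?_, ?_⟩
  · obtain ⟨d, hd, e | e⟩ := hdec x hx <;> subst e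
    · exact he _ hd
    · rw [(hcD d hd).mul_pow, he d hd, pow_two, hc, one_mul]
  · let f : D × Fin 2 → (D ⊔ Subgroup.zpowers c : Subgroup G) := fun p =>
      ⟨(p.1 : G) * c ^ (p.2 : ℕ), mul_mem (Subgroup.mem_sup_left p.1.2)
        (Subgroup.mem_sup_right (pow_mem (Subgroup.mem_zpowers c) _))⟩
    have hf : Function.Bijective f := by
      refine ⟨?_, ?_⟩
      · rintro ⟨⟨a, ha⟩, i⟩ ⟨⟨b, hb⟩, j⟩ h
        have h' : a * c ^ (i : ℕ) = b * c ^ (j : ℕ) := congrArg Subtype.val h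
        fin_cases i <;> fin_cases j <;> simp only [pow_zero, pow_one, mul_one] at h'
        · exact Prod.ext (Subtype.ext h') rfl
        · exfalso; apply hnot
          rw [show c = b⁻¹ * a by rw [h', inv_mul_cancel_left]]
          exact mul_mem (inv_mem hb) ha
        · exfalso; apply hnot
          rw [show c = a⁻¹ * b by rw [← h', inv_mul_cancel_left]]
          exact mul_mem (inv_mem ha) hb
        · exact Prod.ext (Subtype.ext (mul_right_cancel h')) rfl
      · rintro ⟨x, hx⟩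
        obtain ⟨d, hd, e | e⟩ := hdec x hx
        · exact ⟨(⟨d, hd⟩, 0), Subtype.ext (by simp [f, e])⟩
        · exact ⟨(⟨d, hd⟩, 1), Subtype.ext (by simp [f, e])⟩
    rw [← Nat.card_eq_of_bijective f hf, Nat.card_prod, Nat.card_fin]

/-- Three commuting involutions, one in the pointwise stabiliser, the others with distinct images. -/
theorem exists_eight_of_three {F : Set Ω} {z a b : G} (hz : z * z = 1) (hz1 : z ≠ 1)
    (hzK : z ∈ fixingSubgroup G F) (ha : a * a = 1) (hb : b * b = 1) (haM : a ∈ stabilizer G F)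
    (haK : a ∉ fixingSubgroup G F) (hbK : b ∉ fixingSubgroup G F) (habK : a⁻¹ * b ∉ fixingSubgroup G F)
    (hza : Commute z a) (hzb : Commute z b) (hab : Commute a b) {S : Subgroup G} (hzS : z ∈ S) (haS : a ∈ S)
    (hbS : b ∈ S) :
    ∃ D : Subgroup G, D ≤ S ∧ (∀ x ∈ D, x ^ 2 = 1) ∧ Nat.card D = 8 ∧ z ∈ D ∧ a ∈ D ∧ b ∈ D := by
  set K := fixingSubgroup G F
  have hzz : ∀ x ∈ Subgroup.zpowers z, x ^ 2 = 1 := fun x hx => by
    obtain ⟨i, rfl⟩ := hx
    change (z ^ i) ^ 2 = 1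
    rw [← zpow_natCast, ← zpow_mul, mul_comm, zpow_mul, zpow_natCast, pow_two, hz, one_zpow]
  have hzK' : Subgroup.zpowers z ≤ K := Subgroup.zpowers_le.2 hzK
  obtain ⟨h1e, h1c⟩ := elem_extend hzz ha (fun x hx => by
    obtain ⟨i, rfl⟩ := hx; exact hza.zpow_left i) (fun h => haK (hzK' h))
  set D₁ := Subgroup.zpowers z ⊔ Subgroup.zpowers a with hD₁
  have hD₁b : ∀ x ∈ D₁, Commute x b := fun x hx => by
    have hle : D₁ ≤ Subgroup.centralizer {b} := sup_le
      (Subgroup.zpowers_le.2 (Subgroup.mem_centralizer_singleton_iff.2 hzb.eq))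
      (Subgroup.zpowers_le.2 (Subgroup.mem_centralizer_singleton_iff.2 hab.eq))
    exact Subgroup.mem_centralizer_singleton_iff.1 (hle hx)
  have hbD : b ∉ D₁ := fun h => by
    rw [hD₁, ← SetLike.mem_coe, Subgroup.coe_mul_of_right_le_normalizer_left] at h
    · obtain ⟨x, hx, _, ⟨i, rfl⟩, he⟩ := h
      obtain ⟨l, rfl | rfl⟩ := Int.even_or_odd' i
      · refine hbK (he ▸ ?_)
        refine K.mul_mem (hzK' hx) ?_
        change a ^ (2 * l) ∈ K
        rw [zpow_mul, zpow_two, ha, one_zpow]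
        exact one_mem K
      · refine habK ?_
        have he' : b = x * a := by
          rw [← he]
          change x * a ^ (2 * l + 1) = x * a
          rw [zpow_add, zpow_mul, zpow_two, ha, one_zpow, one_mul, zpow_one]
        rw [he', ← mul_assoc]
        exact fix_conj_stab' haM (hzK' hx)
    · refine Subgroup.zpowers_le.2 (Subgroup.mem_normalizer_iff.2 fun y => ?_)
      have key : ∀ q ∈ Subgroup.zpowers z, a * q * a⁻¹ = q := by
        rintro _ ⟨i, rfl⟩
        rw [← (hza.zpow_left i).eq, mul_inv_cancel_right]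
      constructor
      · intro hy; rw [key y hy]; exact hy
      · intro hy
        have h' := key _ hy
        have hy' : a * y * a⁻¹ = y := mul_left_cancel (mul_right_cancel h')
        rw [← hy']; exact hy
  obtain ⟨h2e, h2c⟩ := elem_extend h1e hb hD₁b hbD
  refine ⟨D₁ ⊔ Subgroup.zpowers b, sup_le (sup_le (Subgroup.zpowers_le.2 hzS) (Subgroup.zpowers_le.2 haS))
    (Subgroup.zpowers_le.2 hbS), h2e, ?_, Subgroup.mem_sup_left (Subgroup.mem_sup_left (Subgroup.mem_zpowers z)),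
    Subgroup.mem_sup_left (Subgroup.mem_sup_right (Subgroup.mem_zpowers a)),
    Subgroup.mem_sup_right (Subgroup.mem_zpowers b)⟩
  have hord : orderOf z = 2 := orderOf_two hz hz1
  rw [h2c, h1c, Nat.card_zpowers, hord]

/-- A proper part of a group of order four has order at most two. -/
theorem card_le_two_of_not_all {P : Sylow 2 G} {A C : Subgroup G} (hAP : A ≤ (P : Subgroup G))
    (hA : Nat.card A = 4) (hCA : C ≤ A) {a : G} (ha : a ∈ A) (haC : a ∉ C) : Nat.card C ≤ 2 := by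
  have hlt : Nat.card C < Nat.card A := (Subgroup.card_le_of_le hCA).lt_of_ne fun e =>
    haC ((Subgroup.eq_of_le_of_card_ge hCA e.ge).symm ▸ ha)
  obtain ⟨i, hi⟩ := IsPGroup.iff_card.1 (P.isPGroup'.to_le (hCA.trans hAP))
  rw [hA, hi] at hlt
  rw [hi]
  have : i < 2 := (Nat.pow_lt_pow_iff_right (by norm_num)).1 (show 2 ^ i < 2 ^ 2 from hlt)
  exact (Nat.pow_le_pow_right (by norm_num) (show i ≤ 1 by omega)).trans (by norm_num)

theorem exists_outside_involution {F : Set Ω} (hF : F.ncard = 4) {V A : Subgroup G} (hV : IsPGroup 2 V)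
    (hVM : V ≤ stabilizer G F) (hVK : ∀ g ∈ V, g ∈ fixingSubgroup G F → g = 1) (hAV : A ≤ V)
    (hA : Nat.card A = 4) (hne : ¬ V ≤ A) : ∃ e ∈ V, e ∉ A ∧ e * e = 1 := by
  let f : V →* P4.S4 := (perm hF).comp (Subgroup.inclusion hVM)
  have hf : Function.Injective f := f.ker_eq_bot_iff.1 ((Subgroup.eq_bot_iff_forall _).2 fun g hg =>
    Subtype.ext (hVK g g.2 ((perm_eq_one hF).1 (MonoidHom.mem_ker.1 hg))))
  set H := (A.subgroupOf V).map f
  obtain ⟨x, hx, hxH, hx2⟩ := P4.exists_involution_outside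
    (hV.of_surjective f.rangeRestrict f.rangeRestrict_surjective) (H := H) (X := f.range)
    (by rintro _ ⟨a, -, rfl⟩; exact ⟨a, rfl⟩)
    (by rw [Subgroup.card_map_of_injective hf, Nat.card_congr (Subgroup.subgroupOfEquivOfLe hAV).toEquiv, hA])
    (fun h => hne fun g hg => by
      obtain ⟨a, ha, he⟩ := h ⟨⟨g, hg⟩, rfl⟩
      have := hf he
      rw [this] at ha
      exact Subgroup.mem_subgroupOf.1 ha)
  obtain ⟨e, rfl⟩ := hx
  refine ⟨e, e.2, fun h => hxH ⟨e, Subgroup.mem_subgroupOf.2 h, rfl⟩, ?_⟩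
  rw [← map_pow, map_eq_one_iff f hf, pow_two] at hx2
  exact congrArg Subtype.val hx2

theorem bounded_of_four_cent {P : Sylow 2 G} {E R : Subgroup G} (hEP : E ≤ (P : Subgroup G))
    (hE : Nat.card E = 16) (hEe : ∀ x ∈ E, x ^ 2 = 1) (hRE : R ≤ E) (hR : Nat.card R = 4)
    (hcent : ∀ r ∈ R, r ≠ 1 → ∀ g ∈ (P : Subgroup G), Commute g r → g ∈ E)
    (hTI : ∀ r ∈ R, r ≠ 1 → ∀ g ∈ (P : Subgroup G), g * r * g⁻¹ ∈ R → g ∈ E) : Bounded P := by
  intro H
  refine bound_of_four_cent P.isPGroup' (E := E.subgroupOf (P : Subgroup G))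
    (R := R.subgroupOf (P : Subgroup G))
    (by rw [Nat.card_congr (Subgroup.subgroupOfEquivOfLe hEP).toEquiv, hE])
    (fun x hx => Subtype.ext (hEe _ hx)) (fun x hx => hRE hx)
    (by rw [Nat.card_congr (Subgroup.subgroupOfEquivOfLe (hRE.trans hEP)).toEquiv, hR]) ?_ ?_ H
  · exact fun r hr hr1 g hg => hcent r hr (fun e => hr1 (Subtype.ext e)) g g.2 (congrArg Subtype.val hg.eq)
  · exact fun r hr hr1 g hg => hTI r hr (fun e => hr1 (Subtype.ext e)) g g.2 hg

end Cfsg.Agent.Perm.FixFour
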