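import Cfsg.Agent.Lib.Perm.FixFour.EvenSign
import Cfsg.Agent.Lib.Perm.FixFour.Regular
import Cfsg.Agent.Lib.Solv.UniqueSub
import Cfsg.Agent.Lib.Solv.KegelProduct

/-!
Four fixed points, the Sylow subgroup preserves the block and its involutions outside the pointwise
part fix nothing.
-/

set_option autoImplicit false
set_option linter.unusedSectionVars false
set_option linter.style.haveILetI false

open MulAction
open scoped Pointwise

namespace Cfsg.Agent.Perm.FixFour

open Cfsg.Agent.Fusion (SylIn cj mem_cj conj_mem_cj cj_eq_self cj_mono card_cj)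
open Cfsg.Agent.Solv (FourGen.sq)

universe u v

variable {G : Type u} {Ω : Type v} [Group G] [Finite G] [MulAction G Ω] [Finite Ω]

/-- The data of this case. -/
structure Free (P : Sylow 2 G) (F : Set Ω) (t : G) : Prop where
  setting : Setting G Ω
  top : Top G F 4 t
  le : (P : Subgroup G) ≤ stabilizer G F
  free : ∀ u ∈ (P : Subgroup G), orderOf u = 2 → u ∉ fixingSubgroup G F → ¬ (fixedBy Ω u).Nonempty

variable {P : Sylow 2 G} {F : Set Ω} {t : G}

theorem Free.conj_into (h : Free P F t) {x : G} (hx : x ∈ stabilizer G F) (hx2 : orderOf x = 2) :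
    ∃ m ∈ stabilizer G F, m * x * m⁻¹ ∈ (P : Subgroup G) := by
  haveI := Fact.mk Nat.prime_two
  have hP : SylIn 2 (P : Subgroup G) (stabilizer G F) := (Fusion.sylIn_top P).mono h.le le_top
  obtain ⟨m, hm, hle⟩ := hP.conj_le (isPGroup_zpowers hx2) (Subgroup.zpowers_le.2 hx)
  exact ⟨m, hm, hle (conj_mem_cj (Subgroup.mem_zpowers x))⟩

theorem Free.mem_fix_of_fixed (h : Free P F t) {x : G} (hx : x ∈ stabilizer G F) (hx2 : orderOf x = 2)
    (hfix : (fixedBy Ω x).Nonempty) : x ∈ fixingSubgroup G F := by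
  obtain ⟨m, hm, hmP⟩ := h.conj_into hx hx2
  by_contra hn
  refine h.free _ hmP (orderOf_conj_two m hx2) (fun hk => hn ?_) ?_
  · have := fix_conj_stab' hm hk
    rwa [show m⁻¹ * (m * x * m⁻¹) * m = x by group] at this
  · rw [fixedBy_conj]
    exact hfix.smul_set

theorem Free.fixed_translate (h : Free P F t) {v : G} (hv : orderOf v = 2) (hfix : (fixedBy Ω v).Nonempty) :
    ∃ g : G, fixedBy Ω v = g • F := by
  haveI := Fact.mk Nat.prime_two
  obtain ⟨g, -, hle⟩ := (Fusion.sylIn_top P).conj_le (isPGroup_zpowers hv) le_top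
  have hgP : g * v * g⁻¹ ∈ (P : Subgroup G) := hle (conj_mem_cj (Subgroup.mem_zpowers v))
  have hK : g * v * g⁻¹ ∈ fixingSubgroup G F := by
    refine h.mem_fix_of_fixed (h.le hgP) (orderOf_conj_two g hv) ?_
    rw [fixedBy_conj]
    exact hfix.smul_set
  refine ⟨g⁻¹, ?_⟩
  have := (h.top.block h.setting).sharp _ (orderOf_conj_two g hv) hK
  rw [fixedBy_conj] at this
  rw [← this, inv_smul_smul]

theorem Free.mem_fix_of_fixed' (h : Free P F t) {g x : G} (hx : x ∈ stabilizer G (g • F)) (hx2 : orderOf x = 2)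
    (hfix : (fixedBy Ω x).Nonempty) : x ∈ fixingSubgroup G (g • F) := by
  have hy : g⁻¹ * x * g ∈ fixingSubgroup G F := by
    refine h.mem_fix_of_fixed ((mem_stab_conj g _).1 ?_) ?_ ?_
    · rwa [show g * (g⁻¹ * x * g) * g⁻¹ = x by group]
    · rw [show g⁻¹ * x * g = g⁻¹ * x * g⁻¹⁻¹ by group]
      exact orderOf_conj_two _ hx2
    · rw [fixedBy_conj']
      exact hfix.smul_set
  rw [← mem_fix_conj g, show g * (g⁻¹ * x * g) * g⁻¹ = x by group] at hy
  exact hy

/-- An element of the pointwise part inverted from outside the stabiliser is trivial. -/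
theorem Free.eq_one_of_inverted (h : Free P F t) {k v : G} (hk : k ∈ fixingSubgroup G F)
    (hv : v * k * v⁻¹ = k⁻¹) (hvM : v ∉ stabilizer G F) : k = 1 := by
  by_contra hk1
  have hFk : fixedBy Ω k = F := (Set.eq_of_subset_of_ncard_le (mem_fix.1 hk)
    (by rw [h.top.card]; exact h.setting.le4 k hk1)).symm
  refine hvM (mem_stabilizer_iff.2 ?_)
  rw [← hFk, ← fixedBy_conj, hv, MulAction.fixedBy_inv]

/-- The involutions with fixed points outside the stabiliser carrying the block to a given translate. -/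
def fibre (F : Set Ω) (B : Set Ω) : Set G :=
  {v : G | orderOf v = 2 ∧ (fixedBy Ω v).Nonempty ∧ v • F = B}

/-- Two members of a fibre whose product has square in the pointwise part are equal. -/
theorem Free.fibre_eq (h : Free P F t) {B : Set Ω} (hB : B ≠ F) {v v' : G} (hv : v ∈ fibre F B)
    (hv' : v' ∈ fibre F B) (hd : (v * v') ^ 2 ∈ fixingSubgroup G F) : v = v' := by
  obtain ⟨hv2, hvfix, hvB⟩ := hv
  obtain ⟨hv'2, hv'fix, hv'B⟩ := hv'
  have hvi : v⁻¹ = v := inv_eq_of_mul_eq_one_left (sq_one hv2)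
  have hv'i : v'⁻¹ = v' := inv_eq_of_mul_eq_one_left (sq_one hv'2)
  have hvM : v ∉ stabilizer G F := fun e => hB (hvB.symm.trans (mem_stabilizer_iff.1 e))
  set d := v * v' with hddef
  have hinv : v * d * v⁻¹ = d⁻¹ := by
    rw [hddef, mul_inv_rev, hvi, hv'i, ← mul_assoc v v v', sq_one hv2, one_mul]
  have hd1 : d ^ 2 = 1 := h.eq_one_of_inverted hd (by rw [← conj_pow, hinv, inv_pow]) hvM
  have hcomm : Commute v v' := by
    have hh := inv_eq_of_mul_eq_one_left (show d * d = 1 by rw [← pow_two]; exact hd1)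
    rw [hddef, mul_inv_rev, hvi, hv'i] at hh
    exact hh.symm
  obtain ⟨g, hg⟩ := h.fixed_translate hv2 hvfix
  have hv'M : v' ∈ stabilizer G (g • F) := hg ▸ commute_stab hcomm.symm.eq
  have hv'K := h.mem_fix_of_fixed' hv'M hv'2 hv'fix
  have hvK : v ∈ fixingSubgroup G (g • F) := mem_fix.2 hg.ge
  by_contra hne
  have hd_ne : d ≠ 1 := fun e => hne (by
    rw [hddef, mul_eq_one_iff_eq_inv, hv'i] at e
    exact e)
  have hdo : orderOf d = 2 := orderOf_two (by rw [← pow_two]; exact hd1) hd_ne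
  have hdM : d ∈ stabilizer G F := by
    refine mem_stabilizer_iff.2 ?_
    rw [hddef, mul_smul, hv'B, ← hvB, smul_smul, sq_one hv2, one_smul]
  have hdK : d ∈ fixingSubgroup G F := by
    refine h.mem_fix_of_fixed hdM hdo ((((h.top.block h.setting).translate g).ne).mono ?_)
    exact mem_fix.1 (mul_mem hvK hv'K)
  refine hd_ne (h.eq_one_of_inverted hdK ?_ hvM)
  rw [hinv]

theorem Free.fibre_mul_mem (h : Free P F t) {B : Set Ω} {v v' : G} (hv : v ∈ fibre F B) (hv' : v' ∈ fibre F B) :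
    v * v' ∈ stabilizer G F ∧ v * v' ∈ stabilizer G B := by
  obtain ⟨hv2, -, hvB⟩ := hv
  obtain ⟨hv'2, -, hv'B⟩ := hv'
  have h1 : v • B = F := by rw [← hvB, smul_smul, sq_one hv2, one_smul]
  have h2 : v' • B = F := by rw [← hv'B, smul_smul, sq_one hv'2, one_smul]
  exact ⟨mem_stabilizer_iff.2 (by rw [mul_smul, hv'B, h1]), mem_stabilizer_iff.2 (by rw [mul_smul, h2, hvB])⟩

variable (hsign : ∀ x : stabilizer G F, ∀ hk : F.ncard = 4, Equiv.Perm.sign (perm hk x) = 1)

include hsign in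
/-- A fibre has at most three members. -/
theorem Free.fibre_le (h : Free P F t) {B : Set Ω} (hB : B ≠ F) : (fibre (G := G) F B).ncard ≤ 3 := by
  classical
  rcases Set.eq_empty_or_nonempty (fibre (G := G) F B) with he | ⟨v₀, hv₀⟩
  · rw [he, Set.ncard_empty]; exact Nat.zero_le 3
  have hk := h.top.card
  let φ : G → ℕ := fun v => if hv : v₀ * v ∈ stabilizer G F then P4.lab (perm hk ⟨_, hv⟩) else 0
  have hmaps : ∀ v ∈ fibre F B, φ v ∈ (({1, 2, 3} : Finset ℕ) : Set ℕ) := fun v hv => by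
    have hm := (h.fibre_mul_mem hv₀ hv).1
    simp only [φ, dif_pos hm]
    rcases P4.lab_mem (perm hk ⟨_, hm⟩) with e | e | e <;> simp [e]
  refine (Set.ncard_le_ncard_of_injOn φ hmaps ?_ (Set.toFinite _)).trans ?_
  · intro v hv v' hv' he
    have hm := (h.fibre_mul_mem hv₀ hv).1
    have hm' := (h.fibre_mul_mem hv₀ hv').1
    simp only [φ, dif_pos hm, dif_pos hm'] at he
    have h2 := P4.lab_one _ _ (hsign ⟨_, hm⟩ hk) (hsign ⟨_, hm'⟩ hk) he
    rw [← map_inv, ← map_mul, ← map_pow, perm_eq_one] at h2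
    refine h.fibre_eq hB hv hv' ?_
    have : (v₀ * v)⁻¹ * (v₀ * v') = v * v' := by
      rw [mul_inv_rev, inv_eq_of_mul_eq_one_left (sq_one hv.1)]
      group
    simp only [Subgroup.coe_mul, Subgroup.coe_inv, SubmonoidClass.coe_pow] at h2
    rwa [this] at h2
  · rw [Set.ncard_coe_finset]; exact Finset.card_le_three

/-- An involution of the pointwise part centralizing a given involution of the stabiliser. -/
theorem Free.exists_commuting (h : Free P F t) {y : G} (hy : y ∈ stabilizer G F) (hy2 : orderOf y = 2) :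
    ∃ s ∈ fixingSubgroup G F, orderOf s = 2 ∧ Commute s y := by
  haveI := Fact.mk Nat.prime_two
  obtain ⟨m, hm, hmP⟩ := h.conj_into hy hy2
  set N := (fixingSubgroup G F).subgroupOf (P : Subgroup G) with hN
  haveI : N.Normal := ⟨fun n hn g => by
    rw [hN, Subgroup.mem_subgroupOf] at hn ⊢
    exact fix_conj_stab (h.le g.2) hn⟩
  have hN1 : N ≠ ⊥ := by
    obtain ⟨q, hq, hqP⟩ := h.conj_into h.top.mem_stab h.top.ord
    intro e
    exact ne_one_of_two (orderOf_conj_two q h.top.ord) (congrArg Subtype.val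
      ((Subgroup.eq_bot_iff_forall _).1 e ⟨_, hqP⟩
        (Subgroup.mem_subgroupOf.2 (fix_conj_stab hq h.top.mem))))
  obtain ⟨c, hcN, hc1, hcC⟩ := Solv.Fct.normal_inf_center' P.isPGroup' N hN1
  obtain ⟨j, hj⟩ := exists_pow_order (p := 2) P.isPGroup' c.2 fun e => hc1 (Subtype.ext e)
  refine ⟨m⁻¹ * (c : G) ^ j * m, fix_conj_stab' hm (pow_mem (Subgroup.mem_subgroupOf.1 hcN) j), ?_, ?_⟩
  · rw [show m⁻¹ * (c : G) ^ j * m = m⁻¹ * (c : G) ^ j * m⁻¹⁻¹ by group]
    exact orderOf_conj_two _ hj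
  · have hc' : Commute (c : G) (m * y * m⁻¹) := (congrArg Subtype.val (hcC ⟨_, hmP⟩)).symm
    have := (hc'.pow_left j).map (MulAut.conj m⁻¹).toMonoidHom
    simpa [MulAut.conj_apply, mul_assoc] using this

/-- Some fixed-point-free involution of the stabiliser has a centralizer outside it. -/
theorem Free.exists_wild (h : Free P F t) (hno : ¬ ∃ H : Subgroup G, Cfsg.IsStronglyEmbedded H) :
    ∃ u ∈ stabilizer G F, orderOf u = 2 ∧ u ∉ fixingSubgroup G F ∧
      ∃ c : G, Commute c u ∧ c ∉ stabilizer G F := by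
  haveI := Fact.mk Nat.prime_two
  by_contra hcon
  push Not at hcon
  have hB := h.top.block h.setting
  refine hno ⟨stabilizer G F, h.setting.stab_ne_top hB.ne hB.le, ?_, fun g hg => ?_⟩
  · rw [even_iff_two_dvd, ← h.top.ord, ← Subgroup.orderOf_mk t h.top.mem_stab]
    exact orderOf_dvd_natCard _
  rw [← Nat.not_even_iff_odd, even_iff_two_dvd]
  intro hd
  obtain ⟨⟨x, hxMg⟩, hx⟩ := exists_prime_orderOf_dvd_card' 2 hd
  rw [Subgroup.orderOf_mk] at hx
  obtain ⟨hxM, hxg⟩ := Subgroup.mem_inf.1 hxMg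
  obtain ⟨y, hy, hyx⟩ := hxg
  have hyx' : g * y * g⁻¹ = x := hyx
  have hy2 : orderOf y = 2 := by
    rw [show y = g⁻¹ * x * g⁻¹⁻¹ by rw [← hyx']; group]
    exact orderOf_conj_two _ hx
  have hneq : g • F ≠ F := fun e => hg (mem_stabilizer_iff.2 e)
  have hxK : x ∉ fixingSubgroup G F := fun hk => by
    have hx' : x ∈ fixingSubgroup G (g • F) := by
      refine h.mem_fix_of_fixed' ?_ hx (hB.ne.mono (mem_fix.1 hk))
      rw [← hyx', mem_stab_conj]
      exact hy
    exact hneq ((hB.translate g).eq_of_mem hB hx hx' hk)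
  obtain ⟨s, hsK, hs, hsy⟩ := h.exists_commuting hy hy2
  have hs' : g * s * g⁻¹ ∈ fixingSubgroup G (g • F) := (mem_fix_conj g s).2 hsK
  have hcomm : Commute (g * s * g⁻¹) x := by
    rw [← hyx']
    exact (hsy.map (MulAut.conj g).toMonoidHom)
  have hsM := hcon x hxM hx hxK (g * s * g⁻¹) hcomm
  have hsK' := h.mem_fix_of_fixed hsM (orderOf_conj_two g hs)
    ((hB.translate g).ne.mono (mem_fix.1 hs'))
  exact hneq ((hB.translate g).eq_of_mem hB (orderOf_conj_two g hs) hs' hsK')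

include hsign in
/-- The pointwise part of the Sylow subgroup has one involution. -/
theorem Free.involution_le_one (h : Free P F t) (hno : ¬ ∃ H : Subgroup G, Cfsg.IsStronglyEmbedded H)
    {a b : G} (ha : a ∈ (P : Subgroup G) ⊓ fixingSubgroup G F) (hb : b ∈ (P : Subgroup G) ⊓ fixingSubgroup G F)
    (ha2 : orderOf a = 2) (hb2 : orderOf b = 2) : a = b := by
  haveI := Fact.mk Nat.prime_two
  classical
  letI := Fintype.ofFinite G
  letI := Fintype.ofFinite (Set Ω)
  by_contra hab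
  have hB := h.top.block h.setting
  have hk := h.top.card
  set I : Finset G := Finset.univ.filter fun v => orderOf v = 2 ∧ (fixedBy Ω v).Nonempty with hI
  set 𝔅 : Finset (Set Ω) := Finset.univ.image fun g : G => g • F with h𝔅
  have hImem : ∀ {v}, v ∈ I ↔ orderOf v = 2 ∧ (fixedBy Ω v).Nonempty := fun {v} => by simp [hI]
  have hF𝔅 : F ∈ 𝔅 := Finset.mem_image.2 ⟨1, Finset.mem_univ _, one_smul G F⟩
  set i₀ := (I.filter fun v => fixedBy Ω v = F).card with hi₀
  -- each translate is the fixed set of equally many involutions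
  have hsame : ∀ B ∈ 𝔅, (I.filter fun v => fixedBy Ω v = B).card = i₀ := fun B hB' => by
    obtain ⟨g, -, rfl⟩ := Finset.mem_image.1 hB'
    refine Finset.card_bij' (fun v _ => g⁻¹ * v * g) (fun v _ => g * v * g⁻¹) ?_ ?_ ?_ ?_
    · intro v hv
      obtain ⟨hvI, hvF⟩ := Finset.mem_filter.1 hv
      refine Finset.mem_filter.2 ⟨hImem.2 ⟨?_, ?_⟩, ?_⟩
      · rw [show g⁻¹ * v * g = g⁻¹ * v * g⁻¹⁻¹ by group]; exact orderOf_conj_two _ (hImem.1 hvI).1
      · rw [fixedBy_conj']; exact (hImem.1 hvI).2.smul_set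
      · rw [fixedBy_conj', hvF, inv_smul_smul]
    · intro v hv
      obtain ⟨hvI, hvF⟩ := Finset.mem_filter.1 hv
      refine Finset.mem_filter.2 ⟨hImem.2 ⟨orderOf_conj_two _ (hImem.1 hvI).1, ?_⟩, ?_⟩
      · rw [fixedBy_conj]; exact (hImem.1 hvI).2.smul_set
      · rw [fixedBy_conj, hvF]
    · intro v _; group
    · intro v _; group
  have hcount : I.card = 𝔅.card * i₀ := by
    rw [Finset.card_eq_sum_card_fiberwise (f := fun v => fixedBy Ω v) (t := 𝔅) (fun v hv => ?_),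
      Finset.sum_congr rfl hsame, Finset.sum_const, smul_eq_mul]
    obtain ⟨g, hg⟩ := h.fixed_translate (hImem.1 hv).1 (hImem.1 hv).2
    exact Finset.mem_image.2 ⟨g, Finset.mem_univ _, hg.symm⟩
  have hcount' : I.card = ∑ B ∈ 𝔅, (I.filter fun v : G => v • F = B).card :=
    Finset.card_eq_sum_card_fiberwise (f := fun v : G => v • F) (t := 𝔅)
      fun v _ => Finset.mem_image.2 ⟨v, Finset.mem_univ _, rfl⟩
  have hbase : (I.filter fun v : G => v • F = F).card = i₀ := by
    refine congrArg Finset.card (Finset.ext fun v => ?_)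
    simp only [Finset.mem_filter, hImem]
    refine and_congr_right fun hv => ⟨fun he => hB.sharp v hv.1 (h.mem_fix_of_fixed
      (mem_stabilizer_iff.2 he) hv.1 hv.2), fun he => ?_⟩
    exact mem_stabilizer_iff.1 (fix_le_stab (mem_fix.2 he.ge : v ∈ fixingSubgroup G F))
  have hfib : ∀ B, ((I.filter fun v : G => v • F = B).card) = (fibre (G := G) F B).ncard := fun B => by
    rw [← Set.ncard_coe_finset]
    refine congrArg Set.ncard (Set.ext fun v => ?_)
    simp [fibre, hImem, and_assoc]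
  have hle : ∀ B ∈ 𝔅.erase F, (I.filter fun v : G => v • F = B).card ≤ 3 := fun B hB' => by
    rw [hfib]
    exact h.fibre_le hsign (Finset.ne_of_mem_erase hB')
  have hi3 : 3 ≤ i₀ := by
    obtain ⟨x, hx, y, hy, hx2, hy2, hxy, hc⟩ : ∃ x ∈ (P : Subgroup G) ⊓ fixingSubgroup G F,
        ∃ y ∈ (P : Subgroup G) ⊓ fixingSubgroup G F, orderOf x = 2 ∧ orderOf y = 2 ∧ x ≠ y ∧ Commute x y := by
      set N := (fixingSubgroup G F).subgroupOf (P : Subgroup G) with hN
      haveI : N.Normal := ⟨fun n hn g => by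
        rw [hN, Subgroup.mem_subgroupOf] at hn ⊢
        exact fix_conj_stab (h.le g.2) hn⟩
      have hN1 : N ≠ ⊥ := fun e => ne_one_of_two ha2 (congrArg Subtype.val
        ((Subgroup.eq_bot_iff_forall _).1 e ⟨a, ha.1⟩ (Subgroup.mem_subgroupOf.2 ha.2)))
      obtain ⟨c, hcN, hc1, hcC⟩ := Solv.Fct.normal_inf_center' P.isPGroup' N hN1
      obtain ⟨j, hj⟩ := exists_pow_order (p := 2) P.isPGroup' c.2 fun e => hc1 (Subtype.ext e)
      have hz : (c : G) ^ j ∈ (P : Subgroup G) ⊓ fixingSubgroup G F :=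
        ⟨pow_mem c.2 j, pow_mem (Subgroup.mem_subgroupOf.1 hcN) j⟩
      have hzc : ∀ q ∈ (P : Subgroup G), Commute ((c : G) ^ j) q := fun q hq =>
        (show Commute (c : G) q from (congrArg Subtype.val (hcC ⟨q, hq⟩)).symm).pow_left j
      by_cases hza : (c : G) ^ j = a
      · exact ⟨_, hz, b, hb, hj, hb2, fun e => hab (hza.symm.trans e), hzc b hb.1⟩
      · exact ⟨_, hz, a, ha, hj, ha2, hza, hzc a ha.1⟩
    have hmem : ∀ z ∈ (P : Subgroup G) ⊓ fixingSubgroup G F, orderOf z = 2 →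
        z ∈ I.filter fun v => fixedBy Ω v = F := fun z hz hz2 =>
      Finset.mem_filter.2 ⟨hImem.2 ⟨hz2, hB.ne.mono (mem_fix.1 hz.2)⟩, hB.sharp z hz2 hz.2⟩
    have hsub : ({x, y, x * y} : Finset G) ⊆ I.filter fun v => fixedBy Ω v = F := by
      intro z hz
      simp only [Finset.mem_insert, Finset.mem_singleton] at hz
      rcases hz with e | e | e <;> rw [e]
      · exact hmem x hx hx2
      · exact hmem y hy hy2
      · refine hmem _ (Subgroup.mul_mem _ hx hy) (orderOf_two ?_ fun e1 => hxy ?_)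
        · rw [← pow_two, hc.mul_pow, pow_two, pow_two, sq_one hx2, sq_one hy2, one_mul]
        · rw [mul_eq_one_iff_eq_inv, inv_eq_of_mul_eq_one_left (sq_one hy2)] at e1
          exact e1
    refine le_trans (le_of_eq ?_) (Finset.card_le_card hsub)
    exact (Finset.card_eq_three.2 ⟨x, y, x * y, hxy,
      fun e => ne_one_of_two hy2 (mul_eq_left.1 e.symm), fun e => ne_one_of_two hx2 (mul_eq_right.1 e.symm),
      rfl⟩).symm
  obtain ⟨u, huM, hu, huK, c, hcu, hcM⟩ := h.exists_wild hno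
  have hne : c • F ≠ F := fun e => hcM (mem_stabilizer_iff.2 e)
  have hcB : c • F ∈ 𝔅.erase F := Finset.mem_erase.2 ⟨hne, Finset.mem_image.2 ⟨c, Finset.mem_univ _, rfl⟩⟩
  -- every fibre is full
  have hfull : 3 ≤ (fibre (G := G) F (c • F)).ncard := by
    rw [← hfib]
    by_contra hlt
    have h1 : ∑ B ∈ 𝔅.erase F, (I.filter fun v : G => v • F = B).card < ∑ B ∈ 𝔅.erase F, 3 :=
      Finset.sum_lt_sum hle ⟨_, hcB, not_le.1 hlt⟩
    rw [Finset.sum_const, smul_eq_mul, Finset.card_erase_of_mem hF𝔅] at h1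
    rw [← Finset.add_sum_erase _ _ hF𝔅, hbase, hcount] at hcount'
    have hN : 2 ≤ 𝔅.card := by
      have := Finset.card_pos.2 ⟨_, hcB⟩
      rw [Finset.card_erase_of_mem hF𝔅] at this
      omega
    obtain ⟨N, hN'⟩ : ∃ N, 𝔅.card = N + 1 := ⟨𝔅.card - 1, by omega⟩
    rw [hN', Nat.add_sub_cancel] at h1
    rw [hN', add_mul, one_mul] at hcount'
    have := Nat.mul_le_mul_left N hi3
    omega
  set B := c • F with hBdef
  have huB : u ∈ stabilizer G B := by
    rw [hBdef, show u = c * u * c⁻¹ by rw [hcu.eq, mul_inv_cancel_right], mem_stab_conj]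
    exact huM
  set J := stabilizer G F ⊓ stabilizer G B with hJ
  have hodd : ∀ x : G, ∀ hx : x ∈ J, perm hk ⟨x, hx.1⟩ ^ 3 = 1 → Odd (orderOf x) := fun x hx h3 => by
    by_contra hev
    rw [Nat.not_odd_iff_even, even_iff_two_dvd] at hev
    obtain ⟨m, hm⟩ := hev
    have hj : orderOf (x ^ m) = 2 := by
      refine orderOf_two ?_ fun e => ?_
      · rw [← pow_add, show m + m = orderOf x by omega, pow_orderOf_eq_one]
      · have h1 := Nat.le_of_dvd (by have := orderOf_pos x; omega) (orderOf_dvd_of_pow_eq_one e)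
        have := orderOf_pos x
        omega
    have hjK : x ^ m ∈ fixingSubgroup G F := by
      refine (perm_eq_one hk (g := ⟨x ^ m, pow_mem hx.1 m⟩)).1 ?_
      set w := perm hk ⟨x ^ m, pow_mem hx.1 m⟩ with hw
      have h2 : w ^ 2 = 1 := by
        rw [hw, ← map_pow, show (⟨x ^ m, pow_mem hx.1 m⟩ : stabilizer G F) ^ 2 = 1 from
          Subtype.ext (by rw [SubmonoidClass.coe_pow, pow_two]; exact sq_one hj), map_one]
      have h3' : w ^ 3 = 1 := by
        rw [hw, show (⟨x ^ m, pow_mem hx.1 m⟩ : stabilizer G F) = ⟨x, hx.1⟩ ^ m from rfl, map_pow,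
          ← pow_mul, mul_comm, pow_mul, h3, one_pow]
      rwa [pow_succ, h2, one_mul] at h3'
    have hjB := h.mem_fix_of_fixed' (pow_mem hx.2 m) hj (hB.ne.mono (mem_fix.1 hjK))
    exact hne ((hB.translate c).eq_of_mem hB hj hjB hjK)
  -- the action on the fibre
  set Φ := fibre (G := G) F B with hΦ
  have hΦ3 : Φ.ncard = 3 := le_antisymm (h.fibre_le hsign hne) hfull
  have hJΦ : ∀ x ∈ J, ∀ v ∈ Φ, x * v * x⁻¹ ∈ Φ := by
    rintro x hx v ⟨hv2, hvfix, hvB⟩
    refine ⟨orderOf_conj_two x hv2, ?_, ?_⟩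
    · rw [fixedBy_conj]; exact hvfix.smul_set
    · rw [mul_smul, mul_smul, mem_stabilizer_iff.1 (inv_mem hx.1), hvB, mem_stabilizer_iff.1 hx.2]
  letI : Fintype Φ := Fintype.ofFinite _
  let ρ : J →* Equiv.Perm Φ :=
    { toFun := fun x =>
        { toFun := fun v => ⟨(x : G) * v * (x : G)⁻¹, hJΦ x x.2 v v.2⟩
          invFun := fun v => ⟨((x⁻¹ : J) : G) * v * ((x⁻¹ : J) : G)⁻¹, hJΦ _ (x⁻¹).2 v v.2⟩
          left_inv := fun v => Subtype.ext (by simp [mul_assoc])
          right_inv := fun v => Subtype.ext (by simp [mul_assoc]) }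
      map_one' := Equiv.ext fun v => Subtype.ext (by simp)
      map_mul' := fun x y => Equiv.ext fun v => Subtype.ext (by simp [mul_assoc]) }
  have hρsign : ∀ x : J, perm hk ⟨(x : G), x.2.1⟩ ^ 3 = 1 → Equiv.Perm.sign (ρ x) = 1 := fun x h3 => by
    obtain ⟨m, hm⟩ := hodd x x.2 h3
    have h1 : Equiv.Perm.sign (ρ x) ^ orderOf (x : G) = 1 := by
      rw [← map_pow, ← map_pow, Subgroup.orderOf_coe, pow_orderOf_eq_one, map_one, map_one]
    rwa [hm, pow_succ, pow_mul, Int.units_sq, one_pow, one_mul] at h1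
  obtain ⟨v₀, hv₀, v₁, hv₁, hv01⟩ := (Set.one_lt_ncard (Set.toFinite Φ)).1 (by rw [hΦ3]; norm_num)
  set d := v₀ * v₁ with hd
  have hdJ : d ∈ J := h.fibre_mul_mem hv₀ hv₁
  have hud : perm hk ⟨u, huM⟩ ≠ 1 := fun e => huK ((perm_eq_one hk).1 e)
  have hu2 : perm hk ⟨u, huM⟩ ^ 2 = 1 := by
    rw [← map_pow, show (⟨u, huM⟩ : stabilizer G F) ^ 2 = 1 from
      Subtype.ext (by rw [SubmonoidClass.coe_pow, pow_two]; exact sq_one hu), map_one]
  have hd3 : perm hk ⟨d, hdJ.1⟩ ^ 3 = 1 := P4.cube_of_even _ (hsign _ hk) fun e => hv01 (by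
    rw [← map_pow] at e
    exact h.fibre_eq hne hv₀ hv₁ ((perm_eq_one hk).1 e))
  have hd1 : perm hk ⟨d, hdJ.1⟩ ≠ 1 := fun e => hv01 (h.fibre_eq hne hv₀ hv₁ (pow_mem ((perm_eq_one hk).1 e) 2))
  have hdu : perm hk (⟨d, hdJ.1⟩ * ⟨u, huM⟩) ^ 3 = 1 := by
    rw [map_mul]
    exact P4.even_mul _ _ (hsign _ hk) hu2 hd3 hd1
  have hρu : Equiv.Perm.sign (ρ ⟨u, huM, huB⟩) = 1 := by
    rw [show (⟨u, huM, huB⟩ : J) = ⟨d, hdJ⟩⁻¹ * (⟨d, hdJ⟩ * ⟨u, huM, huB⟩) by group, map_mul, map_mul, map_inv,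
      map_inv, hρsign ⟨d, hdJ⟩ hd3, hρsign (⟨d, hdJ⟩ * ⟨u, huM, huB⟩) hdu, inv_one, one_mul]
  have hρ1 : ρ ⟨u, huM, huB⟩ = 1 := by
    let e : Φ ≃ Fin 3 := Finite.equivFinOfCardEq ((Nat.card_coe_set_eq Φ).trans hΦ3)
    have hsq : ρ ⟨u, huM, huB⟩ ^ 2 = 1 := by
      rw [← map_pow, show (⟨u, huM, huB⟩ : J) ^ 2 = 1 from
        Subtype.ext (by rw [SubmonoidClass.coe_pow, pow_two]; exact sq_one hu), map_one]
    have h1 := P4.three_even (e.permCongrHom (ρ ⟨u, huM, huB⟩)) (by rw [← map_pow, hsq, map_one])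
      ((Equiv.Perm.sign_permCongr e _).trans hρu)
    exact (map_eq_one_iff _ e.permCongrHom.injective).1 h1
  have hcom : ∀ v ∈ Φ, Commute u v := fun v hv => by
    have h1 : ((ρ ⟨u, huM, huB⟩) ⟨v, hv⟩ : G) = v := by rw [hρ1]; rfl
    exact mul_inv_eq_iff_eq_mul.1 h1
  refine hv01 (h.fibre_eq hne hv₀ hv₁ ((perm_eq_one hk (g := ⟨d, hdJ.1⟩ ^ 2)).1 ?_))
  rw [map_pow]
  refine P4.sq_of_comm _ _ (hsign ⟨u, huM⟩ hk) (hsign _ hk) hu2 hud ?_
  rw [← map_mul, ← map_mul]
  exact congrArg _ (Subtype.ext ((hcom v₀ hv₀).mul_right (hcom v₁ hv₁)).symm.eq)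

theorem first_of_cyclic_index {X : Type*} [Group X] [Finite X] {a : X}
    (ha : (Subgroup.zpowers a).index ≤ 2) (H : Subgroup X) (hH : H = ⊤) :
    (Solv.FourGen.sq H).index ≤ 4 := by
  subst hH
  have hle : Subgroup.zpowers (a ^ 2) ≤ Solv.FourGen.sq (⊤ : Subgroup X) :=
    Subgroup.zpowers_le.2 (Solv.FourGen.sq_mem (Subgroup.mem_top a))
  refine (Nat.le_of_dvd (Nat.pos_of_ne_zero Subgroup.index_ne_zero_of_finite)
    (Subgroup.index_dvd_of_le hle)).trans ?_
  have hle' : Subgroup.zpowers (a ^ 2) ≤ Subgroup.zpowers a :=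
    Subgroup.zpowers_le.2 (pow_mem (Subgroup.mem_zpowers a) 2)
  rw [← Subgroup.relIndex_mul_index hle']
  refine (Nat.mul_le_mul (?_ : _ ≤ 2) ha).trans le_rfl
  have h1 := ((Subgroup.zpowers (a ^ 2)).subgroupOf (Subgroup.zpowers a)).card_mul_index
  rw [Nat.card_congr (Subgroup.subgroupOfEquivOfLe hle').toEquiv, Nat.card_zpowers, Nat.card_zpowers,
    orderOf_pow' a two_ne_zero] at h1
  change _ * (Subgroup.zpowers (a ^ 2)).relIndex (Subgroup.zpowers a) = _ at h1
  have hg := Nat.gcd_dvd_right (orderOf a) 2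
  have hg2 := Nat.le_of_dvd two_pos hg
  have hpos := orderOf_pos a
  have hmul : orderOf a = orderOf a / Nat.gcd (orderOf a) 2 * Nat.gcd (orderOf a) 2 :=
    (Nat.div_mul_cancel (Nat.gcd_dvd_left _ _)).symm
  have h2 : (Subgroup.zpowers (a ^ 2)).relIndex (Subgroup.zpowers a) = Nat.gcd (orderOf a) 2 :=
    Nat.eq_of_mul_eq_mul_left
      (Nat.div_pos (Nat.le_of_dvd hpos (Nat.gcd_dvd_left _ _)) (Nat.gcd_pos_of_pos_left _ hpos))
      (h1.trans hmul)
  omega

theorem sq_index_le {X : Type*} [Group X] [Finite X] (hX : IsPGroup 2 X) (hu : Solv.UniqueOrderP 2 X) :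
    (Solv.FourGen.sq (⊤ : Subgroup X)).index ≤ 4 := by
  haveI := Fact.mk Nat.prime_two
  rcases Solv.cyclic_or_quaternion hX hu with hc | ⟨-, n, ⟨e⟩⟩
  · obtain ⟨a, ha⟩ := hc.exists_generator
    refine first_of_cyclic_index (a := a) ?_ ⊤ rfl
    rw [(Subgroup.eq_top_iff' _).2 ha, Subgroup.index_top]
    norm_num
  · haveI : NeZero (2 ^ n) := ⟨pow_ne_zero _ two_ne_zero⟩
    refine first_of_cyclic_index (a := e.symm (QuaternionGroup.a 1)) ?_ ⊤ rfl
    have h := (Subgroup.zpowers (e.symm (QuaternionGroup.a 1))).card_mul_index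
    rw [Nat.card_zpowers, MulEquiv.orderOf_eq, QuaternionGroup.orderOf_a_one, Nat.card_congr e.toEquiv,
      Nat.card_eq_fintype_card, QuaternionGroup.card] at h
    exact (Nat.eq_of_mul_eq_mul_left (Nat.mul_pos two_pos (Nat.two_pow_pos n))
      (h.trans (by ring : 4 * 2 ^ n = 2 * 2 ^ n * 2))).le

/-- Involutions outside the pointwise part without fixed points: the bound. -/
theorem Free.bounded (h : Free P F t) (hno : ¬ ∃ H : Subgroup G, Cfsg.IsStronglyEmbedded H)
    {u v : G} (hu : u ∈ (P : Subgroup G)) (hu2 : orderOf u = 2) (hv : v ∈ (P : Subgroup G))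
    (hv2 : orderOf v = 2) (huv : u ≠ v) : Bounded P := by
  haveI := Fact.mk Nat.prime_two
  have hB := h.top.block h.setting
  have hfree : ∀ g ∈ (P : Subgroup G), ∀ x, x ∉ F → g • x = x → g = 1 := by
    intro g hg x hx hgx
    by_contra h1
    obtain ⟨j, hj⟩ := exists_pow_order (p := 2) P.isPGroup' hg h1
    have hjx : x ∈ fixedBy Ω (g ^ j) := mem_stabilizer_iff.1 (pow_mem (mem_stabilizer_iff.2 hgx) j)
    have hjK : g ^ j ∈ fixingSubgroup G F := h.mem_fix_of_fixed (h.le (pow_mem hg j)) hj ⟨x, hjx⟩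
    exact hx (hB.sharp _ hj hjK ▸ hjx)
  have hnc : ¬ IsCyclic (P : Subgroup G) := fun hc => by
    classical
    letI := Fintype.ofFinite (P : Subgroup G)
    haveI := hc
    have hc' := IsCyclic.card_orderOf_eq_totient (α := (P : Subgroup G)) (d := 2) (by
      rw [← Nat.card_eq_fintype_card]
      refine (dvd_of_eq (hu2.symm.trans (Subgroup.orderOf_mk u hu).symm)).trans ?_
      exact orderOf_dvd_natCard _)
    rw [Nat.totient_two] at hc'
    exact huv (congrArg Subtype.val (Finset.card_le_one.1 hc'.le ⟨u, hu⟩ (by simp [hu2]) ⟨v, hv⟩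
      (by simp [hv2])))
  have hsign : ∀ x : stabilizer G F, ∀ hk : F.ncard = 4, Equiv.Perm.sign (perm hk x) = 1 := fun x hk =>
    sign_perm_stab h.setting hk h.le hfree hnc x
  refine bounded_of_first_le h.top.card h.le fun H => ?_
  set K := H ⊓ (fixingSubgroup G F).subgroupOf (P : Subgroup G) with hK
  have huniq : Solv.UniqueOrderP 2 K := by
    intro x y hx hy hy1
    by_cases hx1 : x = 1
    · rw [hx1]; exact one_mem _
    have ho : ∀ z : K, z ^ 2 = 1 → z ≠ 1 → orderOf ((z : (P : Subgroup G)) : G) = 2 := fun z hz hz1 => by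
      rw [Subgroup.orderOf_coe, Subgroup.orderOf_coe]
      exact orderOf_eq_prime hz hz1
    have hxy : ((x : (P : Subgroup G)) : G) = ((y : (P : Subgroup G)) : G) :=
      h.involution_le_one hsign hno ⟨(x : (P : Subgroup G)).2, x.2.2⟩ ⟨(y : (P : Subgroup G)).2, y.2.2⟩
        (ho x hx hx1) (ho y hy hy1)
    rw [Subtype.ext (Subtype.ext hxy) (a2 := y)]
    exact Subgroup.mem_zpowers y
  refine le_trans ?_ (sq_index_le (P.isPGroup'.to_subgroup K) huniq)
  refine Nat.le_of_dvd (Nat.pos_of_ne_zero Subgroup.index_ne_zero_of_finite) (Subgroup.index_dvd_of_le ?_)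
  rw [Solv.FourGen.sq, Subgroup.closure_le]
  rintro _ ⟨a, -, rfl⟩
  exact Subgroup.mem_subgroupOf.2 (Solv.FourGen.sq_mem a.2.1)

end Cfsg.Agent.Perm.FixFour
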