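import Cfsg.Agent.Lib.Perm.FixFour.Regular

/-!
Four fixed points, when the Sylow subgroup moves the block.
-/

set_option autoImplicit false
set_option linter.unusedSectionVars false
set_option linter.style.haveILetI false

open MulAction
open scoped Pointwise

namespace Cfsg.Agent.Perm.FixFour

open Cfsg.Agent.Fusion (SylIn cj mem_cj conj_mem_cj cj_eq_self cj_mono card_cj)

universe u v

variable {G : Type u} {Ω : Type v} [Group G] [Finite G] [MulAction G Ω] [Finite Ω]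

theorem bounded_of_move {P : Sylow 2 G} {F : Set Ω} (hB : Block G 2 F) (hF : F.ncard = 4)
    (hPM : ¬ (P : Subgroup G) ≤ stabilizer G F) {v : G} (hvP : v ∈ (P : Subgroup G)) (hv : orderOf v = 2)
    (hvK : v ∈ fixingSubgroup G F) : Bounded P := by
  haveI := Fact.mk Nat.prime_two
  set K := fixingSubgroup G F with hK
  set M := stabilizer G F with hM
  set Q := (P : Subgroup G) ⊓ M with hQ
  set R := (P : Subgroup G) ⊓ K with hR
  have hRQ : R ≤ Q := inf_le_inf_left _ fix_le_stab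
  have hvR : v ∈ R := ⟨hvP, hvK⟩
  have hRp : IsPGroup 2 R := P.isPGroup'.to_inf_left
  have hcentM : ∀ r ∈ R, r ≠ 1 → ∀ g ∈ (P : Subgroup G), Commute g r → g ∈ M := fun r hr hr1 g _ hg => by
    refine hB.mem_stab_of_ne hRp hr hr1 hr.2 ?_
    rw [hg.eq, mul_inv_cancel_right]
    exact hr.2
  by_cases hR2 : Nat.card R ≤ 2
  · exact bounded_of_all_eight hF hvP (sq_one hv) (hcentM v hvR (ne_one_of_two hv))
      fun D _ _ _ _ => (Subgroup.card_le_of_le inf_le_left).trans hR2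
  obtain ⟨w, hwP, hwM, hwQ, hR'Q, hR'K⟩ := exists_move hB hPM
  set R' := cj R w with hR'
  set F' := w • F with hF'
  have hB' : Block G 2 F' := hB.translate w
  have hF'4 : F'.ncard = 4 := by rw [hF', Set.ncard_smul_set, hF]
  have hR'mem : ∀ x, x ∈ R' ↔ x ∈ (P : Subgroup G) ∧ x ∈ fixingSubgroup G F' := fun x => by
    rw [hR', mem_cj, hR, Subgroup.mem_inf, hK, ← mem_fix_conj w (w⁻¹ * x * w),
      show w * (w⁻¹ * x * w) * w⁻¹ = x by group, ← hF']
    refine and_congr_left fun _ => ⟨fun h => ?_, fun h => mul_mem (mul_mem (inv_mem hwP) h) hwP⟩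
    have := mul_mem (mul_mem hwP h) (inv_mem hwP)
    rwa [show w * (w⁻¹ * x * w) * w⁻¹ = x by group] at this
  have hwQ' : cj Q w = Q := hwQ
  have hQM' : Q ≤ stabilizer G F' := fun q hq => by
    rw [← hwQ', mem_cj] at hq
    rw [hF', ← show w * (w⁻¹ * q * w) * w⁻¹ = q by group, mem_stab_conj]
    exact hq.2
  have hR'p : IsPGroup 2 R' := P.isPGroup'.to_le fun x hx => ((hR'mem x).1 hx).1
  -- the two parts commute
  have hcomm : ∀ r ∈ R, ∀ s ∈ R', Commute r s := fun r hr s hs => by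
    have hs' := (hR'mem s).1 hs
    have hsQ : s ∈ Q := hR'Q hs
    have h1 : r * s * r⁻¹ ∈ R' := (hR'mem _).2
      ⟨mul_mem (mul_mem hr.1 hs'.1) (inv_mem hr.1), fix_conj_stab (hQM' (hRQ hr)) hs'.2⟩
    have h2 : s * r⁻¹ * s⁻¹ ∈ R :=
      ⟨(P : Subgroup G).mul_mem ((P : Subgroup G).mul_mem hs'.1 ((P : Subgroup G).inv_mem hr.1)) ((P : Subgroup G).inv_mem hs'.1), fix_conj_stab hsQ.2 (inv_mem hr.2)⟩
    have h : r * s * r⁻¹ * s⁻¹ ∈ R' ⊓ fixingSubgroup G F := ⟨R'.mul_mem h1 (R'.inv_mem hs), by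
      rw [show r * s * r⁻¹ * s⁻¹ = r * (s * r⁻¹ * s⁻¹) by group]
      exact mul_mem hr.2 h2.2⟩
    rw [hR'K, Subgroup.mem_bot, mul_inv_eq_one] at h
    exact mul_inv_eq_iff_eq_mul.1 h
  set v' := w * v * w⁻¹ with hv'
  have hv'o : orderOf v' = 2 := orderOf_conj_two w hv
  have hv'R : v' ∈ R' := conj_mem_cj hvR
  have hv'fix : fixedBy Ω v' = F' := hB'.sharp v' hv'o ((hR'mem _).1 hv'R).2
  have hne : F' ≠ F := fun e => hwM (mem_stabilizer_iff.2 e)
  obtain ⟨x₀, hx₀, hx₀F⟩ : ∃ x ∈ F', x ∉ F := Set.not_subset.1 fun h =>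
    hne (Set.eq_of_subset_of_ncard_le h (by rw [hF, hF'4]))
  have hle4 : Nat.card R ≤ (F' \ F).ncard := by
    have h := card_cent_le hB (C := R) inf_le_right hRp (y := v') (fun c hc => (hcomm c hc v' hv'R).eq)
      (x := x₀) (by rw [hv'fix]; exact hx₀) hx₀F
    rwa [hv'fix] at h
  obtain ⟨n, hn⟩ := IsPGroup.iff_card.1 hRp
  have hn2 : 2 ≤ n := by
    by_contra h
    refine hR2 ?_
    rw [hn]
    exact (Nat.pow_le_pow_right (by norm_num) (show n ≤ 1 by omega)).trans (by norm_num)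
  have h4n : 4 ≤ Nat.card R := hn ▸ le_trans (by norm_num) (Nat.pow_le_pow_right (show 0 < 2 by norm_num) hn2)
  have hsub : (F' \ F).ncard ≤ 4 := (Set.ncard_le_ncard Set.sdiff_subset (Set.toFinite _)).trans hF'4.le
  have hR4 : Nat.card R = 4 := le_antisymm (hle4.trans hsub) h4n
  have hdis : ∀ x ∈ F', x ∉ F := fun x hx hxF => by
    have h : F' \ F ⊆ F' \ {x} := fun y hy => ⟨hy.1, fun e => hy.2 (by rw [Set.mem_singleton_iff] at e; exact e ▸ hxF)⟩
    have h' := Set.ncard_le_ncard h (Set.toFinite _)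
    rw [Set.ncard_diff_singleton_of_mem hx, hF'4] at h'
    omega
  have hR'4 : Nat.card R' = 4 := by rw [hR', card_cj, hR4]
  have htr : ∀ x ∈ F', ∀ y ∈ F', ∃ q ∈ R, q • x = y := fun x hx y hy =>
    exists_smul_of_card hB hRp inf_le_right (hRQ.trans hQM') hdis (by rw [hF'4, hR4]) hx hy
  have htr' : ∀ x ∈ F, ∀ y ∈ F, ∃ q ∈ R', q • x = y := fun x hx y hy =>
    exists_smul_of_card hB' hR'p (fun q hq => ((hR'mem q).1 hq).2) (hR'Q.trans inf_le_right)
      (fun z hz hz' => hdis z hz' hz) (by rw [hF, hR'4]) hx hy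
  obtain ⟨c, hc⟩ := hB'.ne
  set V := Q ⊓ stabilizer G c with hV
  have hVp : IsPGroup 2 V := P.isPGroup'.to_le (inf_le_left.trans inf_le_left)
  have hR'V : R' ≤ V := fun x hx => ⟨hR'Q hx, mem_stabilizer_iff.2 (mem_fix.1 ((hR'mem x).1 hx).2 hc)⟩
  have hVK : ∀ g ∈ V, g ∈ fixingSubgroup G F → g = 1 := fun g hg hgK =>
    hB.eq_one_of_fix hVp hg hgK (mem_stabilizer_iff.1 hg.2) (hdis c hc)
  have hRP : R ≤ (P : Subgroup G) := inf_le_left
  have hR'P : R' ≤ (P : Subgroup G) := fun x hx => ((hR'mem x).1 hx).1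
  by_cases hVR : V ≤ R'
  swap
  · obtain ⟨e, heV, heR, he2⟩ :=
      exists_outside_involution hF hVp (inf_le_left.trans inf_le_right) hVK hR'V hR'4 hVR
    have heP : e ∈ (P : Subgroup G) := heV.1.1
    have heM : e ∈ M := heV.1.2
    obtain ⟨z, hz, hz2, hz1, hez⟩ := exists_cent_involution hRP hR4 he2
      (fun a ha => ⟨(P : Subgroup G).mul_mem ((P : Subgroup G).mul_mem heP ha.1) ((P : Subgroup G).inv_mem heP), fix_conj_stab heM ha.2⟩)
    obtain ⟨z', hz', hz'2, hz'1, hez'⟩ := exists_cent_involution hR'P hR'4 he2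
      (fun a ha => (hR'mem _).2 ⟨mul_mem (mul_mem heP (hR'P ha)) (inv_mem heP),
        fix_conj_stab (hQM' heV.1) ((hR'mem a).1 ha).2⟩)
    have heK : e ∉ K := fun h => heR (by rw [hVK e heV h]; exact one_mem R')
    have hz'K : z' ∉ K := fun h => hz'1 ((Subgroup.eq_bot_iff_forall _).1 hR'K z' ⟨hz', h⟩)
    have hz'eK : z'⁻¹ * e ∉ K := fun h => heR (by
      rw [← inv_mul_eq_one.1 (hVK _ (V.mul_mem (V.inv_mem (hR'V hz')) heV) h)]
      exact hz')
    obtain ⟨D, hDS, hDe, hD8, hzD, -, heD⟩ := exists_eight_of_three (a := z') (b := e) hz2 hz1 hz.2 hz'2 he2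
      (hR'Q hz').2 hz'K heK hz'eK (hcomm z hz z' hz') hez.symm hez'.symm (S := (P : Subgroup G))
      hz.1 (hR'P hz') heP
    have hcD : ∀ g ∈ (P : Subgroup G), (∀ x ∈ D, Commute g x) → g ∈ M := fun g hg hgD =>
      hcentM z hz hz1 g hg (hgD z hzD)
    refine bounded_of_elem hF hDS (fun d hd => hcD d (hDS hd) fun x hx => commute_elem hDe hd hx) hDe hD8 hcD ?_
    refine le_trans (Subgroup.card_le_of_le (K := R ⊓ Subgroup.centralizer {e}) fun r hr => ⟨hr.1, ?_⟩) ?_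
    · exact Subgroup.mem_centralizer_singleton_iff.2 (Subgroup.mem_centralizer_iff.1 hr.2 e heD).symm
    by_contra hgt
    have hall : ∀ r ∈ R, Commute e r := fun r hr => by
      by_contra hn
      refine hgt (card_le_two_of_not_all hRP hR4 inf_le_left hr fun h => hn ?_)
      exact (Subgroup.mem_centralizer_singleton_iff.1 h.2).symm
    exact heR ((hR'mem e).2 ⟨heP, fixes_of_commute htr hall hc (mem_stabilizer_iff.1 heV.2)⟩)
  -- the frame is the product of the two parts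
  have hdec : ∀ g ∈ Q, ∃ r ∈ R, ∃ s ∈ R', g = r * s := fun g hg => by
    obtain ⟨r, hr, hrc⟩ := htr (g • c) (smul_mem_block (hQM' hg) hc) c hc
    refine ⟨r⁻¹, R.inv_mem hr, r * g, hVR ⟨mul_mem (hRQ hr) hg, mem_stabilizer_iff.2 ?_⟩, by group⟩
    rw [mul_smul, hrc]
  have hinj : ∀ r ∈ R, ∀ s ∈ R', r * s = 1 → r = 1 ∧ s = 1 := fun r hr s hs h => by
    have hs1 : s = 1 := (Subgroup.eq_bot_iff_forall _).1 hR'K s ⟨hs, by
      rw [show s = r⁻¹ by exact (eq_inv_of_mul_eq_one_right h)]; exact (fixingSubgroup G F).inv_mem hr.2⟩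
    exact ⟨by rwa [hs1, mul_one] at h, hs1⟩
  have hsq : ∀ r ∈ R, ∀ s ∈ R', (r * s) ^ 2 = 1 → r ^ 2 = 1 ∧ s ^ 2 = 1 := fun r hr s hs h => by
    rw [(hcomm r hr s hs).mul_pow] at h
    exact hinj _ (pow_mem hr 2) _ (pow_mem hs 2) h
  by_cases helem : ∀ r ∈ R, r ^ 2 = 1
  · have helem' : ∀ s ∈ R', s ^ 2 = 1 := fun s hs => by
      rw [hR', mem_cj] at hs
      have := helem _ hs
      rwa [show w⁻¹ * s * w = w⁻¹ * s * w⁻¹⁻¹ by group, conj_pow, mul_inv_eq_one, mul_eq_left] at this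
    refine bounded_of_four_cent (E := Q) (R := R) inf_le_left ?_ ?_ hRQ hR4 ?_ ?_
    · rw [← Nat.card_eq_of_bijective
        (fun p : R × R' => (⟨(p.1 : G) * p.2, mul_mem (hRQ p.1.2) (hR'Q p.2.2)⟩ : Q)) ⟨?_, ?_⟩,
        Nat.card_prod, hR4, hR'4]
      · rintro ⟨a, b⟩ ⟨a', b'⟩ h
        have h' : (a : G) * b = a' * b' := congrArg Subtype.val h
        have h1 := hinj ((a' : G)⁻¹ * a) (mul_mem (inv_mem a'.2) a.2) ((b : G) * (b' : G)⁻¹)
          (mul_mem b.2 (inv_mem b'.2)) (by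
            rw [show (a' : G)⁻¹ * a * ((b : G) * (b' : G)⁻¹) = (a' : G)⁻¹ * ((a : G) * b) * (b' : G)⁻¹ by group,
              h']
            group)
        exact Prod.ext (Subtype.ext (inv_mul_eq_one.1 h1.1).symm) (Subtype.ext (mul_inv_eq_one.1 h1.2))
      · rintro ⟨g, hg⟩
        obtain ⟨r, hr, s, hs, e⟩ := hdec g hg
        exact ⟨(⟨r, hr⟩, ⟨s, hs⟩), Subtype.ext e.symm⟩
    · intro g hg
      obtain ⟨r, hr, s, hs, rfl⟩ := hdec g hg
      rw [(hcomm r hr s hs).mul_pow, helem r hr, helem' s hs, one_mul]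
    · exact fun r hr hr1 g hg hgr => ⟨hg, hcentM r hr hr1 g hg hgr⟩
    · exact fun r hr hr1 g hg hgr => ⟨hg, hB.mem_stab_of_ne hRp hr hr1 hr.2 hgr.2⟩
  · push Not at helem
    obtain ⟨r₀, hr₀, hr₀2⟩ := helem
    refine bounded_of_all_eight hF hvP (sq_one hv) (hcentM v hvR (ne_one_of_two hv)) fun D hD hDe hD8 hvD => ?_
    exfalso
    classical
    set s₀ := w * r₀ * w⁻¹ with hs₀
    have hs₀R : s₀ ∈ R' := conj_mem_cj hr₀
    have hs₀2 : s₀ ^ 2 ≠ 1 := by rwa [hs₀, conj_pow, Ne, conj_eq_one_iff]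
    have hsub' : (D : Set G) ⊆ (({1, r₀ ^ 2, s₀ ^ 2, r₀ ^ 2 * s₀ ^ 2} : Finset G) : Set G) := by
      intro d hd
      have hdQ : d ∈ Q := ⟨hD hd, hcentM v hvR (ne_one_of_two hv) d (hD hd) (commute_elem hDe hd hvD)⟩
      obtain ⟨r, hr, s, hs, rfl⟩ := hdec d hdQ
      obtain ⟨hr2, hs2⟩ := hsq r hr s hs (hDe _ hd)
      rcases involution_unique hRP hR4 hr₀ hr₀2 hr hr2 with e | e <;>
        rcases involution_unique hR'P hR'4 hs₀R hs₀2 hs hs2 with e' | e' <;> simp [e, e']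
    have h := Set.ncard_le_ncard hsub' (Set.toFinite _)
    rw [Set.ncard_coe_finset, ← Nat.card_coe_set_eq] at h
    change Nat.card D ≤ _ at h
    have := h.trans Finset.card_le_four
    omega

end Cfsg.Agent.Perm.FixFour
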