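import Cfsg.Agent.Lib.Perm.FixFour.OddBase
import Cfsg.Agent.Lib.Perm.FixFour.EvenBase
import Cfsg.Agent.Lib.Lie.FixityTwoSylow

/-!
Involutions fixing at most three points.
-/

set_option autoImplicit false
set_option linter.unusedSectionVars false
set_option linter.style.haveILetI false

open MulAction
open scoped Pointwise

namespace Cfsg.Agent.Perm.FixFour

open Cfsg.Agent.Fusion (SylIn cj mem_cj conj_mem_cj cj_eq_self cj_mono card_cj)

universe u v

variable {G : Type u} {Ω : Type v} [Group G] [Finite G] [MulAction G Ω] [Finite Ω]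
variable {F : Set Ω} {f : ℕ} {t : G}

theorem two_pow_le_two {f r a : ℕ} (hf : f ≤ 3) (hr : r = 2 ^ a) (h : r ∣ f.factorial) : r ≤ 2 := by
  subst hr
  have h6 : 2 ^ a ∣ 6 := h.trans (by interval_cases f <;> decide)
  rcases (show a ≤ 1 ∨ 2 ≤ a by omega) with ha | ha
  · calc 2 ^ a ≤ 2 ^ 1 := Nat.pow_le_pow_right (by norm_num) ha
      _ = 2 := by norm_num
  · exact absurd ((pow_dvd_pow 2 ha).trans h6) (by norm_num)

/-- Some involution has a centralizer of order at most four in a Sylow subgroup. -/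
theorem exists_small_involution (hS : Setting G Ω) (hT : Top G F f t) (hf3 : f ≤ 3)
    (hno : ¬ ∃ H : Subgroup G, Cfsg.IsStronglyEmbedded H) :
    ∃ (P : Sylow 2 G) (u v w : G), u ∈ (P : Subgroup G) ∧ orderOf u = 2 ∧ v ∈ (P : Subgroup G) ∧
      orderOf v = 2 ∧ u ≠ v ∧ w ∈ (P : Subgroup G) ∧ orderOf w = 2 ∧
      Nat.card ((P : Subgroup G) ⊓ Subgroup.centralizer {w} : Subgroup G) ≤ 4 := by
  haveI := Fact.mk Nat.prime_two
  have hB := hT.block hS
  obtain ⟨P, u, v, hP, huP, huM, hu, huK, hvP, hv, hvK⟩ := hT.exists_setup hS hno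
  have huv : u ≠ v := fun e => huK (e ▸ hvK)
  by_cases hPM : (P : Subgroup G) ≤ stabilizer G F
  · refine ⟨P, u, v, u, huP, hu, hvP, hv, huv, huP, hu, ?_⟩
    set Q := (P : Subgroup G) ⊓ Subgroup.centralizer {u}
    obtain ⟨r, hr, hrd, a, ha⟩ := card_inf_dvd hT.card (inf_le_left : Q ≤ _) (inf_le_left.trans hPM)
    have hr2 := two_pow_le_two hf3 ha hrd
    have hfix : (fixedBy Ω u).ncard = f := by
      have h1 := hT.mod_four hS hu
      have h2 := hT.max u hu
      omega
    obtain ⟨x, hx, hxF⟩ := exists_fixed_out (by rw [hfix, hT.card]) huK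
    have hle2 : (fixedBy Ω u \ F).ncard ≤ 2 := by
      rcases (show f ≤ 2 ∨ f = 3 by omega) with h | rfl
      · exact (Set.ncard_le_ncard Set.sdiff_subset (Set.toFinite _)).trans (hfix.le.trans h)
      · have hu2 : perm hT.card ⟨u, huM⟩ ^ 2 = 1 := by
          rw [← map_pow, show (⟨u, huM⟩ : stabilizer G F) ^ 2 = 1 from
            Subtype.ext (by rw [SubmonoidClass.coe_pow, pow_two]; exact sq_one hu), map_one]
        obtain ⟨i, hi⟩ := P4.three_two _ hu2
        have hiu : pt hT.card i ∈ fixedBy Ω u := by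
          change u • pt hT.card i = pt hT.card i
          have := pt_perm hT.card ⟨u, huM⟩ i
          rw [hi] at this
          exact this.symm
        have h1 : fixedBy Ω u \ F ⊆ fixedBy Ω u \ {pt hT.card i} := fun y hy =>
          ⟨hy.1, fun h => hy.2 (by rw [Set.mem_singleton_iff] at h; exact h ▸ pt_mem _ _)⟩
        refine (Set.ncard_le_ncard h1 (Set.toFinite _)).trans ?_
        rw [Set.ncard_diff_singleton_of_mem hiu, hfix]
    have hC := card_cent_le hB (C := Q ⊓ fixingSubgroup G F) inf_le_right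
      (P.isPGroup'.to_le (inf_le_left.trans inf_le_left)) (y := u)
      (fun c hc => Subgroup.mem_centralizer_singleton_iff.1 hc.1.2) hx hxF
    rw [hr]
    exact (Nat.mul_le_mul (hC.trans hle2) hr2).trans le_rfl
  · refine ⟨P, u, v, v, huP, hu, hvP, hv, huv, hvP, hv, ?_⟩
    set Q := (P : Subgroup G) ⊓ Subgroup.centralizer {v}
    have hQM : Q ≤ stabilizer G F := fun q hq =>
      hB.centralizer_le hv hvK (Subgroup.mem_centralizer_singleton_iff.1 hq.2)
    obtain ⟨r, hr, hrd, a, ha⟩ := card_inf_dvd hT.card (inf_le_left : Q ≤ _) hQM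
    have hR : Nat.card (Q ⊓ fixingSubgroup G F : Subgroup G) ≤ 2 := by
      obtain ⟨b, hb⟩ := IsPGroup.iff_card.1 (P.isPGroup'.to_inf_left (K := fixingSubgroup G F))
      refine (Subgroup.card_le_of_le (inf_le_inf_right _ inf_le_left)).trans ?_
      exact two_pow_le_two hf3 hb (card_fix_dvd hB hPM hT.card)
    rw [hr]
    exact (Nat.mul_le_mul hR (two_pow_le_two hf3 ha hrd)).trans le_rfl

theorem eq_of_two_of_cyclic {X : Type*} [Group X] [Finite X] [IsCyclic X] {a b : X}
    (ha : orderOf a = 2) (hb : orderOf b = 2) : a = b := by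
  classical
  letI := Fintype.ofFinite X
  have h := IsCyclic.card_orderOf_eq_totient (α := X) (d := 2) (by
    rw [← Nat.card_eq_fintype_card, ← ha]; exact orderOf_dvd_natCard a)
  rw [Nat.totient_two] at h
  exact Finset.card_le_one.1 h.le a (by simp [ha]) b (by simp [hb])

/-- Involutions fixing at most three points. -/
theorem small_case_f (hS : Setting G Ω) (hT : Top G F f t) (hf3 : f ≤ 3) (S : Sylow 2 G) :
    (∃ H : Subgroup G, Cfsg.IsStronglyEmbedded H) ∨
    ((∃ n : ℕ, Nonempty ((S : Subgroup G) ≃* DihedralGroup n)) ∨ Cfsg.IsQuasiDihedral (S : Subgroup G)) := by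
  haveI := Fact.mk Nat.prime_two
  rw [or_iff_not_imp_left]
  intro hno
  obtain ⟨P, u, v, w, huP, hu, hvP, hv, huv, hwP, hw, hle⟩ := exists_small_involution hS hT hf3 hno
  set u' : (P : Subgroup G) := ⟨u, huP⟩
  set v' : (P : Subgroup G) := ⟨v, hvP⟩
  set w' : (P : Subgroup G) := ⟨w, hwP⟩
  set C := Subgroup.centralizer ({w'} : Set (P : Subgroup G)) with hC
  have hC4 : Nat.card C = 4 := by
    have hup : Nat.card C ≤ 4 := by
      refine le_trans ?_ hle
      refine Nat.card_le_card_of_injective (fun c : C => (⟨((c : (P : Subgroup G)) : G), c.1.2,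
        Subgroup.mem_centralizer_singleton_iff.2
          (congrArg Subtype.val (Subgroup.mem_centralizer_singleton_iff.1 c.2))⟩ :
          ((P : Subgroup G) ⊓ Subgroup.centralizer {w} : Subgroup G))) ?_
      intro c d h
      exact Subtype.ext (Subtype.ext (Subtype.mk.inj h))
    obtain ⟨m, hm⟩ := IsPGroup.iff_card.1 (P.isPGroup'.to_subgroup C)
    obtain ⟨a, ha, ha2, haw⟩ : ∃ a ∈ C, orderOf a = 2 ∧ a ≠ w' := by
      by_cases hwc : ∀ q : (P : Subgroup G), q * w' = w' * q
      · rcases ne_or_eq u' w' with h | h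
        · exact ⟨u', Subgroup.mem_centralizer_singleton_iff.2 (hwc _), (Subgroup.orderOf_mk u huP).trans hu, h⟩
        · exact ⟨v', Subgroup.mem_centralizer_singleton_iff.2 (hwc _), (Subgroup.orderOf_mk v hvP).trans hv,
            fun e => huv (congrArg Subtype.val (h.trans e.symm))⟩
      · haveI : Nontrivial (P : Subgroup G) := ⟨⟨u', v', fun e => huv (congrArg Subtype.val e)⟩⟩
        haveI := P.isPGroup'.center_nontrivial
        obtain ⟨⟨c, hc⟩, hc1⟩ := exists_ne (1 : Subgroup.center (P : Subgroup G))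
        obtain ⟨j, hj⟩ := exists_pow_order (p := 2) P.isPGroup' c.2 fun e => hc1 (Subtype.ext (Subtype.ext e))
        have hcj : c ^ j ∈ Subgroup.center (P : Subgroup G) := pow_mem hc j
        refine ⟨c ^ j, Subgroup.mem_centralizer_singleton_iff.2 (Subgroup.mem_center_iff.1 hcj w').symm,
          ?_, fun e => hwc fun q => ?_⟩
        · rw [← Subgroup.orderOf_coe]; exact hj
        · rw [← e]; exact Subgroup.mem_center_iff.1 hcj q
    have hw'o : orderOf w' = 2 := (Subgroup.orderOf_mk w hwP).trans hw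
    have hww : w' ∈ C := Subgroup.mem_centralizer_singleton_iff.2 rfl
    have hlt : 2 < Nat.card C := by
      refine (le_of_eq hw'o.symm).trans_lt ?_
      rw [← Nat.card_zpowers]
      refine (Subgroup.card_le_of_le (Subgroup.zpowers_le.2 hww)).lt_of_ne fun e => haw ?_
      have heq := Subgroup.eq_of_le_of_card_ge (Subgroup.zpowers_le.2 hww) e.ge
      have ha' : a ∈ Subgroup.zpowers w' := heq.symm ▸ ha
      exact eq_of_two_of_cyclic (X := Subgroup.zpowers w') (a := ⟨a, ha'⟩)
        (b := ⟨w', Subgroup.mem_zpowers w'⟩) ((Subgroup.orderOf_mk _ _).trans ha2)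
        ((Subgroup.orderOf_mk _ _).trans hw'o) |> congrArg Subtype.val
    rw [hm] at hup hlt ⊢
    have h1 : 1 < m := (Nat.pow_lt_pow_iff_right (by norm_num : 1 < 2)).1 (by simpa using hlt)
    have h2 : m ≤ 2 := (Nat.pow_le_pow_iff_right (by norm_num : 1 < 2)).1 (by simpa using hup)
    rw [show m = 2 by omega]
    norm_num
  have hw2 : w' * w' = 1 := Subtype.ext (sq_one hw)
  rcases Lie.FixityTwoSylow.dihedral_or_cyclic P.isPGroup' hw2 hC4 with h | ⟨hcyc, -⟩
  · have e := Sylow.equiv S P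
    rcases h with ⟨n, ⟨φ⟩⟩ | ⟨n, hn, hcard, x, y, hx, hy, hxy⟩
    · exact Or.inl ⟨n, ⟨e.trans φ⟩⟩
    · refine Or.inr ⟨n, hn, (Nat.card_congr e.toEquiv).trans hcard, e.symm x, e.symm y, ?_, ?_, ?_⟩
      · rw [MulEquiv.orderOf_eq, hx]
      · rw [MulEquiv.orderOf_eq, hy]
      · rw [← map_inv, ← map_mul, ← map_mul, hxy, map_pow]
  · exfalso
    haveI := hcyc
    exact huv (congrArg Subtype.val (eq_of_two_of_cyclic (a := u') (b := v')
      ((Subgroup.orderOf_mk _ _).trans hu) ((Subgroup.orderOf_mk _ _).trans hv)))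

end Cfsg.Agent.Perm.FixFour
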