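import Cfsg.Agent.Lib.Perm.FixFour.OddMain
import Cfsg.Agent.Lib.Perm.FixFour.SmallF
import Cfsg.Agent.Lib.Perm.FixFour.MoveCase
import Cfsg.Agent.Lib.Perm.FixFour.FixCase
import Cfsg.Agent.Lib.Perm.FixFour.FreeCase

/-!
Simple groups of fixity four: the cases.
-/

set_option autoImplicit false
set_option linter.unusedSectionVars false
set_option linter.style.haveILetI false

open MulAction
open scoped Pointwise commutatorElement

namespace Cfsg.Agent.Perm.FixFour

universe u v

variable {G : Type u} {Ω : Type v} [Group G] [Finite G] [MulAction G Ω] [Finite Ω]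

theorem big_of_simple (hs : IsSimpleGroup G) (hna : ¬ IsMulCommutative G) (hf : FaithfulSMul G Ω) :
    4 < Nat.card Ω := by
  classical
  haveI := hs
  haveI := hf
  by_contra hle
  obtain ⟨k, hk⟩ : ∃ k, k + Nat.card Ω = 4 := ⟨4 - Nat.card Ω, by omega⟩
  letI := Fintype.ofFinite Ω
  let e : Ω ⊕ Fin k ≃ Fin 4 := Fintype.equivFinOfCardEq (by
    rw [Fintype.card_sum, Fintype.card_fin, ← Nat.card_eq_fintype_card]; omega)
  let f : G →* P4.S4 := (e.permCongrHom.toMonoidHom).comp
    ((Equiv.Perm.sumCongrHom Ω (Fin k)).comp ((MulAction.toPermHom G Ω).prod 1))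
  have hinj : Function.Injective f := by
    intro a b h
    have h' : (MulAction.toPermHom G Ω a, (1 : Equiv.Perm (Fin k))) = (MulAction.toPermHom G Ω b, 1) :=
      Equiv.Perm.sumCongrHom_injective (e.permCongrHom.injective h)
    exact MulAction.toPerm_injective (congrArg Prod.fst h')
  have htriv : ∀ φ : G →* ℤˣ, ∀ g, φ g = 1 := fun φ g => by
    rcases φ.normal_ker.eq_bot_or_eq_top with h | h
    · refine absurd ⟨⟨fun a b => φ.ker_eq_bot_iff.1 h ?_⟩⟩ hna
      rw [map_mul, map_mul, mul_comm]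
    · exact MonoidHom.mem_ker.1 (h ▸ Subgroup.mem_top g)
  have hs1 : ∀ g, Equiv.Perm.sign (f g) = 1 := fun g => htriv ((Equiv.Perm.sign).comp f) g
  have htop : Subgroup.closure (commutatorSet G) = ⊤ := by
    rw [← commutator_eq_closure]
    rcases (inferInstance : (commutator G).Normal).eq_bot_or_eq_top with h | h
    · refine absurd ⟨⟨fun a b => ?_⟩⟩ hna
      have hm : ⁅a, b⁆ ∈ commutator G := Subgroup.commutator_mem_commutator (Subgroup.mem_top a) (Subgroup.mem_top b)
      rw [h, Subgroup.mem_bot, commutatorElement_eq_one_iff_mul_comm] at hm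
      exact hm
    · exact h
  have hcomm : ∀ x ∈ commutatorSet G, ∀ y ∈ commutatorSet G, x * y = y * x := by
    rintro _ ⟨a, b, rfl⟩ _ ⟨c, d, rfl⟩
    refine hinj ?_
    rw [map_mul, map_mul]
    have h1 : ∀ a b : G, (f ⁅a, b⁆) ^ 2 = 1 := fun a b => by
      rw [commutatorElement_def, map_mul, map_mul, map_mul, map_inv, map_inv]
      exact P4.comm_sq _ _ (hs1 a) (hs1 b)
    exact P4.sq_commute _ _ (hs1 _) (hs1 _) (h1 a b) (h1 c d)
  haveI := Subgroup.isMulCommutative_closure hcomm
  exact hna ⟨⟨fun a b => congrArg Subtype.val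
    (mul_comm' (⟨a, htop ▸ Subgroup.mem_top a⟩ : Subgroup.closure (commutatorSet G))
      ⟨b, htop ▸ Subgroup.mem_top b⟩)⟩⟩

/-- Involutions fixing four points: a strongly embedded subgroup or sectional rank at most four. -/
theorem four_case (hS : Setting G Ω) {F : Set Ω} {t : G} (hT : Top G F 4 t) :
    (∃ H : Subgroup G, Cfsg.IsStronglyEmbedded H) ∨ Cfsg.SectionalPRankLE 2 4 G := by
  rw [or_iff_not_imp_left]
  intro hno
  obtain ⟨P, u, v, -, huP, -, hu, huK, hvP, hv, hvK⟩ := hT.exists_setup hS hno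
  refine Bounded.sectional (P := P) ?_
  by_cases hPM : (P : Subgroup G) ≤ stabilizer G F
  · by_cases hfix : ∃ u ∈ (P : Subgroup G), orderOf u = 2 ∧ u ∉ fixingSubgroup G F ∧ (fixedBy Ω u).Nonempty
    · obtain ⟨w, hwP, hw, hwK, hwfix⟩ := hfix
      exact bounded_of_fix hS hT hPM hwP hw hwK hwfix
    · have hfree : Free P F t := ⟨hS, hT, hPM, fun x hx hx2 hxK hn => hfix ⟨x, hx, hx2, hxK, hn⟩⟩
      exact hfree.bounded hno huP hu hvP hv fun e => huK (e ▸ hvK)
  · exact bounded_of_move (hT.block hS) hT.card hPM hvP hv hvK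

end Cfsg.Agent.Perm.FixFour
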