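import Cfsg.Agent.Lib.Perm.FixFour.Frame

/-!
Odd point stabilisers: elements of order three and elements inverting them.
-/

set_option autoImplicit false
set_option linter.unusedSectionVars false
set_option linter.style.haveILetI false

open MulAction
open scoped Pointwise

namespace Cfsg.Agent.Perm.FixFour

open Cfsg.Agent.Fusion (SylIn cj mem_cj conj_mem_cj cj_eq_self cj_mono card_cj)

universe u v

variable {G : Type u} {Ω : Type v} [Group G] [Finite G] [MulAction G Ω] [Finite Ω]

/-- Point stabilisers have odd order. -/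
def OddStab (G : Type u) (Ω : Type v) [Group G] [MulAction G Ω] : Prop :=
  ∀ x : Ω, Odd (Nat.card (stabilizer G x))

theorem OddStab.odd_order (ho : OddStab G Ω) {g : G} {x : Ω} (h : g • x = x) : Odd (orderOf g) := by
  refine (ho x).of_dvd_nat ?_
  rw [← Subgroup.orderOf_mk g (mem_stabilizer_iff.2 h)]
  exact orderOf_dvd_natCard _

theorem OddStab.odd_of_fix (ho : OddStab G Ω) {F : Set Ω} (hne : F.Nonempty) {g : G}
    (h : g ∈ fixingSubgroup G F) : Odd (orderOf g) := by
  obtain ⟨x, hx⟩ := hne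
  exact ho.odd_order (mem_fix.1 h hx)

/-- An element of odd order does not invert an element of order three. -/
theorem not_invert {g z : G} (hg : Odd (orderOf g)) (hz : orderOf z = 3) : g * z * g⁻¹ ≠ z⁻¹ := by
  intro h
  have h2 : g * g * z * (g * g)⁻¹ = z := by
    calc g * g * z * (g * g)⁻¹ = g * (g * z * g⁻¹) * g⁻¹ := by group
      _ = g * z⁻¹ * g⁻¹ := by rw [h]
      _ = (g * z * g⁻¹)⁻¹ := by group
      _ = z := by rw [h, inv_inv]
  obtain ⟨j, hj⟩ := hg
  have hc : Commute (g * g) z := mul_inv_eq_iff_eq_mul.1 h2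
  have hg' : g = ((g * g) ^ j)⁻¹ := by
    rw [eq_inv_iff_mul_eq_one, ← pow_two, ← pow_mul, ← pow_succ', ← hj]
    exact pow_orderOf_eq_one g
  have hgz : g * z * g⁻¹ = z := by
    rw [hg', mul_inv_eq_iff_eq_mul]
    exact ((hc.pow_left j).inv_left).eq
  rw [hgz] at h
  have : z ^ 2 = 1 := by rw [pow_two]; exact mul_eq_one_iff_eq_inv.2 h
  have := orderOf_dvd_of_pow_eq_one this
  rw [hz] at this
  norm_num at this

theorem perm_fix_eq_one {k : ℕ} {F : Set Ω} (hk : F.ncard = k) (ho : OddStab G Ω) {g : stabilizer G F}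
    {i : Fin k} (hi : perm hk g i = i) (h2 : perm hk g ^ 2 = 1) : perm hk g = 1 := by
  have hfix : (g : G) • pt hk i = pt hk i := by rw [← pt_perm, hi]
  have hodd := ho.odd_order hfix
  have h1 : orderOf (perm hk g) ∣ orderOf (g : G) := by
    rw [Subgroup.orderOf_coe]
    exact orderOf_map_dvd _ g
  rcases (Nat.dvd_prime Nat.prime_two).1 (orderOf_dvd_of_pow_eq_one h2) with h | h
  · exact orderOf_eq_one_iff.1 h
  · exfalso
    rw [h] at h1
    exact Nat.not_even_iff_odd.2 hodd (even_iff_two_dvd.2 h1)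

/-- The odd power of an element which still inverts. -/
theorem exists_two_inverter {g z : G} (h : g * z * g⁻¹ = z⁻¹) :
    ∃ a m : ℕ, Odd m ∧ orderOf (g ^ m) = 2 ^ a ∧ g ^ m * z * (g ^ m)⁻¹ = z⁻¹ := by
  obtain ⟨a, m, hm, he⟩ := Nat.exists_eq_two_pow_mul_odd (orderOf_pos g).ne'
  refine ⟨a, m, hm, ?_, ?_⟩
  · rw [orderOf_pow_of_dvd hm.pos.ne' (Dvd.intro_left _ he.symm), he, Nat.mul_div_cancel _ hm.pos]
  · have h2 : Commute (g * g) z := by
      refine mul_inv_eq_iff_eq_mul.1 ?_
      calc g * g * z * (g * g)⁻¹ = g * (g * z * g⁻¹) * g⁻¹ := by group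
        _ = g * z⁻¹ * g⁻¹ := by rw [h]
        _ = (g * z * g⁻¹)⁻¹ := by group
        _ = z := by rw [h, inv_inv]
    obtain ⟨j, rfl⟩ := hm
    rw [pow_succ', pow_mul, pow_two]
    calc g * (g * g) ^ j * z * (g * (g * g) ^ j)⁻¹ = g * ((g * g) ^ j * z * ((g * g) ^ j)⁻¹) * g⁻¹ := by group
      _ = z⁻¹ := by rw [(h2.pow_left j).eq, mul_inv_cancel_right, h]

/-- An element of order three of the pointwise stabiliser, centralized by an element inducing a
three-cycle, is not inverted. -/
theorem no_inverter {F : Set Ω} (ho : OddStab G Ω) (hB : Block G 3 F) {k : ℕ} (hk : F.ncard = k)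
    (hk34 : k = 3 ∨ k = 4) {z : G} (hz : orderOf z = 3) (hzK : z ∈ fixingSubgroup G F) {c : stabilizer G F}
    (hcz : (c : G) * z = z * c) (hc3 : perm hk c ^ 3 = 1) (hc1 : perm hk c ≠ 1) (g : G) :
    g * z * g⁻¹ ≠ z⁻¹ := by
  intro hg
  obtain ⟨a, m, -, hord, hinv⟩ := exists_two_inverter hg
  set i := g ^ m with hi
  have hiM : i ∈ stabilizer G F := hB.mem_stab hz hzK (hinv ▸ inv_mem hzK)
  set s := perm hk ⟨i, hiM⟩ with hs
  have hs_ne : s ≠ 1 := fun h => not_invert (ho.odd_of_fix hB.ne ((perm_eq_one hk).1 h)) hz hinv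
  have hs2a : s ^ 2 ^ a = 1 := by
    rw [hs, ← map_pow, show (⟨i, hiM⟩ : stabilizer G F) ^ 2 ^ a = 1 from
      Subtype.ext (by rw [SubmonoidClass.coe_pow]; exact hord ▸ pow_orderOf_eq_one i), map_one]
  have hnofix : ∀ j, s j ≠ j := fun j hj => by
    have hfix : i • pt hk j = pt hk j := by
      have := pt_perm hk ⟨i, hiM⟩ j
      rw [← hs, hj] at this
      exact this.symm
    have hodd := ho.odd_order hfix
    rw [hord] at hodd
    have ha : a = 0 := by
      by_contra hne
      exact Nat.not_even_iff_odd.2 hodd ((Nat.even_pow' hne).2 even_two)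
    rw [ha, pow_zero, pow_one] at hs2a
    exact hs_ne hs2a
  have hfac : s ^ k.factorial = 1 := by
    refine orderOf_dvd_iff_pow_eq_one.1 ?_
    have := orderOf_dvd_natCard (G := Equiv.Perm (Fin k)) s
    rwa [Nat.card_perm, Nat.card_fin] at this
  rcases hk34 with rfl | rfl
  · have h2 : s ^ 2 = 1 := by
      refine orderOf_dvd_iff_pow_eq_one.1 ?_
      obtain ⟨b, -, hb⟩ := (Nat.dvd_prime_pow Nat.prime_two).1 (orderOf_dvd_of_pow_eq_one hs2a)
      have h6 : orderOf s ∣ 6 := orderOf_dvd_of_pow_eq_one hfac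
      rw [hb] at h6 ⊢
      refine pow_dvd_pow 2 (show b ≤ 1 from ?_) |>.trans (by norm_num)
      by_contra hb'
      exact absurd ((pow_dvd_pow 2 (show 2 ≤ b by omega)).trans h6) (by norm_num)
    obtain ⟨j, hj⟩ := P4.three_two s h2
    exact hnofix j hj
  · have h4 : s ^ 4 = 1 := by
      refine orderOf_dvd_iff_pow_eq_one.1 ?_
      have h24 : orderOf s ∣ 24 := orderOf_dvd_of_pow_eq_one hfac
      obtain ⟨b, -, hb⟩ := (Nat.dvd_prime_pow Nat.prime_two).1 (orderOf_dvd_of_pow_eq_one hs2a)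
      rw [hb] at h24 ⊢
      refine pow_dvd_pow 2 (show b ≤ 2 from ?_) |>.trans (by norm_num)
      by_contra hb'
      have hb3 : b = 3 := by
        by_contra hb3
        exact absurd ((pow_dvd_pow 2 (show 4 ≤ b by omega)).trans h24) (by norm_num)
      subst hb3
      have : ∀ σ : Equiv.Perm (Fin 4), σ ^ 8 = 1 → σ ^ 4 = 1 := by decide +kernel
      have h := orderOf_dvd_of_pow_eq_one (this s (by rw [← pow_orderOf_eq_one s, hb]; norm_num))
      rw [hb] at h
      norm_num at h
    by_cases h2 : s ^ 2 = 1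
    · have hsign := P4.four_two_fixed s h2 hs_ne hnofix
      have hcs : (perm hk c * s) ^ 3 = 1 := P4.even_mul s (perm hk c) hsign h2 hc3 hc1
      set u : stabilizer G F := c * ⟨i, hiM⟩ with hu
      have huz : (u : G) * z * (u : G)⁻¹ = z⁻¹ := by
        calc (u : G) * z * (u : G)⁻¹ = c * (i * z * i⁻¹) * (c : G)⁻¹ := by simp [hu]; group
          _ = (c : G) * z⁻¹ * (c : G)⁻¹ := by rw [hinv]
          _ = ((c : G) * z * (c : G)⁻¹)⁻¹ := by group
          _ = z⁻¹ := by rw [hcz, mul_inv_cancel_right]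
      have hu2 : Commute ((u : G) * u) z := by
        refine mul_inv_eq_iff_eq_mul.1 ?_
        calc (u : G) * u * z * ((u : G) * u)⁻¹ = u * (u * z * (u : G)⁻¹) * (u : G)⁻¹ := by group
          _ = (u : G) * z⁻¹ * (u : G)⁻¹ := by rw [huz]
          _ = ((u : G) * z * (u : G)⁻¹)⁻¹ := by group
          _ = z := by rw [huz, inv_inv]
      set h : stabilizer G F := c⁻¹ * u ^ 4 with hh
      have hhz : Commute (h : G) z := by
        have h1 : Commute ((c : G)⁻¹) z := (show Commute (c : G) z from hcz).inv_left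
        have h3 : Commute ((u : G) ^ 4) z := by
          rw [show (u : G) ^ 4 = ((u : G) * u) ^ 2 by rw [← pow_two, ← pow_mul]]
          exact hu2.pow_left 2
        simpa [hh] using h1.mul_left h3
      have hhp : perm hk h = s := by
        rw [hh, map_mul, map_inv, map_pow, hu, map_mul, ← hs, pow_succ, hcs, one_mul, inv_mul_cancel_left]
      have hK : (h : G)⁻¹ * i ∈ fixingSubgroup G F := (perm_eq hk (g := h) (h := ⟨i, hiM⟩)).1 (hhp.trans hs)
      refine not_invert (ho.odd_of_fix hB.ne hK) hz ?_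
      calc (h : G)⁻¹ * i * z * ((h : G)⁻¹ * i)⁻¹ = (h : G)⁻¹ * (i * z * i⁻¹) * h := by group
        _ = (h : G)⁻¹ * z⁻¹ * h := by rw [hinv]
        _ = ((h : G)⁻¹ * z * h)⁻¹ := by group
        _ = z⁻¹ := by rw [hhz.inv_left.eq, inv_mul_cancel_right]
    · obtain ⟨w, hw, hw2, hw1, j, hj⟩ := P4.four_cycle (perm hk c) s hc3 hc1 h4 h2
      have hmem : w ∈ (perm (G := G) hk).range := by
        have hc' : perm hk c ∈ (perm (G := G) hk).range := ⟨c, rfl⟩
        have hs' : s ∈ (perm (G := G) hk).range := ⟨_, hs.symm⟩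
        simp only [List.mem_cons, List.not_mem_nil, or_false] at hw
        rcases hw with rfl | rfl | rfl | rfl | rfl | rfl <;>
          first
            | exact mul_mem hs' hc'
            | exact mul_mem hs' (pow_mem hc' 2)
            | exact mul_mem (mul_mem hs' hc') hs'
            | exact mul_mem (mul_mem (mul_mem hs' hs') hc') hs'
            | exact mul_mem (mul_mem hc' hs') hc'
            | exact mul_mem (mul_mem (pow_mem hc' 2) hs') (pow_mem hc' 2)
      obtain ⟨e, rfl⟩ := hmem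
      exact hw1 (perm_fix_eq_one hk ho hj hw2)

/-- Conjugation inside the stabiliser does not invert a three-cycle. -/
theorem not_invert_perm {F : Set Ω} (ho : OddStab G Ω) {k : ℕ} (hk : F.ncard = k) (hk34 : k = 3 ∨ k = 4)
    {c e : stabilizer G F} (hc3 : perm hk c ^ 3 = 1) (hc1 : perm hk c ≠ 1) :
    perm hk e * perm hk c * (perm hk e)⁻¹ ≠ (perm hk c)⁻¹ := by
  intro h
  rcases hk34 with rfl | rfl
  · obtain ⟨h2, h1, j, hj⟩ := P4.three_invert _ _ hc3 hc1 h
    exact h1 (perm_fix_eq_one hk ho hj h2)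
  · obtain ⟨h2, h1, j, hj⟩ := P4.invert_fixes _ _ hc3 hc1 h
    exact h1 (perm_fix_eq_one hk ho hj h2)

/-- A group fixing a block pointwise acts freely on the fixed points, off the block, of an element commuting
with it. -/
theorem card_cent_le {p : ℕ} [Fact p.Prime] {F : Set Ω} (hB : Block G p F) {C : Subgroup G}
    (hC : C ≤ fixingSubgroup G F) (hCp : IsPGroup p C) {y : G} (hy : ∀ c ∈ C, c * y = y * c) {x : Ω}
    (hx : x ∈ fixedBy Ω y) (hxF : x ∉ F) : Nat.card C ≤ (fixedBy Ω y \ F).ncard := by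
  rw [← Nat.card_coe_set_eq]
  refine Nat.card_le_card_of_injective (fun c => (⟨(c : G) • x, ?_, ?_⟩ : ↥(fixedBy Ω y \ F))) ?_
  · exact smul_mem_block (commute_stab (hy c c.2)) hx
  · intro h
    have := smul_mem_block (inv_mem (fix_le_stab (hC c.2))) h
    rw [inv_smul_smul] at this
    exact hxF this
  · intro c d hcd
    have hcd' : (c : G) • x = (d : G) • x := congrArg Subtype.val hcd
    by_contra hne
    have hmem : ((d⁻¹ * c : C) : G) • x = x := by
      rw [Subgroup.coe_mul, Subgroup.coe_inv, mul_smul, hcd', inv_smul_smul]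
    obtain ⟨j, hj⟩ := exists_pow_order hCp (d⁻¹ * c).2
      fun h => hne (inv_mul_eq_one.1 (Subtype.ext h : (d⁻¹ * c : C) = 1)).symm
    refine hxF ?_
    rw [← hB.sharp _ hj (pow_mem (hC (d⁻¹ * c).2) j)]
    exact mem_stabilizer_iff.1 (pow_mem (mem_stabilizer_iff.2 hmem) j)

end Cfsg.Agent.Perm.FixFour
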