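import Cfsg.Agent.Lib.Perm.FixFour.OddProper
import Cfsg.Agent.Lib.Solv.KegelProduct

/-!
Odd point stabilisers: a strongly 3-embedded subgroup, or an elementary Sylow 3-subgroup of order nine.
-/

set_option autoImplicit false
set_option linter.unusedSectionVars false
set_option linter.style.haveILetI false

open MulAction
open scoped Pointwise

namespace Cfsg.Agent.Perm.FixFour

open Cfsg.Agent.Fusion (SylIn cj mem_cj conj_mem_cj cj_eq_self cj_mono card_cj isPGroup_cj)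

universe u v

variable {G : Type u} {Ω : Type v} [Group G] [Finite G] [MulAction G Ω] [Finite Ω] {F : Set Ω}

theorem mem_three {z x : G} (hz : orderOf z = 3) (hx : x ∈ Subgroup.zpowers z) :
    x = 1 ∨ x = z ∨ x = z ^ 2 := by
  classical
  have := (mem_zpowers_iff_mem_range_orderOf (x := z)).1 hx
  rw [hz] at this
  simp only [Finset.mem_image, Finset.mem_range] at this
  obtain ⟨i, hi, rfl⟩ := this
  interval_cases i <;> simp

theorem mem_zpowers_three {z r : G} (hz : orderOf z = 3) (hr : r ∈ Subgroup.zpowers z) (hr1 : r ≠ 1) :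
    z ∈ Subgroup.zpowers r := by
  rcases mem_three hz hr with h | h | h
  · exact absurd h hr1
  · exact h ▸ Subgroup.mem_zpowers r
  · refine ⟨2, ?_⟩
    change r ^ (2 : ℤ) = z
    rw [show (2 : ℤ) = ((2 : ℕ) : ℤ) from rfl, zpow_natCast, h, ← pow_mul,
      show 2 * 2 = orderOf z + 1 by rw [hz], pow_succ, pow_orderOf_eq_one, one_mul]

/-- An element whose centralizer in the kernel is small is sheared by some element of the Sylow subgroup. -/
theorem exists_shear {P : Sylow 3 G} {A : Type*} [CommGroup A] [Finite A] (hA : Nat.card A = 3)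
    (ψ : ↥(P : Subgroup G) →* A)
    (hψ : ∀ a b : (P : Subgroup G), ψ a = ψ b ↔ (a : G)⁻¹ * b ∈ fixingSubgroup G F)
    {y z : G} (hy : y ∈ (P : Subgroup G)) (hz : orderOf z = 3)
    (hzc : ∀ q ∈ (P : Subgroup G), q * z = z * q)
    (hC : ∀ r ∈ (P : Subgroup G), r ∈ fixingSubgroup G F → r * y = y * r → r ∈ Subgroup.zpowers z)
    (hbig : 9 < Nat.card (P : Subgroup G)) :
    ∃ w ∈ (P : Subgroup G), w * y * w⁻¹ = y * z := by
  have hp3 : Fact (Nat.Prime 3) := ⟨Nat.prime_three⟩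
  set T := (P : Subgroup G) ⊓ Subgroup.centralizer ({y} : Set G) with hT
  let φ : T →* A := ψ.comp (Subgroup.inclusion inf_le_left)
  have hker : Nat.card φ.ker ≤ 3 := by
    rw [← hz, ← Nat.card_zpowers]
    refine Nat.card_le_card_of_injective (fun r : φ.ker => (⟨((r : T) : G), hC _ r.1.2.1 ?_
      (Subgroup.mem_centralizer_singleton_iff.1 r.1.2.2)⟩ : Subgroup.zpowers z)) ?_
    · have h : ψ (Subgroup.inclusion inf_le_left r.1) = ψ 1 :=
        (MonoidHom.mem_ker.1 r.2).trans (map_one ψ).symm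
      have h' := (hψ 1 _).1 h.symm
      simpa using h'
    · intro r s h
      exact Subtype.ext (Subtype.ext (Subtype.mk.inj h))
  have hT9 : Nat.card T ≤ 9 := by
    rw [← φ.ker.card_mul_index, Subgroup.index_ker]
    have h := Subgroup.card_le_card_group φ.range
    rw [hA] at h
    calc _ ≤ 3 * 3 := Nat.mul_le_mul hker h
      _ = 9 := by norm_num
  obtain ⟨w, hw, hwT⟩ := SetLike.exists_of_lt (SylIn.normalizer_growth (p := 3) (T := T) inf_le_left
    (fun h => absurd hbig (not_lt.2 ((congrArg (fun X : Subgroup G => Nat.card X) h).symm.le.trans hT9)))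
    P.isPGroup')
  have hyT : y ∈ T := ⟨hy, Subgroup.mem_centralizer_singleton_iff.2 rfl⟩
  have hwy : w * y * w⁻¹ ∈ T := (Subgroup.mem_normalizer_iff.1 hw.2 y).1 hyT
  have hj : y⁻¹ * (w * y * w⁻¹) ∈ Subgroup.zpowers z := by
    refine hC _ (mul_mem (inv_mem hy) hwy.1) ?_ ?_
    · refine (hψ ⟨y, hy⟩ ⟨w * y * w⁻¹, hwy.1⟩).1 ?_
      have h : (⟨w * y * w⁻¹, hwy.1⟩ : (P : Subgroup G)) = ⟨w, hw.1⟩ * ⟨y, hy⟩ * ⟨w, hw.1⟩⁻¹ :=
        Subtype.ext rfl
      rw [h, map_mul, map_mul, map_inv, mul_comm (ψ _) (ψ _), mul_inv_cancel_right]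
    · have h := Subgroup.mem_centralizer_singleton_iff.1 hwy.2
      calc y⁻¹ * (w * y * w⁻¹) * y = y⁻¹ * ((w * y * w⁻¹) * y) := by group
        _ = y * (y⁻¹ * (w * y * w⁻¹)) := by rw [h]; group
  have hwz : w * z * w⁻¹ = z := by rw [hzc w hw.1, mul_inv_cancel_right]
  rcases mem_three hz hj with h | h | h
  · exfalso
    refine hwT ⟨hw.1, Subgroup.mem_centralizer_singleton_iff.2 ?_⟩
    rw [inv_mul_eq_one] at h
    exact (mul_inv_eq_iff_eq_mul.1 h.symm)
  · exact ⟨w, hw.1, by rw [← h]; group⟩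
  · have h' : w * y * w⁻¹ = y * z ^ 2 := by rw [← h]; group
    refine ⟨w * w, mul_mem hw.1 hw.1, ?_⟩
    calc w * w * y * (w * w)⁻¹ = w * (w * y * w⁻¹) * w⁻¹ := by group
      _ = (w * y * w⁻¹) * (w * z * w⁻¹) ^ 2 := by nth_rw 1 [h']; rw [conj_pow]; group
      _ = y * z * z ^ 3 := by rw [h', hwz]; group
      _ = y * z := by rw [← hz, pow_orderOf_eq_one, mul_one]

theorem nine_of_sylow_le (hS : Setting G Ω) (ho : OddStab G Ω) (hB : Block G 3 F) {k : ℕ} (hk : F.ncard = k)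
    (hk34 : k = 3 ∨ k = 4) {P : Sylow 3 G} (hPM : (P : Subgroup G) ≤ stabilizer G F) {y : G}
    (hyP : y ∈ (P : Subgroup G)) (hy : orderOf y = 3) (hyK : y ∉ fixingSubgroup G F) {t : G}
    (htP : t ∈ (P : Subgroup G)) (ht : orderOf t = 3) (htK : t ∈ fixingSubgroup G F) :
    Nat.card P = 9 ∧ ∀ x ∈ (P : Subgroup G), x ^ 3 = 1 := by
  classical
  have hp3 : Fact (Nat.Prime 3) := ⟨Nat.prime_three⟩
  let f : (P : Subgroup G) →* Equiv.Perm (Fin k) := (perm hk).comp (Subgroup.inclusion hPM)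
  have hf : ∀ a b : (P : Subgroup G), f a = f b ↔ (a : G)⁻¹ * b ∈ fixingSubgroup G F := fun a b =>
    perm_eq hk
  have hy1 : f ⟨y, hyP⟩ ≠ 1 := fun h => hyK ((perm_eq_one hk).1 h)
  have hcard : Nat.card f.range = 3 := by
    obtain ⟨a, ha⟩ := IsPGroup.iff_card.1 (P.isPGroup'.of_surjective f.rangeRestrict f.rangeRestrict_surjective)
    have hd : 3 ^ a ∣ 24 := by
      rw [← ha]
      refine (Subgroup.card_subgroup_dvd_card f.range).trans ?_
      rw [Nat.card_perm, Nat.card_fin]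
      rcases hk34 with rfl | rfl <;> decide
    rw [ha]
    rcases a with _ | _ | a
    · exfalso
      rw [pow_zero] at ha
      exact hy1 ((Subgroup.eq_bot_iff_forall _).1 (Subgroup.card_eq_one.1 ha) _ ⟨_, rfl⟩)
    · rfl
    · exact absurd ((pow_dvd_pow 3 (show 2 ≤ a + 2 by omega)).trans hd) (by norm_num)
  haveI : IsCyclic f.range := isCyclic_of_prime_card hcard
  letI : CommGroup f.range := IsCyclic.commGroup
  let ψ : (P : Subgroup G) →* f.range := f.rangeRestrict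
  have hψ : ∀ a b : (P : Subgroup G), ψ a = ψ b ↔ (a : G)⁻¹ * b ∈ fixingSubgroup G F := fun a b =>
    Subtype.ext_iff.trans (hf a b)
  have hψy : ψ ⟨y, hyP⟩ ≠ 1 := fun h => hy1 (congrArg Subtype.val h)
  have hy3 : y ^ 3 = 1 := hy ▸ pow_orderOf_eq_one y
  -- inside the stabiliser conjugates keep their image
  have hinM : ∀ (g : G) (hg : g⁻¹ * y * g ∈ (P : Subgroup G)), g ∈ stabilizer G F →
      ψ ⟨g⁻¹ * y * g, hg⟩ = ψ ⟨y, hyP⟩ := by
    intro g hg hgM
    set c : stabilizer G F := ⟨y, hPM hyP⟩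
    set e : stabilizer G F := ⟨g⁻¹, inv_mem hgM⟩
    have hfe : f ⟨g⁻¹ * y * g, hg⟩ = perm hk e * perm hk c * (perm hk e)⁻¹ := by
      rw [← map_inv, ← map_mul, ← map_mul]
      exact congrArg (perm hk) (Subtype.ext (by simp [c, e]))
    have hc3 : perm hk c ^ 3 = 1 := by
      rw [← map_pow, show c ^ 3 = 1 from Subtype.ext hy3, map_one]
    have hc1 : perm hk c ≠ 1 := hy1
    have hmem : ψ ⟨g⁻¹ * y * g, hg⟩ ∈ Subgroup.zpowers (ψ ⟨y, hyP⟩) := mem_zpowers_of_prime_card hcard hψy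
    have ho3 : orderOf (ψ ⟨y, hyP⟩) = 3 := by
      refine orderOf_eq_prime ?_ hψy
      rw [← map_pow, show (⟨y, hyP⟩ : (P : Subgroup G)) ^ 3 = 1 from Subtype.ext hy3, map_one]
    rcases mem_three ho3 hmem with h | h | h
    · exfalso
      have h' : f ⟨g⁻¹ * y * g, hg⟩ = 1 := congrArg Subtype.val h
      rw [hfe, mul_inv_eq_one, mul_eq_left] at h'
      exact hc1 h'
    · exact h
    · exfalso
      refine not_invert_perm ho hk hk34 (c := c) (e := e) hc3 hc1 ?_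
      rw [← hfe, eq_inv_iff_mul_eq_one, ← hc3, pow_succ]
      exact congrArg (· * perm hk c) (congrArg Subtype.val h)
  -- a central element of order three in the kernel
  set R := ((P : Subgroup G) ⊓ fixingSubgroup G F).subgroupOf (P : Subgroup G) with hR
  haveI : R.Normal := ⟨fun r hr q => by
    rw [hR, Subgroup.mem_subgroupOf] at hr ⊢
    exact ⟨(q * r * q⁻¹).2, fix_conj_stab (hPM q.2) hr.2⟩⟩
  have ht1 : t ≠ 1 := fun e => by rw [e, orderOf_one] at ht; exact absurd ht (by norm_num)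
  have hR1 : R ≠ ⊥ := fun h => ht1 (congrArg Subtype.val
    ((Subgroup.eq_bot_iff_forall _).1 h ⟨t, htP⟩ ⟨htP, htK⟩))
  obtain ⟨z, hzP, hzK, hz, hzc⟩ : ∃ z ∈ (P : Subgroup G), z ∈ fixingSubgroup G F ∧ orderOf z = 3 ∧
      ∀ q ∈ (P : Subgroup G), q * z = z * q := by
    obtain ⟨c, hcR, hc1, hcC⟩ := Solv.Fct.normal_inf_center' P.isPGroup' R hR1
    obtain ⟨j, hj⟩ := exists_pow_order (p := 3) P.isPGroup' c.2 fun e => hc1 (Subtype.ext e)
    rw [hR, Subgroup.mem_subgroupOf] at hcR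
    refine ⟨_, pow_mem c.2 j, pow_mem hcR.2 j, hj, fun q hq => ?_⟩
    exact congrArg Subtype.val (((show Commute (⟨q, hq⟩ : (P : Subgroup G)) c from hcC _).pow_right j).eq)
  have hz1 : z ≠ 1 := fun e => by rw [e, orderOf_one] at hz; exact absurd hz (by norm_num)
  set T := (P : Subgroup G) ⊓ Subgroup.centralizer ({y} : Set G) with hT
  have hT_p : IsPGroup 3 T := P.isPGroup'.to_inf_left
  have hyT : y ∈ T := ⟨hyP, Subgroup.mem_centralizer_singleton_iff.2 rfl⟩
  have htransfer : ¬ ∀ g : G, (∀ s ∈ T, g⁻¹ * s * g ∈ (P : Subgroup G)) → g ∈ stabilizer G F := fun h =>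
    hψy (hS.transfer_eq_one ψ hy hyP T hT_p hyT
      (fun s hs => Subgroup.mem_centralizer_singleton_iff.1 hs.2) fun g hg hgT => hinM g hg (h g hgT))
  by_cases hC : ∀ r ∈ (P : Subgroup G), r ∈ fixingSubgroup G F → r * y = y * r → r ∈ Subgroup.zpowers z
  swap
  · exfalso
    push Not at hC
    obtain ⟨r, hrP, hrK, hry, hrz⟩ := hC
    refine htransfer fun g hg => ?_
    set D := T ⊓ fixingSubgroup G F with hD
    have h9 : 9 ≤ Nat.card D := nine_le_card (x := z) (z := r) hT_p.to_inf_left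
      ⟨⟨hzP, Subgroup.mem_centralizer_singleton_iff.2 (hzc y hyP).symm⟩, hzK⟩
      ⟨⟨hrP, Subgroup.mem_centralizer_singleton_iff.2 hry⟩, hrK⟩ hz1 hrz
    obtain ⟨c, d, hcd, hne⟩ : ∃ c d : D, ψ ⟨g⁻¹ * c * g, hg c c.2.1⟩ = ψ ⟨g⁻¹ * d * g, hg d d.2.1⟩ ∧ c ≠ d := by
      by_contra h
      push Not at h
      have := Nat.card_le_card_of_injective (fun c : D => ψ ⟨g⁻¹ * c * g, hg c c.2.1⟩) fun c d e => h c d e
      rw [hcard] at this
      omega
    have hK : g⁻¹ * ((c : G)⁻¹ * d) * g ∈ fixingSubgroup G F := by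
      have := (hψ _ _).1 hcd
      rwa [show (g⁻¹ * (c : G) * g)⁻¹ * (g⁻¹ * d * g) = g⁻¹ * ((c : G)⁻¹ * d) * g by group] at this
    rw [← inv_mem_iff]
    refine hB.mem_stab_of_ne hT_p (mul_mem (inv_mem c.2.1) d.2.1)
      (fun e => hne (Subtype.ext (inv_mul_eq_one.1 e))) (mul_mem (inv_mem c.2.2) d.2.2) ?_
    rwa [inv_inv]
  by_cases hbig : 9 < Nat.card (P : Subgroup G)
  · exfalso
    refine htransfer fun g hg => ?_
    by_contra hgM
    set z' := g⁻¹ * z * g with hz'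
    have hzT : z ∈ T := ⟨hzP, Subgroup.mem_centralizer_singleton_iff.2 (hzc y hyP).symm⟩
    have hz'P : z' ∈ (P : Subgroup G) := hg z hzT
    have hz'K : z' ∉ fixingSubgroup G F := fun h => hgM (by
      rw [← inv_mem_iff]
      refine hB.mem_stab hz hzK ?_
      rwa [inv_inv])
    have hfixz : fixedBy Ω z = F := hB.sharp z hz hzK
    have hfix : fixedBy Ω z' = g⁻¹ • F := by rw [hz', fixedBy_conj', hfixz]
    obtain ⟨x, hx, hxF⟩ : ∃ x ∈ fixedBy Ω z', x ∉ F := by
      refine Set.not_subset.1 fun hsub => hz'K (mem_fix.2 ?_)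
      rw [Set.eq_of_subset_of_ncard_le hsub (by rw [hfix, Set.ncard_smul_set])]
    have hC' : ∀ r ∈ (P : Subgroup G), r ∈ fixingSubgroup G F → r * z' = z' * r → r ∈ Subgroup.zpowers z := by
      intro r hrP hrK hrz
      by_contra hn
      set C' := ((P : Subgroup G) ⊓ fixingSubgroup G F) ⊓ Subgroup.centralizer ({z'} : Set G)
      have hC'p : IsPGroup 3 C' := P.isPGroup'.to_inf_left.to_inf_left
      have h9 : 9 ≤ Nat.card C' := nine_le_card (x := z) (z := r) hC'p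
        ⟨⟨hzP, hzK⟩, Subgroup.mem_centralizer_singleton_iff.2 (hzc z' hz'P).symm⟩
        ⟨⟨hrP, hrK⟩, Subgroup.mem_centralizer_singleton_iff.2 hrz⟩ hz1 hn
      have hle := card_cent_le hB (C := C') (inf_le_left.trans inf_le_right) hC'p (y := z')
        (fun c hc => Subgroup.mem_centralizer_singleton_iff.1 hc.2) hx hxF
      have h4 : (fixedBy Ω z' \ F).ncard ≤ 4 := by
        refine (Set.ncard_le_ncard Set.sdiff_subset (Set.toFinite _)).trans ?_
        rw [hfix, Set.ncard_smul_set]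
        exact hB.le
      omega
    -- the conjugate of `z` lies in `T`
    set q := g * z * g⁻¹ with hq
    have hψz' : ψ ⟨z', hz'P⟩ ≠ 1 := fun h => hz'K ((perm_eq_one hk).1 (congrArg Subtype.val h))
    obtain ⟨a, ha⟩ := mem_zpowers_of_prime_card hcard hψz' (g' := ψ ⟨g⁻¹ * y * g, hg y hyT⟩)
    have hyz : y * z = z * y := hzc y hyP
    have hz'y : Commute z' (g⁻¹ * y * g) := by
      change g⁻¹ * z * g * (g⁻¹ * y * g) = g⁻¹ * y * g * (g⁻¹ * z * g)
      calc g⁻¹ * z * g * (g⁻¹ * y * g) = g⁻¹ * (z * y) * g := by group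
        _ = _ := by rw [← hyz]; group
    have hr : (z' ^ a)⁻¹ * (g⁻¹ * y * g) ∈ Subgroup.zpowers z := by
      refine hC' _ (mul_mem (inv_mem (zpow_mem hz'P a)) (hg y hyT)) ?_ ?_
      · refine (hψ ⟨z' ^ a, zpow_mem hz'P a⟩ ⟨g⁻¹ * y * g, hg y hyT⟩).1 ?_
        rw [← ha]
        exact map_zpow ψ ⟨z', hz'P⟩ a
      · exact ((((Commute.refl z').zpow_left a).inv_left).mul_left hz'y.symm).eq
    set r := (z' ^ a)⁻¹ * (g⁻¹ * y * g) with hrdef
    have hgz : g * z' * g⁻¹ = z := by rw [hz']; group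
    have hgr : g * r * g⁻¹ = (z ^ a)⁻¹ * y := by
      rw [hrdef, ← hgz, conj_zpow]
      group
    have hr1 : r ≠ 1 := fun e => hyK (by
      rw [e, mul_one, mul_inv_cancel] at hgr
      rw [← inv_mul_eq_one.1 hgr.symm]
      exact zpow_mem hzK a)
    obtain ⟨m, hm⟩ := mem_zpowers_three hz hr hr1
    have hqe : q = ((z ^ a)⁻¹ * y) ^ m := by
      rw [hq, ← hgr, conj_zpow]
      exact congrArg (fun e => g * e * g⁻¹) hm.symm
    have hqT : q ∈ T := hqe ▸ zpow_mem (mul_mem (inv_mem (zpow_mem hzT a)) hyT) m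
    have hqK : q ∉ fixingSubgroup G F := fun h => hgM (hB.mem_stab hz hzK h)
    have hqz : q * z = z * q := hzc q hqT.1
    -- an element centralizing `q` centralizes `y`
    have hCq : ∀ c ∈ (P : Subgroup G), c ∈ fixingSubgroup G F → c * q = q * c → c ∈ Subgroup.zpowers z := by
      intro c hcP hcK hcq
      refine hC c hcP hcK ?_
      obtain ⟨n, hn⟩ := hr
      have hyq : y = z ^ a * q ^ n := by
        have h : g * r * g⁻¹ = q ^ n := by rw [hq, conj_zpow]; exact congrArg (fun e => g * e * g⁻¹) hn.symm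
        rw [← h, hgr, mul_inv_cancel_left]
      rw [hyq]
      exact (((show Commute c z from hzc c hcP).zpow_right a).mul_right
        ((show Commute c q from hcq).zpow_right n)).eq
    obtain ⟨w, hwP, hw⟩ := exists_shear hcard ψ hψ hqT.1 hz hzc hCq hbig
    obtain ⟨w', hw'P, hw'⟩ := exists_shear hcard ψ hψ hz'P hz hzc hC' hbig
    set v := g * w' * g⁻¹ with hv
    have hvz : v * z * v⁻¹ = z * q := by
      calc v * z * v⁻¹ = g * (w' * z' * w'⁻¹) * g⁻¹ := by rw [hv, hz']; group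
        _ = _ := by rw [hw', hq, hz']; group
    have hvq : v * q * v⁻¹ = q := by
      calc v * q * v⁻¹ = g * (w' * z * w'⁻¹) * g⁻¹ := by rw [hv, hq]; group
        _ = _ := by rw [hzc w' hw'P, mul_inv_cancel_right]
    have hvz' : v⁻¹ * z * v = z * q⁻¹ := by
      calc v⁻¹ * z * v = v⁻¹ * ((v * z * v⁻¹) * (v * q * v⁻¹)⁻¹) * v := by rw [hvz, hvq]; group
        _ = _ := by group
    have hvq' : v⁻¹ * q * v = q := by
      calc v⁻¹ * q * v = v⁻¹ * (v * q * v⁻¹) * v := by rw [hvq]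
        _ = q := by group
    have hwz : w * z * w⁻¹ = z := by rw [hzc w hwP, mul_inv_cancel_right]
    set u := w * v⁻¹ with hu
    have huz : u * z * u⁻¹ = q⁻¹ := by
      calc u * z * u⁻¹ = w * (v⁻¹ * z * v) * w⁻¹ := by rw [hu]; group
        _ = (w * z * w⁻¹) * (w * q * w⁻¹)⁻¹ := by rw [hvz']; group
        _ = q⁻¹ := by rw [hwz, hw]; group
    have huq : u * q * u⁻¹ = q * z := by
      calc u * q * u⁻¹ = w * (v⁻¹ * q * v) * w⁻¹ := by rw [hu]; group
        _ = _ := by rw [hvq', hw]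
    refine no_inverter ho hB hk hk34 hz hzK (c := ⟨y, hPM hyP⟩) hyz ?_ hy1 (u * u * u) ?_
    · rw [← map_pow, show (⟨y, hPM hyP⟩ : stabilizer G F) ^ 3 = 1 from Subtype.ext hy3, map_one]
    · calc u * u * u * z * (u * u * u)⁻¹ = u * (u * (u * z * u⁻¹) * u⁻¹) * u⁻¹ := by group
        _ = u * (u * q * u⁻¹)⁻¹ * u⁻¹ := by rw [huz]; group
        _ = (u * (q * z) * u⁻¹)⁻¹ := by rw [huq]; group
        _ = ((u * q * u⁻¹) * (u * z * u⁻¹))⁻¹ := by group
        _ = z⁻¹ := by rw [huq, huz, hqz, mul_inv_cancel_right]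
  · have hle := not_lt.1 hbig
    have h9 : 9 ≤ Nat.card (P : Subgroup G) := nine_le_card (x := z) (z := y) P.isPGroup' hzP hyP hz1
      fun h => hyK (Subgroup.zpowers_le.2 hzK h)
    have hP9 : Nat.card (P : Subgroup G) = 9 := le_antisymm hle h9
    refine ⟨hP9, fun x hx => ?_⟩
    have hcomm := IsPGroup.isMulCommutative_of_card_eq_prime_sq (p := 3) (show Nat.card (P : Subgroup G) = 3 ^ 2 from
      hP9.trans (by norm_num))
    obtain ⟨a, ha⟩ := mem_zpowers_of_prime_card hcard hψy (g' := ψ ⟨x, hx⟩)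
    set r := (y ^ a)⁻¹ * x with hr
    have hrK : r ∈ fixingSubgroup G F := (hψ ⟨y ^ a, zpow_mem hyP a⟩ ⟨x, hx⟩).1 (by
      rw [← ha]; exact map_zpow ψ ⟨y, hyP⟩ a)
    have hrP : r ∈ (P : Subgroup G) := mul_mem (inv_mem (zpow_mem hyP a)) hx
    have hcm : Commute (⟨y ^ a, zpow_mem hyP a⟩ : (P : Subgroup G)) ⟨r, hrP⟩ := by
      first | exact hcomm _ _ | exact hcomm.comm _ _ | exact hcomm.is_comm.comm _ _
    have hcm' : Commute (y ^ a) r := congrArg Subtype.val hcm.eq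
    have hrz := hC r hrP hrK (congrArg Subtype.val
      (show Commute (⟨r, hrP⟩ : (P : Subgroup G)) ⟨y, hyP⟩ by
        first | exact hcomm _ _ | exact hcomm.comm _ _ | exact hcomm.is_comm.comm _ _).eq)
    obtain ⟨n, hn⟩ := hrz
    have hx' : x = y ^ a * r := by rw [hr, mul_inv_cancel_left]
    have hr3 : r ^ 3 = 1 := by
      rw [show r = z ^ n from hn.symm, ← zpow_natCast, ← zpow_mul, mul_comm, zpow_mul, zpow_natCast, ← hz,
        pow_orderOf_eq_one, one_zpow]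
    rw [hx', hcm'.mul_pow, hr3, mul_one, ← zpow_natCast, ← zpow_mul, mul_comm, zpow_mul, zpow_natCast, hy3,
      one_zpow]

/-- Odd point stabilisers of order divisible by three. -/
theorem odd_case (hS : Setting G Ω) (ho : OddStab G Ω) {a : Ω} (h3 : 3 ∣ Nat.card (stabilizer G a)) :
    (∃ H : Subgroup G, H ≠ ⊤ ∧ 3 ∣ Nat.card H ∧
      ∀ g : G, g ∉ H → ¬ 3 ∣ Nat.card ↥(H ⊓ H.map (MulAut.conj g).toMonoidHom)) ∨
    ∀ P : Sylow 3 G, Nat.card P = 9 ∧ ∀ x ∈ (P : Subgroup G), x ^ 3 = 1 := by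
  classical
  have hp3 : Fact (Nat.Prime 3) := ⟨Nat.prime_three⟩
  obtain ⟨⟨x₀, hx₀a⟩, hx₀⟩ := exists_prime_orderOf_dvd_card' 3 h3
  rw [Subgroup.orderOf_mk] at hx₀
  have : Nonempty {g : G // orderOf g = 3} := ⟨⟨x₀, hx₀⟩⟩
  obtain ⟨⟨x, hx⟩, hmax⟩ := Finite.exists_max fun g : {g : G // orderOf g = 3} => (fixedBy Ω (g : G)).ncard
  set F := fixedBy Ω x with hF
  have hne : F.Nonempty := by
    refine (Set.ncard_pos (Set.toFinite _)).1 (lt_of_lt_of_le ?_ (hmax ⟨x₀, hx₀⟩))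
    exact (Set.ncard_pos (Set.toFinite _)).2 ⟨a, mem_stabilizer_iff.1 hx₀a⟩
  have hx1 : x ≠ 1 := fun e => by rw [e, orderOf_one] at hx; exact absurd hx (by norm_num)
  have hB : Block G 3 F := ⟨hne, hS.le4 x hx1, fun g hg hgF =>
    (Set.eq_of_subset_of_ncard_le (mem_fix.1 hgF) (hmax ⟨g, hg⟩)).symm⟩
  have hxK : x ∈ fixingSubgroup G F := mem_fix.2 subset_rfl
  by_cases hall : ∀ y ∈ stabilizer G F, orderOf y = 3 → y ∈ fixingSubgroup G F
  · refine Or.inl ⟨stabilizer G F, hS.stab_ne_top hne hB.le, ?_, hB.not_dvd_inf hall⟩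
    rw [← hx, ← Subgroup.orderOf_mk x (fix_le_stab hxK)]
    exact orderOf_dvd_natCard _
  push Not at hall
  obtain ⟨y, hyM, hy, hyK⟩ := hall
  obtain ⟨k, hk⟩ : ∃ k, F.ncard = k := ⟨_, rfl⟩
  have hk34 : k = 3 ∨ k = 4 := by
    have h := hB.le
    rw [hk] at h
    by_contra hcon
    have hk2 : k ≤ 2 := by omega
    refine hyK ((perm_eq_one hk (g := ⟨y, hyM⟩)).1 (orderOf_eq_one_iff.1 ?_))
    have h1 : orderOf (perm hk ⟨y, hyM⟩) ∣ 3 := hy ▸ (orderOf_map_dvd _ _).trans (Subgroup.orderOf_mk y hyM).dvd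
    have h2 : orderOf (perm hk ⟨y, hyM⟩) ∣ 2 := (orderOf_dvd_natCard _).trans (by
      rw [Nat.card_perm, Nat.card_fin]
      interval_cases k <;> decide)
    exact Nat.eq_one_of_dvd_coprimes (by norm_num) h1 h2
  obtain ⟨P₀, hP₀, hyP₀⟩ := exists_frame (F := F) (A := Subgroup.zpowers y)
    (IsPGroup.of_card (p := 3) (n := 1) (by rw [Nat.card_zpowers, hy, pow_one]))
    (Subgroup.zpowers_le.2 hyM)
  obtain ⟨t, htP, ht, htK⟩ : ∃ t ∈ (P₀ : Subgroup G), orderOf t = 3 ∧ t ∈ fixingSubgroup G F := by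
    set R := (P₀ : Subgroup G) ⊓ fixingSubgroup G F
    have hxp : IsPGroup 3 (Subgroup.zpowers x) :=
      IsPGroup.of_card (p := 3) (n := 1) (by rw [Nat.card_zpowers, hx, pow_one])
    have h := (sylIn_fix hP₀).card_le hxp (Subgroup.zpowers_le.2 hxK)
    rw [Nat.card_zpowers, hx] at h
    obtain ⟨n, hn⟩ := IsPGroup.iff_card.1 (P₀.isPGroup'.to_inf_left (K := fixingSubgroup G F))
    have h1 : 3 ∣ Nat.card R := by
      rw [hn] at h ⊢
      rcases n with _ | n
      · norm_num at h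
      · exact dvd_pow_self 3 (Nat.succ_ne_zero n)
    obtain ⟨⟨t, ht⟩, htord⟩ := exists_prime_orderOf_dvd_card' 3 h1
    rw [Subgroup.orderOf_mk] at htord
    exact ⟨t, ht.1, htord, ht.2⟩
  have hle := le_stab_of_odd hS ho hB hk hk34 hP₀ htP ht htK
  obtain ⟨h9, hexp⟩ := nine_of_sylow_le hS ho hB hk hk34 hle (hyP₀ (Subgroup.mem_zpowers y)) hy hyK htP ht htK
  refine Or.inr fun P => ⟨?_, fun z hz => ?_⟩
  · rw [← h9]
    exact Nat.card_congr (Sylow.equiv P P₀).toEquiv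
  · have h := hexp _ (Sylow.equiv P P₀ ⟨z, hz⟩).2
    have h' : (Sylow.equiv P P₀) (⟨z, hz⟩ ^ 3) = 1 := by
      rw [map_pow]
      exact Subtype.ext h
    exact congrArg Subtype.val ((map_eq_one_iff _ (MulEquiv.injective _)).1 h')

end Cfsg.Agent.Perm.FixFour
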