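import Cfsg.Agent.Lib.Perm.FixFour.OddBase
import Cfsg.Agent.Lib.Solv.MaxClass

/-!
Odd point stabilisers: the stabiliser of a block contains a Sylow 3-subgroup.
-/

set_option autoImplicit false
set_option linter.unusedSectionVars false
set_option linter.style.haveILetI false

open MulAction
open scoped Pointwise

namespace Cfsg.Agent.Perm.FixFour

open Cfsg.Agent.Fusion (SylIn cj mem_cj conj_mem_cj cj_eq_self cj_mono card_cj isPGroup_cj)

universe u v

/-- A set meeting no set of inverses in a group of order nine, with product one, has a multiple of three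
members. -/
theorem no_balanced_set {A : Type*} [CommGroup A] [Finite A] (hA : Nat.card A = 9) (s : Finset A)
    (h3 : ∀ v ∈ s, v ^ 3 = 1) (h1 : ∀ v ∈ s, v ≠ 1) (hinv : ∀ v ∈ s, v⁻¹ ∉ s)
    (hprod : ∏ v ∈ s, v = 1) : 3 ∣ s.card := by
  classical
  letI := Fintype.ofFinite A
  have hneq : ∀ v ∈ s, ∀ w ∈ s, v ≠ w⁻¹ := fun v hv w hw h => hinv w hw (h ▸ hv)
  have hcard : (s ∪ s.image (·⁻¹)).card = 2 * s.card := by
    rw [Finset.card_union_of_disjoint, Finset.card_image_of_injective _ inv_injective]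
    · ring
    · rw [Finset.disjoint_left]
      intro v hv hv'
      obtain ⟨w, hw, rfl⟩ := Finset.mem_image.1 hv'
      exact hinv w hw hv
  have hsub : s ∪ s.image (·⁻¹) ⊆ Finset.univ.erase 1 := by
    intro v hv
    refine Finset.mem_erase.2 ⟨?_, Finset.mem_univ _⟩
    rcases Finset.mem_union.1 hv with h | h
    · exact h1 v h
    · obtain ⟨w, hw, rfl⟩ := Finset.mem_image.1 h
      exact inv_ne_one.2 (h1 w hw)
  have he : (Finset.univ.erase (1 : A)).card = 8 := by
    rw [Finset.card_erase_of_mem (Finset.mem_univ _), Finset.card_univ, ← Nat.card_eq_fintype_card, hA]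
  have h4 : s.card ≤ 4 := by
    have := Finset.card_le_card hsub
    omega
  rcases (show s.card = 0 ∨ s.card = 1 ∨ s.card = 2 ∨ s.card = 3 ∨ s.card = 4 by omega) with
    h | h | h | h | h
  · rw [h]; exact dvd_zero 3
  · obtain ⟨v, rfl⟩ := Finset.card_eq_one.1 h
    rw [Finset.prod_singleton] at hprod
    exact absurd hprod (h1 v (Finset.mem_singleton_self v))
  · obtain ⟨v, w, hvw, rfl⟩ := Finset.card_eq_two.1 h
    rw [Finset.prod_pair hvw] at hprod
    exact absurd (eq_inv_of_mul_eq_one_left hprod)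
      (hneq v (Finset.mem_insert_self v _) w (Finset.mem_insert_of_mem (Finset.mem_singleton_self w)))
  · rw [h]
  · exfalso
    have hall : ∀ a : A, a ≠ 1 → a ∈ s ∨ a⁻¹ ∈ s := fun a ha => by
      have : a ∈ s ∪ s.image (·⁻¹) := by
        rw [Finset.eq_of_subset_of_card_le hsub (by omega)]
        exact Finset.mem_erase.2 ⟨ha, Finset.mem_univ _⟩
      rcases Finset.mem_union.1 this with h' | h'
      · exact Or.inl h'
      · obtain ⟨b, hb, rfl⟩ := Finset.mem_image.1 h'
        exact Or.inr (by rwa [inv_inv])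
    obtain ⟨v, hv⟩ : s.Nonempty := Finset.card_pos.1 (by omega)
    obtain ⟨w, hw, hwv⟩ := Finset.exists_mem_ne (by omega : 1 < s.card) v
    have cube : ∀ x ∈ s, x * x = x⁻¹ := fun x hx => eq_inv_of_mul_eq_one_left (by
      rw [← pow_two, ← pow_succ, h3 x hx])
    have hv3 : v * v * v = 1 := by rw [cube v hv, inv_mul_cancel]
    have hw3 : w * w * w = 1 := by rw [cube w hw, inv_mul_cancel]
    -- the third and fourth member
    obtain ⟨a, ha, haeq⟩ : ∃ a ∈ s, a = v * w ∨ a = (v * w)⁻¹ := by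
      rcases hall (v * w) (fun e => hneq v hv w hw (eq_inv_of_mul_eq_one_left e)) with h' | h'
      · exact ⟨_, h', Or.inl rfl⟩
      · exact ⟨_, h', Or.inr rfl⟩
    obtain ⟨b, hb, hbeq⟩ : ∃ b ∈ s, b = v * w⁻¹ ∨ b = (v * w⁻¹)⁻¹ := by
      rcases hall (v * w⁻¹) (fun e => hwv.symm (mul_inv_eq_one.1 e)) with h' | h'
      · exact ⟨_, h', Or.inl rfl⟩
      · exact ⟨_, h', Or.inr rfl⟩
    have hv1 := h1 v hv
    have hw1 := h1 w hw
    have hv1' : v⁻¹ ≠ 1 := inv_ne_one.2 hv1
    have n_av : a ≠ v := by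
      intro e0
      rw [e0] at haeq
      rcases haeq with e | e
      · exact hw1 (mul_eq_left.1 e.symm)
      · refine hneq v hv w hw ?_
        have h' : v * (v * w) = 1 := mul_eq_one_iff_eq_inv.2 e
        rw [← mul_assoc, cube v hv] at h'
        exact absurd (inv_mul_eq_one.1 h') hwv.symm
    have n_aw : a ≠ w := by
      intro e0
      rw [e0] at haeq
      rcases haeq with e | e
      · exact hv1 (mul_eq_right.1 e.symm)
      · have h' : w * (v * w) = 1 := mul_eq_one_iff_eq_inv.2 e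
        rw [mul_comm v, ← mul_assoc, cube w hw] at h'
        exact hwv (inv_mul_eq_one.1 h')
    have n_bv : b ≠ v := by
      intro e0
      rw [e0] at hbeq
      rcases hbeq with e | e
      · exact hw1 (inv_eq_one.1 (mul_eq_left.1 e.symm))
      · have h' : v * (v * w⁻¹) = 1 := mul_eq_one_iff_eq_inv.2 e
        rw [← mul_assoc, cube v hv, ← mul_inv, inv_eq_one] at h'
        exact hneq v hv w hw (eq_inv_of_mul_eq_one_left h')
    have n_bw : b ≠ w := by
      intro e0
      rw [e0] at hbeq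
      rcases hbeq with e | e
      · have h' : v = w * w := (mul_inv_eq_iff_eq_mul.1 e.symm)
        rw [cube w hw] at h'
        exact hneq v hv w hw h'
      · rw [mul_inv, inv_inv] at e
        exact hv1' (mul_eq_right.1 e.symm)
    have n_ab : a ≠ b := by
      intro e
      have key : w * w = 1 ∨ v * v = 1 := by
        rcases haeq with ea | ea <;> rcases hbeq with eb | eb <;> rw [ea, eb] at e
        · left
          have := mul_left_cancel e
          calc w * w = w * w⁻¹ := by rw [← this]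
            _ = 1 := mul_inv_cancel w
        · right
          rw [mul_inv, inv_inv] at e
          have := mul_right_cancel e
          calc v * v = v * v⁻¹ := by rw [← this]
            _ = 1 := mul_inv_cancel v
        · right
          rw [mul_inv] at e
          have := mul_right_cancel e
          calc v * v = v⁻¹ * v := by rw [this]
            _ = 1 := inv_mul_cancel v
        · left
          have := mul_left_cancel (inv_injective e)
          calc w * w = w * w⁻¹ := by rw [← this]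
            _ = 1 := mul_inv_cancel w
      rcases key with k | k
      · rw [cube w hw, inv_eq_one] at k; exact hw1 k
      · rw [cube v hv, inv_eq_one] at k; exact hv1 k
    have hs : s = {v, w, a, b} := by
      refine (Finset.eq_of_subset_of_card_le ?_ ?_).symm
      · intro x hx
        simp only [Finset.mem_insert, Finset.mem_singleton] at hx
        rcases hx with rfl | rfl | rfl | rfl <;> assumption
      · rw [h, Finset.card_insert_of_notMem (by simp [hwv.symm, n_av.symm, n_bv.symm]),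
          Finset.card_insert_of_notMem (by simp [n_aw.symm, n_bw.symm]), Finset.card_pair n_ab]
    rw [hs, Finset.prod_insert (by simp [hwv.symm, n_av.symm, n_bv.symm]),
      Finset.prod_insert (by simp [n_aw.symm, n_bw.symm]), Finset.prod_pair n_ab] at hprod
    rcases haeq with rfl | rfl <;> rcases hbeq with rfl | rfl
    · apply hw1
      rw [← hprod, show v * (w * (v * w * (v * w⁻¹))) = v * v * v * w * (w * w⁻¹) by ac_rfl, hv3,
        mul_inv_cancel, one_mul, mul_one]
    · apply hv1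
      rw [← hprod, mul_inv, inv_inv, show v * (w * (v * w * (v⁻¹ * w))) = v * (v * v⁻¹) * (w * w * w) by ac_rfl,
        hw3, mul_inv_cancel, mul_one, mul_one]
    · rw [mul_inv, show v * (w * (v⁻¹ * w⁻¹ * (v * w⁻¹))) = v * w⁻¹ * (v * v⁻¹) * (w * w⁻¹) by ac_rfl,
        mul_inv_cancel, mul_inv_cancel, mul_one, mul_one, mul_inv_eq_one] at hprod
      exact absurd hprod hwv.symm
    · apply hv1
      rw [mul_inv, mul_inv, inv_inv,
        show v * (w * (v⁻¹ * w⁻¹ * (v⁻¹ * w))) = v⁻¹ * w * ((v * v⁻¹) * (w * w⁻¹)) by ac_rfl,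
        mul_inv_cancel, mul_inv_cancel, mul_one, mul_one, inv_mul_eq_one] at hprod
      exact absurd hprod hwv.symm

variable {G : Type u} {Ω : Type v} [Group G] [Finite G] [MulAction G Ω] [Finite Ω] {F : Set Ω}

theorem card_prime_pow_dvd {X : Subgroup G} (hX : IsPGroup 3 X) {k : ℕ} (hk : k = 3 ∨ k = 4)
    (h : Nat.card X ∣ k.factorial) : Nat.card X ≤ 3 := by
  obtain ⟨a, ha⟩ := IsPGroup.iff_card.1 hX
  rw [ha] at h ⊢
  have h24 : 3 ^ a ∣ 24 := h.trans (by rcases hk with rfl | rfl <;> decide)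
  by_contra hle
  have h2 : 2 ≤ a := by
    by_contra h2
    exact hle ((Nat.pow_le_pow_right (by norm_num) (show a ≤ 1 by omega)).trans (by norm_num))
  exact absurd ((pow_dvd_pow 3 h2).trans h24) (by norm_num)

theorem one_lt_card_of_mem {X : Subgroup G} {x : G} (hx : x ∈ X) (h : x ≠ 1) : 1 < Nat.card X :=
  haveI : Nontrivial X := ⟨⟨⟨x, hx⟩, 1, fun e => h (congrArg Subtype.val e)⟩⟩
  Finite.one_lt_card

theorem three_le_card {X : Subgroup G} (hX : IsPGroup 3 X) {x : G} (hx : x ∈ X) (h : x ≠ 1) :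
    3 ≤ Nat.card X := by
  obtain ⟨a, ha⟩ := IsPGroup.iff_card.1 hX
  have h1 := one_lt_card_of_mem hx h
  rw [ha] at h1 ⊢
  rcases a with _ | a
  · simp at h1
  · calc 3 = 3 ^ 1 := by norm_num
      _ ≤ _ := Nat.pow_le_pow_right (by norm_num) (by omega)

theorem nine_le_card {X : Subgroup G} (hX : IsPGroup 3 X) {x z : G} (hx : x ∈ X) (hz : z ∈ X)
    (hx1 : x ≠ 1) (h : z ∉ Subgroup.zpowers x) : 9 ≤ Nat.card X := by
  obtain ⟨a, ha⟩ := IsPGroup.iff_card.1 hX
  have hle : Subgroup.zpowers x ≤ X := Subgroup.zpowers_le.2 hx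
  have h3 := three_le_card (hX.to_le hle) (Subgroup.mem_zpowers x) hx1
  have hlt : Nat.card (Subgroup.zpowers x) < Nat.card X :=
    (Subgroup.card_le_of_le hle).lt_of_ne fun e => h ((Subgroup.eq_of_le_of_card_ge hle e.ge).symm ▸ hz)
  rw [ha] at hlt ⊢
  have ha2 : 2 ≤ a := by
    by_contra h2
    have := Nat.pow_le_pow_right (show 0 < 3 by norm_num) (show a ≤ 1 by omega)
    omega
  calc 9 = 3 ^ 2 := by norm_num
    _ ≤ _ := Nat.pow_le_pow_right (by norm_num) ha2

theorem card_frame_le {P : Sylow 3 G}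
    {k : ℕ} (hk : F.ncard = k) (hk34 : k = 3 ∨ k = 4) :
    Nat.card ((P : Subgroup G) ⊓ stabilizer G F : Subgroup G) ≤
      Nat.card ((P : Subgroup G) ⊓ fixingSubgroup G F : Subgroup G) * 3 := by
  set Q := (P : Subgroup G) ⊓ stabilizer G F
  have hQ : Q ⊓ fixingSubgroup G F = (P : Subgroup G) ⊓ fixingSubgroup G F := by
    rw [inf_assoc, inf_eq_right.2 fix_le_stab]
  have h := Subgroup.card_mul_index ((Q ⊓ fixingSubgroup G F).subgroupOf Q)
  rw [Nat.card_congr (Subgroup.subgroupOfEquivOfLe (inf_le_left : Q ⊓ fixingSubgroup G F ≤ Q)).toEquiv] at h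
  change _ * (Q ⊓ fixingSubgroup G F).relIndex Q = _ at h
  rw [← h, hQ]
  refine Nat.mul_le_mul_left _ ?_
  have hd : (Q ⊓ fixingSubgroup G F).relIndex Q ∣ Nat.card Q := Subgroup.relIndex_dvd_card _ _
  rw [hQ] at hd
  obtain ⟨a, ha⟩ := IsPGroup.iff_card.1 (P.isPGroup'.to_inf_left (K := stabilizer G F))
  rw [ha] at hd
  obtain ⟨b, -, hb⟩ := (Nat.dvd_prime_pow Nat.prime_three).1 hd
  have h24 : 3 ^ b ∣ 24 := by
    have h' := relIndex_dvd (G := G) hk (Q := Q) inf_le_right
    rw [hQ, hb] at h'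
    exact h'.trans (by rcases hk34 with rfl | rfl <;> decide)
  rw [hb]
  by_contra hle
  have h2 : 2 ≤ b := by
    by_contra h2
    exact hle ((Nat.pow_le_pow_right (by norm_num) (show b ≤ 1 by omega)).trans (by norm_num))
  exact absurd ((pow_dvd_pow 3 h2).trans h24) (by norm_num)

theorem le_stab_of_odd (hS : Setting G Ω) (ho : OddStab G Ω) (hB : Block G 3 F) {k : ℕ} (hk : F.ncard = k)
    (hk34 : k = 3 ∨ k = 4) {P : Sylow 3 G}
    (hP : SylIn 3 ((P : Subgroup G) ⊓ stabilizer G F) (stabilizer G F)) {t : G} (htP : t ∈ (P : Subgroup G))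
    (ht : orderOf t = 3) (htK : t ∈ fixingSubgroup G F) : (P : Subgroup G) ≤ stabilizer G F := by
  classical
  by_contra hne
  have hp3 : Fact (Nat.Prime 3) := ⟨Nat.prime_three⟩
  set Q := (P : Subgroup G) ⊓ stabilizer G F with hQdef
  set R := (P : Subgroup G) ⊓ fixingSubgroup G F with hRdef
  have hR3 : Nat.card R ≤ 3 := card_prime_pow_dvd P.isPGroup'.to_inf_left hk34 (card_fix_dvd hB hne hk)
  have hQ9 : Nat.card Q ≤ 9 := (card_frame_le hk hk34).trans (by
    have := Nat.mul_le_mul_right 3 hR3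
    omega)
  have ht1 : t ≠ 1 := fun e => by rw [e, orderOf_one] at ht; exact absurd ht (by norm_num)
  have hsmall : ∀ U : Subgroup G, IsPGroup 3 U → U ≤ stabilizer G F → Nat.card U ≤ 9 := fun U hU hUM =>
    (hP.card_le hU hUM).trans hQ9
  -- a central element of order three
  haveI : Nontrivial (P : Subgroup G) := ⟨⟨⟨t, htP⟩, 1, fun e => ht1 (congrArg Subtype.val e)⟩⟩
  obtain ⟨z, hzP, hz, hzc⟩ : ∃ z ∈ (P : Subgroup G), orderOf z = 3 ∧ ∀ q ∈ (P : Subgroup G), q * z = z * q := by
    haveI := P.isPGroup'.center_nontrivial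
    obtain ⟨⟨c, hc⟩, hc1⟩ := exists_ne (1 : Subgroup.center (P : Subgroup G))
    obtain ⟨j, hj⟩ := exists_pow_order (p := 3) P.isPGroup' c.2
      fun e => hc1 (Subtype.ext (Subtype.ext e))
    refine ⟨_, pow_mem c.2 j, hj, fun q hq => ?_⟩
    exact congrArg Subtype.val (((show Commute (⟨q, hq⟩ : (P : Subgroup G)) c from
      Subgroup.mem_center_iff.1 hc _).pow_right j).eq)
  have hz1 : z ≠ 1 := fun e => by rw [e, orderOf_one] at hz; exact absurd hz (by norm_num)
  have hzK : ∀ g : G, z ∈ fixingSubgroup G (g • F) → False := fun g hg => by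
    have hle : cj (P : Subgroup G) g⁻¹ ≤ stabilizer G F := fun q hq => by
      rw [mem_cj, inv_inv] at hq
      have h := (hB.translate g).centralizer_le hz hg (hzc _ hq)
      rw [← mem_stab_conj g]
      exact h
    have h9 := hsmall _ (isPGroup_cj P.isPGroup' g⁻¹) hle
    rw [card_cj] at h9
    refine hne (inf_eq_left.1 (Subgroup.eq_of_le_of_card_ge inf_le_left (h9.trans ?_)))
    refine nine_le_card (x := t) (z := z) P.isPGroup'.to_inf_left ⟨htP, fix_le_stab htK⟩
      ⟨hzP, hB.centralizer_le ht htK (hzc t htP).symm⟩ ht1 fun hm => hne fun q hq =>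
        hB.centralizer_le hz (Subgroup.zpowers_le.2 htK hm) (hzc q hq)
  have hzM : z ∈ stabilizer G F := hB.centralizer_le ht htK (hzc t htP).symm
  have hzK0 : z ∉ fixingSubgroup G F := fun h => hzK 1 (by rwa [one_smul])
  set zM : stabilizer G F := ⟨z, hzM⟩
  have hpz1 : perm hk zM ≠ 1 := fun e => hzK0 ((perm_eq_one hk).1 e)
  have hpz3 : perm hk zM ^ 3 = 1 := by
    rw [← map_pow, show zM ^ 3 = 1 from Subtype.ext (by
      rw [SubmonoidClass.coe_pow]; exact hz ▸ pow_orderOf_eq_one z), map_one]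
  have hP27 : 27 ≤ Nat.card (P : Subgroup G) := by
    obtain ⟨a, ha⟩ := IsPGroup.iff_card.1 P.isPGroup'
    have h9 : 9 ≤ Nat.card Q := nine_le_card (x := t) (z := z) P.isPGroup'.to_inf_left
      ⟨htP, fix_le_stab htK⟩ ⟨hzP, hzM⟩ ht1 fun hm => hzK0 (Subgroup.zpowers_le.2 htK hm)
    have hlt : Nat.card Q < Nat.card (P : Subgroup G) :=
      (Subgroup.card_le_of_le (inf_le_left : Q ≤ _)).lt_of_ne fun e =>
        hne (inf_eq_left.1 (Subgroup.eq_of_le_of_card_ge inf_le_left e.ge))
    rw [ha] at hlt ⊢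
    have ha3 : 3 ≤ a := by
      by_contra h2
      have := Nat.pow_le_pow_right (show 0 < 3 by norm_num) (show a ≤ 2 by omega)
      omega
    calc 27 = 3 ^ 3 := by norm_num
      _ ≤ _ := Nat.pow_le_pow_right (by norm_num) ha3
  -- conjugates of `t` in `P` have centralizers of order nine
  set C := Subgroup.centralizer ({t} : Set G)
  have hCP : ∀ (g : G) (hg : g⁻¹ * t * g ∈ (P : Subgroup G)),
      Nat.card (Subgroup.centralizer ({⟨g⁻¹ * t * g, hg⟩} : Set (P : Subgroup G))) = 9 := by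
    intro g hg
    set x := g⁻¹ * t * g with hx
    set U := (Subgroup.centralizer ({⟨x, hg⟩} : Set (P : Subgroup G))).map (P : Subgroup G).subtype
    have hU : ∀ q, q ∈ U → q ∈ (P : Subgroup G) ∧ q * x = x * q := by
      rintro _ ⟨q, hq, rfl⟩
      exact ⟨q.2, congrArg Subtype.val (Subgroup.mem_centralizer_singleton_iff.1 hq)⟩
    have hUp : IsPGroup 3 U := P.isPGroup'.to_le fun q hq => (hU q hq).1
    rw [← Subgroup.card_map_of_injective (P : Subgroup G).subtype_injective]
    refine le_antisymm ?_ ?_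
    · rw [← card_cj U g]
      refine hsmall _ (isPGroup_cj hUp g) fun q hq => ?_
      rw [mem_cj] at hq
      refine hB.centralizer_le ht htK ?_
      have h := (hU _ hq).2
      calc q * t = g * ((g⁻¹ * q * g) * x) * g⁻¹ := by rw [hx]; group
        _ = g * (x * (g⁻¹ * q * g)) * g⁻¹ := by rw [h]
        _ = t * q := by rw [hx]; group
    · refine nine_le_card (x := x) (z := z) hUp
        ⟨⟨x, hg⟩, Subgroup.mem_centralizer_singleton_iff.2 rfl, rfl⟩
        ⟨⟨z, hzP⟩, Subgroup.mem_centralizer_singleton_iff.2 (Subtype.ext (hzc x hg).symm), rfl⟩ ?_ ?_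
      · intro e
        rw [hx] at e
        exact ht1 (by
          calc t = g * (g⁻¹ * t * g) * g⁻¹ := by group
            _ = 1 := by rw [e]; group)
      · intro hm
        refine hzK g⁻¹ (Subgroup.zpowers_le.2 ?_ hm)
        have h := (mem_fix_conj (F := F) g⁻¹ t).2 htK
        rwa [inv_inv] at h
  set A := Abelianization (P : Subgroup G)
  let ψ : (P : Subgroup G) →* A := Abelianization.of
  have hidx : ∀ (g : G) (hg : g⁻¹ * t * g ∈ (P : Subgroup G)),
      (commutator (P : Subgroup G)).index = 9 ∧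
        ∀ q : (P : Subgroup G), ψ q = ψ ⟨g⁻¹ * t * g, hg⟩ →
          ∃ p : (P : Subgroup G), q = p * ⟨g⁻¹ * t * g, hg⟩ * p⁻¹ := by
    intro g hg
    set x : (P : Subgroup G) := ⟨g⁻¹ * t * g, hg⟩
    set U := Subgroup.centralizer ({x} : Set (P : Subgroup G))
    obtain ⟨n, hn⟩ := IsPGroup.iff_card.1 P.isPGroup'
    have hge := Solv.commutator_index_ge_sq P.isPGroup' hn (by
      by_contra h
      have := Nat.pow_le_pow_right (show 0 < 3 by norm_num) (show n ≤ 1 by omega)
      omega)
    let f : (P : Subgroup G) ⧸ U → commutator (P : Subgroup G) := fun c =>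
      ⟨c.out * x * c.out⁻¹ * x⁻¹, by
        rw [commutator_def]
        exact Subgroup.commutator_mem_commutator (Subgroup.mem_top _) (Subgroup.mem_top _)⟩
    have hf : Function.Injective f := by
      intro c d hcd
      have h : c.out * x * c.out⁻¹ = d.out * x * d.out⁻¹ := mul_right_cancel (congrArg Subtype.val hcd)
      rw [← QuotientGroup.out_eq' c, ← QuotientGroup.out_eq' d, QuotientGroup.eq,
        Subgroup.mem_centralizer_singleton_iff]
      calc c.out⁻¹ * d.out * x = c.out⁻¹ * (d.out * x * d.out⁻¹) * d.out := by group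
        _ = x * (c.out⁻¹ * d.out) := by rw [← h]; group
    have hle := Nat.card_le_card_of_injective f hf
    have hU9 : Nat.card U = 9 := hCP g hg
    have h1 := U.card_mul_index
    have h2 := (commutator (P : Subgroup G)).card_mul_index
    rw [hU9, ← h2] at h1
    rw [← Subgroup.index_eq_card] at hle
    have hidx9 : (commutator (P : Subgroup G)).index = 9 := by
      refine le_antisymm ?_ (by norm_num at hge; exact hge)
      refine Nat.le_of_mul_le_mul_left ?_ (Nat.card_pos (α := commutator (P : Subgroup G)))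
      rw [← h1, mul_comm]
      exact Nat.mul_le_mul_right 9 hle
    refine ⟨hidx9, fun q hq => ?_⟩
    rw [hidx9, mul_comm] at h1
    have hbij : Function.Bijective f := (Nat.bijective_iff_injective_and_card f).2
      ⟨hf, by rw [← Subgroup.index_eq_card]; exact Nat.eq_of_mul_eq_mul_right (by norm_num) h1⟩
    have hmem : q * x⁻¹ ∈ commutator (P : Subgroup G) := by
      rw [← Abelianization.ker_of, MonoidHom.mem_ker, map_mul, map_inv]
      exact mul_inv_eq_one.2 hq
    obtain ⟨c, hc⟩ := hbij.2 ⟨_, hmem⟩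
    exact ⟨c.out, (mul_right_cancel (congrArg Subtype.val hc)).symm⟩
  have ht' : (1 : G)⁻¹ * t * 1 ∈ (P : Subgroup G) := by simpa using htP
  have hA9 : Nat.card A = 9 := by
    rw [← (hidx 1 ht').1, Subgroup.index_eq_card]
    rfl
  haveI : Finite A := Nat.finite_of_card_ne_zero (by rw [hA9]; norm_num)
  letI := Fintype.ofFinite (G ⧸ (P : Subgroup G))
  -- the cosets fixed by `t`
  set Φ := Finset.univ.filter fun q : G ⧸ (P : Subgroup G) => t • q = q with hΦ
  have hΦmem : ∀ q ∈ Φ, ∃ g : G, (g : G ⧸ (P : Subgroup G)) = q ∧ ∃ hg : g⁻¹ * t * g ∈ (P : Subgroup G),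
      val ψ t q = ψ ⟨_, hg⟩ := fun q hq => by
    obtain ⟨g, rfl⟩ := QuotientGroup.mk_surjective q
    have hg := smul_coset_iff.1 (Finset.mem_filter.1 hq).2
    exact ⟨g, rfl, hg, val_mk ψ t g hg⟩
  have hfib : ∀ v ∈ Φ.image (val ψ t), (Φ.filter fun q => val ψ t q = v).card * 9 = Nat.card C := by
    intro v hv
    obtain ⟨q₀, hq₀, rfl⟩ := Finset.mem_image.1 hv
    obtain ⟨g, hgq, hg, hgv⟩ := hΦmem q₀ hq₀
    subst hgq
    have heq : ((Φ.filter fun q => val ψ t q = val ψ t (g : G ⧸ (P : Subgroup G))) : Set (G ⧸ (P : Subgroup G))) =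
        orbit C (g : G ⧸ (P : Subgroup G)) := by
      ext q
      rw [Finset.mem_coe, Finset.mem_filter]
      constructor
      · rintro ⟨hq, hval⟩
        obtain ⟨g', rfl, hg', hg'v⟩ := hΦmem q hq
        rw [hgv, hg'v] at hval
        obtain ⟨r, hr⟩ := (hidx g hg).2 _ hval
        have hr' : g'⁻¹ * t * g' = (r : G) * (g⁻¹ * t * g) * (r : G)⁻¹ := congrArg Subtype.val hr
        refine ⟨⟨g' * r * g⁻¹, Subgroup.mem_centralizer_singleton_iff.2 ?_⟩, ?_⟩
        · calc g' * r * g⁻¹ * t = g' * (r * (g⁻¹ * t * g) * (r : G)⁻¹) * r * g⁻¹ := by group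
            _ = t * (g' * r * g⁻¹) := by rw [← hr']; group
        · change ((g' * r * g⁻¹ * g : G) : G ⧸ (P : Subgroup G)) = _
          rw [inv_mul_cancel_right, QuotientGroup.mk_mul_of_mem _ r.2]
      · rintro ⟨⟨c, hc⟩, rfl⟩
        have hc' : c * t = t * c := Subgroup.mem_centralizer_singleton_iff.1 hc
        have hconj : (c * g)⁻¹ * t * (c * g) = g⁻¹ * t * g := by
          calc (c * g)⁻¹ * t * (c * g) = g⁻¹ * c⁻¹ * (t * c) * g := by group
            _ = g⁻¹ * t * g := by rw [← hc']; group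
        change ((c * g : G) : G ⧸ (P : Subgroup G)) ∈ Φ ∧ _
        refine ⟨Finset.mem_filter.2 ⟨Finset.mem_univ _, smul_coset_iff.2 (hconj ▸ hg)⟩, ?_⟩
        rw [hgv]
        change val ψ t ((c * g : G) : G ⧸ (P : Subgroup G)) = _
        rw [val_mk ψ t _ (hconj ▸ hg)]
        exact congrArg ψ (Subtype.ext hconj)
    have hstab : Nat.card (stabilizer C (g : G ⧸ (P : Subgroup G))) = 9 := by
      rw [← hCP g hg]
      have hmem : ∀ c : C, c ∈ stabilizer C (g : G ⧸ (P : Subgroup G)) ↔ g⁻¹ * c * g ∈ (P : Subgroup G) :=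
        fun c => smul_coset_iff
      refine Nat.card_congr
        { toFun := fun c => ⟨⟨g⁻¹ * c * g, (hmem c.1).1 c.2⟩, Subgroup.mem_centralizer_singleton_iff.2
            (Subtype.ext ?_)⟩
          invFun := fun u => ⟨⟨g * u * g⁻¹, Subgroup.mem_centralizer_singleton_iff.2 ?_⟩, (hmem _).2 ?_⟩
          left_inv := fun c => Subtype.ext (Subtype.ext (by
            change g * (g⁻¹ * (c : G) * g) * g⁻¹ = c
            group))
          right_inv := fun u => Subtype.ext (Subtype.ext (by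
            change g⁻¹ * (g * (u : G) * g⁻¹) * g = u
            group)) }
      · have h := Subgroup.mem_centralizer_singleton_iff.1 c.1.2
        change g⁻¹ * (c : G) * g * (g⁻¹ * t * g) = g⁻¹ * t * g * (g⁻¹ * (c : G) * g)
        calc g⁻¹ * (c : G) * g * (g⁻¹ * t * g) = g⁻¹ * ((c : G) * t) * g := by group
          _ = _ := by rw [h]; group
      · have h : (u : G) * (g⁻¹ * t * g) = g⁻¹ * t * g * u :=
          congrArg Subtype.val (Subgroup.mem_centralizer_singleton_iff.1 u.2)
        calc g * (u : G) * g⁻¹ * t = g * ((u : G) * (g⁻¹ * t * g)) * g⁻¹ := by group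
          _ = _ := by rw [h]; group
      · change g⁻¹ * (g * (u : G) * g⁻¹) * g ∈ _
        rw [show g⁻¹ * (g * (u : G) * g⁻¹) * g = u by group]
        exact u.1.2
    rw [← (stabilizer C (g : G ⧸ (P : Subgroup G))).card_mul_index, hstab, index_stabilizer, ← heq,
      Set.ncard_coe_finset, mul_comm]
  have hmod : Φ.card ≡ (P : Subgroup G).index [MOD 3] := by
    have h := (IsPGroup.of_card (p := 3) (n := 1) (G := Subgroup.zpowers t)
      (by rw [Nat.card_zpowers, ht, pow_one])).card_modEq_card_fixedPoints (G ⧸ (P : Subgroup G))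
    rw [← Subgroup.index_eq_card] at h
    refine Nat.ModEq.trans ?_ h.symm
    refine congrArg (· % 3) ?_
    rw [Nat.card_eq_card_toFinset]
    congr 1
    ext q
    simp only [hΦ, Finset.mem_filter, Finset.mem_univ, true_and, Set.mem_toFinset, mem_fixedPoints]
    refine ⟨fun hq => ?_, fun hq => hq ⟨t, Subgroup.mem_zpowers t⟩⟩
    rintro ⟨_, j, rfl⟩
    exact mem_stabilizer_iff.1 (zpow_mem (mem_stabilizer_iff.2 hq) j)
  have hnd : ¬ 3 ∣ Φ.card := fun h => P.not_dvd_index ((Nat.ModEq.dvd_iff hmod dvd_rfl).1 h)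
  set s := Φ.image (val ψ t) with hs
  have hsum := Finset.card_eq_sum_card_image (val ψ t) Φ
  obtain ⟨v₀, hv₀⟩ : s.Nonempty := by
    refine Finset.Nonempty.image (Finset.card_pos.1 (Nat.pos_of_ne_zero fun e => hnd ?_)) _
    rw [e]; exact dvd_zero 3
  set f := (Φ.filter fun q => val ψ t q = v₀).card with hf
  have hf' : ∀ v ∈ s, (Φ.filter fun q => val ψ t q = v).card = f := fun v hv =>
    Nat.eq_of_mul_eq_mul_right (by norm_num) ((hfib v hv).trans (hfib v₀ hv₀).symm)
  rw [Finset.sum_congr rfl hf', Finset.sum_const, smul_eq_mul] at hsum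
  rw [hsum] at hnd
  have htr : (∏ v ∈ s, v) ^ f = 1 := by
    have hout : ∀ q : G ⧸ (P : Subgroup G), q ∉ Φ → val ψ t q = 1 := fun q hq => dif_neg fun hm => hq (by
      refine Finset.mem_filter.2 ⟨Finset.mem_univ _, ?_⟩
      rw [← QuotientGroup.out_eq' q]
      exact smul_coset_iff.2 hm)
    have h := (transfer_formula ψ ht).symm.trans (hS.hom_trivial _ t)
    rw [← Finset.prod_subset (Finset.subset_univ Φ) fun q _ hq => hout q hq,
      ← Finset.prod_fiberwise_of_maps_to (g := val ψ t) (t := s) (fun q hq => Finset.mem_image_of_mem _ hq),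
      Finset.prod_congr rfl (fun v hv => (Finset.prod_congr rfl fun q hq => (Finset.mem_filter.1 hq).2).trans
        ((Finset.prod_const v).trans (congrArg (v ^ ·) (hf' v hv)))), Finset.prod_pow] at h
    exact h
  have hvs : ∀ v ∈ s, ∃ g, ∃ hg : g⁻¹ * t * g ∈ (P : Subgroup G), v = ψ ⟨_, hg⟩ := fun v hv => by
    obtain ⟨q, hq, rfl⟩ := Finset.mem_image.1 hv
    obtain ⟨g, -, hg, h⟩ := hΦmem q hq
    exact ⟨g, hg, h⟩
  have hcube : ∀ v ∈ s, v ^ 3 = 1 := fun v hv => by
    obtain ⟨g, hg, rfl⟩ := hvs v hv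
    rw [← map_pow]
    refine (congrArg ψ (Subtype.ext ?_)).trans (map_one ψ)
    change (g⁻¹ * t * g) ^ 3 = 1
    rw [show g⁻¹ * t * g = g⁻¹ * t * g⁻¹⁻¹ by group, conj_pow, ← ht, pow_orderOf_eq_one, mul_one, mul_inv_cancel]
  have hprod : ∏ v ∈ s, v = 1 := by
    have h3 : (∏ v ∈ s, v) ^ 3 = 1 := by
      rw [← Finset.prod_pow]
      exact Finset.prod_eq_one hcube
    rcases (Nat.dvd_prime Nat.prime_three).1 (orderOf_dvd_of_pow_eq_one h3) with h | h
    · exact orderOf_eq_one_iff.1 h
    · exfalso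
      refine hnd (dvd_mul_of_dvd_right ?_ _)
      rw [← h]
      exact orderOf_dvd_of_pow_eq_one htr
  have hne1 : ∀ v ∈ s, v ≠ 1 := fun v hv e => by
    obtain ⟨g, hg, rfl⟩ := hvs v hv
    obtain ⟨r, hr⟩ := (hidx g hg).2 1 ((map_one ψ).trans e.symm)
    refine ht1 ?_
    have h : (⟨g⁻¹ * t * g, hg⟩ : (P : Subgroup G)) = 1 := by
      calc _ = r⁻¹ * (r * ⟨g⁻¹ * t * g, hg⟩ * r⁻¹) * r := by group
        _ = 1 := by rw [← hr]; group
    calc t = g * (g⁻¹ * t * g) * g⁻¹ := by group
      _ = 1 := by rw [show g⁻¹ * t * g = 1 from congrArg Subtype.val h]; group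
  have hnoinv : ∀ v ∈ s, v⁻¹ ∉ s := fun v hv hv' => by
    obtain ⟨g, hg, rfl⟩ := hvs v hv
    obtain ⟨g', hg', he⟩ := hvs _ hv'
    obtain ⟨r, hr⟩ := (hidx g hg).2 (⟨_, hg'⟩⁻¹) (by rw [map_inv, ← he, inv_inv])
    have hr' : (g'⁻¹ * t * g')⁻¹ = (r : G) * (g⁻¹ * t * g) * (r : G)⁻¹ := congrArg Subtype.val hr
    refine no_inverter ho hB hk hk34 ht htK (c := zM) ((hzc t htP).symm) hpz3 hpz1 (g' * r * g⁻¹) ?_
    calc g' * r * g⁻¹ * t * (g' * r * g⁻¹)⁻¹ = g' * ((r : G) * (g⁻¹ * t * g) * (r : G)⁻¹) * g'⁻¹ := by group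
      _ = t⁻¹ := by rw [← hr']; group
  exact hnd (dvd_mul_of_dvd_left (no_balanced_set hA9 s hcube hne1 hnoinv hprod) _)

end Cfsg.Agent.Perm.FixFour
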