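import Mathlib

/-!
# Facts on permutations of three or four letters
-/

set_option autoImplicit false
set_option synthInstance.maxSize 4000

namespace Cfsg.Agent.Perm.FixFour.P4

open Equiv Equiv.Perm

/-- The permutations of four letters. -/
abbrev S4 := Equiv.Perm (Fin 4)

/-- The label of the pairing to which `{0, 1}` is sent. -/
def lab (s : S4) : ℕ := Nat.xor (s 0).val (s 1).val

theorem lab_eq : ∀ a b : S4, sign a = 1 → sign b = 1 → a ≠ b → lab a = lab b → (a⁻¹ * b) ^ 2 = 1 := by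
  decide +kernel

theorem lab_mem : ∀ a : S4, lab a = 1 ∨ lab a = 2 ∨ lab a = 3 := by
  decide +kernel

theorem lab_comm : ∀ u a : S4, sign u = 1 → sign a = 1 → u ^ 2 = 1 → u ≠ 1 → a * u = u * a →
    lab a = lab 1 := by
  decide +kernel

theorem even_mul : ∀ s c : S4, sign s = 1 → s ^ 2 = 1 → c ^ 3 = 1 → c ≠ 1 → (c * s) ^ 3 = 1 := by
  decide +kernel

theorem four_cent : ∀ a b : S4, a ^ 2 = 1 → b ^ 2 = 1 → a ≠ 1 → b ≠ 1 → a ≠ b → a * b = b * a →
    ∀ x : S4, x * a = a * x → x * b = b * x → x = 1 ∨ x = a ∨ x = b ∨ x = a * b := by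
  decide +kernel

theorem cube_even : ∀ a : S4, a ^ 3 = 1 → sign a = 1 := by
  decide +kernel

theorem four_cycle : ∀ c s : S4, c ^ 3 = 1 → c ≠ 1 → s ^ 4 = 1 → s ^ 2 ≠ 1 →
    ∃ w ∈ [s * c, s * c ^ 2, s * c * s, s * s * c * s, c * s * c, c ^ 2 * s * c ^ 2],
      w ^ 2 = 1 ∧ w ≠ 1 ∧ ∃ i, w i = i := by
  decide +kernel

theorem invert_fixes : ∀ c s : S4, c ^ 3 = 1 → c ≠ 1 → s * c * s⁻¹ = c⁻¹ →
    s ^ 2 = 1 ∧ s ≠ 1 ∧ ∃ i, s i = i := by
  decide +kernel

theorem three_invert : ∀ c s : Equiv.Perm (Fin 3), c ^ 3 = 1 → c ≠ 1 → s * c * s⁻¹ = c⁻¹ →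
    s ^ 2 = 1 ∧ s ≠ 1 ∧ ∃ i, s i = i := by
  decide +kernel

theorem three_two : ∀ s : Equiv.Perm (Fin 3), s ^ 2 = 1 → ∃ i, s i = i := by
  decide +kernel

theorem four_two_fixed : ∀ s : S4, s ^ 2 = 1 → s ≠ 1 → (∀ i, s i ≠ i) → sign s = 1 := by
  decide +kernel

theorem three_cycle_fixed : ∀ c : S4, c ^ 3 = 1 → ∃ i, c i = i := by
  decide +kernel

theorem transposition : ∀ s : S4, s ^ 2 = 1 → sign s ≠ 1 → ∃ i j : Fin 4, i ≠ j ∧ s i = i ∧ s j = j := by
  decide +kernel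

theorem elem_le : ∀ a b c : S4, a ^ 2 = 1 → b ^ 2 = 1 → c ^ 2 = 1 → a * b = b * a → a * c = c * a →
    b * c = c * b → a = 1 ∨ b = 1 ∨ a = b ∨ c = 1 ∨ c = a ∨ c = b ∨ c = a * b := by
  decide +kernel

end Cfsg.Agent.Perm.FixFour.P4

namespace Cfsg.Agent.Perm.FixFour.P4

open Equiv Equiv.Perm

theorem reflect : ∀ g h : S4, g ^ 4 = 1 → g ^ 2 ≠ 1 → h ^ 4 = 1 → (g * h) ^ 4 = 1 →
    h = 1 ∨ h = g ∨ h = g * g ∨ h = g * g * g ∨ (g * h) ^ 2 = 1 := by
  decide +kernel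

theorem pow_eight : ∀ s : S4, s ^ 8 = 1 → s ^ 4 = 1 := by
  decide +kernel

theorem four_of_two_group {X : Subgroup S4} (hX : IsPGroup 2 X) {g : S4} (hg : g ∈ X) : g ^ 4 = 1 := by
  haveI := Fact.mk Nat.prime_two
  obtain ⟨k, hk⟩ := hX ⟨g, hg⟩
  have hk' : g ^ 2 ^ k = 1 := congrArg Subtype.val hk
  have h24 : orderOf g ∣ 24 := by
    have := orderOf_dvd_natCard g
    rwa [Nat.card_perm, Nat.card_fin] at this
  obtain ⟨b, -, hb⟩ := (Nat.dvd_prime_pow Nat.prime_two).1 (orderOf_dvd_of_pow_eq_one hk')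
  rw [hb] at h24
  refine pow_eight g (orderOf_dvd_iff_pow_eq_one.1 (hb ▸ ?_))
  rcases (show b ≤ 3 ∨ 4 ≤ b by omega) with h | h
  · exact pow_dvd_pow 2 h
  · exact absurd ((pow_dvd_pow 2 h).trans h24) (by norm_num)

/-- An elementary subgroup has order at most four. -/
theorem card_elem_le {X : Subgroup S4} (h : ∀ x ∈ X, x ^ 2 = 1) : Nat.card X ≤ 4 := by
  classical
  have hc : ∀ x ∈ X, ∀ y ∈ X, x * y = y * x := fun x hx y hy => by
    have i : ∀ z ∈ X, z⁻¹ = z := fun z hz => inv_eq_of_mul_eq_one_left (by rw [← pow_two]; exact h z hz)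
    have := i _ (X.mul_mem hx hy)
    rw [mul_inv_rev, i x hx, i y hy] at this
    exact this.symm
  by_cases h1 : ∃ a ∈ X, ∃ b ∈ X, a ≠ 1 ∧ b ≠ 1 ∧ a ≠ b
  · obtain ⟨a, ha, b, hb, ha1, hb1, hab⟩ := h1
    have hsub : (X : Set S4) ⊆ (({1, a, b, a * b} : Finset S4) : Set S4) := fun c hc' => by
      rcases elem_le a b c (h a ha) (h b hb) (h c hc') (hc a ha b hb) (hc a ha c hc') (hc b hb c hc') with
        e | e | e | e | e | e | e
      · exact absurd e ha1
      · exact absurd e hb1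
      · exact absurd e hab
      all_goals simp [e]
    have h4 : Set.ncard (X : Set S4) ≤ ({1, a, b, a * b} : Finset S4).card := by
      rw [← Set.ncard_coe_finset]; exact Set.ncard_le_ncard hsub (Set.toFinite _)
    rw [← Nat.card_coe_set_eq] at h4
    exact h4.trans Finset.card_le_four
  · push Not at h1
    by_cases h2 : ∃ a ∈ X, a ≠ 1
    · obtain ⟨a, ha, ha1⟩ := h2
      have hsub : (X : Set S4) ⊆ (({1, a} : Finset S4) : Set S4) := fun c hc' => by
        by_cases hc1 : c = 1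
        · simp [hc1]
        · simp [h1 a ha c hc' ha1 hc1]
      have h4 : Set.ncard (X : Set S4) ≤ ({1, a} : Finset S4).card := by
        rw [← Set.ncard_coe_finset]; exact Set.ncard_le_ncard hsub (Set.toFinite _)
      rw [← Nat.card_coe_set_eq] at h4
      exact h4.trans (Finset.card_le_two.trans (by norm_num))
    · push Not at h2
      rw [(Subgroup.eq_bot_iff_forall X).2 h2, Subgroup.card_bot]
      norm_num

/-- A subgroup of order four of a larger `2`-group leaves out an involution. -/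
theorem exists_involution_outside {X H : Subgroup S4} (hX : IsPGroup 2 X) (hHX : H ≤ X)
    (hH : Nat.card H = 4) (hne : ¬ X ≤ H) : ∃ e ∈ X, e ∉ H ∧ e ^ 2 = 1 := by
  obtain ⟨g, hg, hgH⟩ := SetLike.not_le_iff_exists.1 hne
  by_cases hg2 : g ^ 2 = 1
  · exact ⟨g, hg, hgH, hg2⟩
  have hg4 := four_of_two_group hX hg
  have hho : orderOf g = 4 := by
    haveI := Fact.mk Nat.prime_two
    refine (orderOf_eq_prime_pow (p := 2) (n := 1) ?_ ?_).trans (by norm_num)
    · simpa using hg2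
    · simpa using hg4
  obtain ⟨h, hh, hhg⟩ : ∃ h ∈ H, h ∉ Subgroup.zpowers g := by
    by_contra hcon
    push Not at hcon
    have : H = Subgroup.zpowers g :=
      Subgroup.eq_of_le_of_card_ge hcon (by rw [Nat.card_zpowers, hho, hH])
    exact hgH (this ▸ Subgroup.mem_zpowers g)
  rcases reflect g h hg4 hg2 (four_of_two_group hX (hHX hh))
    (four_of_two_group hX (X.mul_mem hg (hHX hh))) with e | e | e | e | e
  · exact absurd (e ▸ one_mem _) hhg
  · exact absurd (e ▸ Subgroup.mem_zpowers g) hhg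
  · exact absurd (e ▸ mul_mem (Subgroup.mem_zpowers g) (Subgroup.mem_zpowers g)) hhg
  · exact absurd (e ▸ mul_mem (mul_mem (Subgroup.mem_zpowers g) (Subgroup.mem_zpowers g))
      (Subgroup.mem_zpowers g)) hhg
  · exact ⟨g * h, X.mul_mem hg (hHX hh), fun hm => hgH ((H.mul_mem_cancel_right hh).1 hm), e⟩

end Cfsg.Agent.Perm.FixFour.P4

namespace Cfsg.Agent.Perm.FixFour.P4

open Equiv Equiv.Perm

theorem cube_of_even : ∀ a : S4, sign a = 1 → a ^ 2 ≠ 1 → a ^ 3 = 1 := by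
  decide +kernel

theorem three_even : ∀ s : Equiv.Perm (Fin 3), s ^ 2 = 1 → sign s = 1 → s = 1 := by
  decide +kernel

theorem lab_one : ∀ a b : S4, sign a = 1 → sign b = 1 → lab a = lab b → (a⁻¹ * b) ^ 2 = 1 := by
  decide +kernel

theorem sq_of_comm : ∀ u a : S4, sign u = 1 → sign a = 1 → u ^ 2 = 1 → u ≠ 1 → a * u = u * a → a ^ 2 = 1 := by
  decide +kernel

end Cfsg.Agent.Perm.FixFour.P4

namespace Cfsg.Agent.Perm.FixFour.P4

open Equiv Equiv.Perm

theorem comm_sq : ∀ a b : S4, sign a = 1 → sign b = 1 → (a * b * a⁻¹ * b⁻¹) ^ 2 = 1 := by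
  decide +kernel

theorem sq_commute : ∀ a b : S4, sign a = 1 → sign b = 1 → a ^ 2 = 1 → b ^ 2 = 1 → a * b = b * a := by
  decide +kernel

end Cfsg.Agent.Perm.FixFour.P4
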